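import Cfsg.Agent.F3.W2

/-! Project F3: conjugates of `z` inside `Q`. -/

set_option autoImplicit false
set_option linter.unusedSectionVars false
set_option linter.unusedVariables false

namespace Cfsg.Agent.F3

open Subgroup H49 T3.Fr2

variable {G : Type*} [Group G] [Finite G] {z : G} {Q R : Subgroup G} {Qs : Fin 3 → Subgroup G}
  {r : Fin 3 → G}

namespace I1

omit [Finite G] in
theorem zcases (h : orderOf z = 3) {c : G} (hc : c ∈ zpowers z) (c1 : c ≠ 1) : c = z ∨ c = z⁻¹ := by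
  have z3 : z ^ 3 = 1 := h ▸ pow_orderOf_eq_one z
  rw [← zp_lg h hc] at c1 ⊢
  generalize lg z c = i at c1 ⊢
  have : ∀ i : ZMod 3, i = 0 ∨ i = 1 ∨ i = (2 : ℕ) := by decide
  rcases this i with rfl | rfl | rfl
  · exact absurd (zp_zero z) c1
  · exact Or.inl (zp_one z)
  · rw [zp_natCast z3]
    exact Or.inr (eq_inv_of_mul_eq_one_left (by rw [← pow_succ, z3]))

omit [Finite G] in
theorem mv (h : E1 z Q) {y q : G} (hy : y ∈ Q) (hq : q ∈ Q) (n : ¬ q * y = y * q) :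
    q * y * q⁻¹ = y * z ∨ q * y * q⁻¹ = y * z⁻¹ := by
  have c : Commute y z := mem_cent1.1 (h.Qc hy)
  rcases zcases h.z3 (h.comm q hq y hy) (fun e => n (by
    rwa [mul_inv_eq_one, mul_inv_eq_iff_eq_mul] at e)) with e | e
  · exact Or.inl (by rw [c.eq, ← e, inv_mul_cancel_right])
  · exact Or.inr (by rw [c.inv_right.eq, ← e, inv_mul_cancel_right])

omit [Finite G] in
theorem exists_nc (h : E1 z Q) {y : G} (hy : y ∈ Q) (hn : y ∉ zpowers z) :
    ∃ q ∈ Q, ¬ q * y = y * q := by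
  by_contra H
  push Not at H
  exact hn (h.cen y hy fun b hb => (H b hb).symm)

omit [Finite G] in
theorem not_mem {y : G} (z3 : orderOf z = 3) (y3 : orderOf y = 3) (hn : y ∉ zpowers z) :
    z ∉ zpowers y := fun k => by
  rcases zcases y3 k (fun e => by rw [e, orderOf_one] at z3; omega) with e | e
  · exact hn (e ▸ mem_zpowers _)
  · exact hn (by rw [← inv_mem_iff, ← e]; exact mem_zpowers _)

end I1

open I1

theorem B1.z_mem (h : B1 z Q Qs r R) {g : G} (hy : g * z * g⁻¹ ∈ Q) : z ∈ cj g Q := by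
  have h1 := h.toE1.card_le_cent le_rfl hy
  have na : ¬ Q ⊓ 𝒞[g * z * g⁻¹] ≤ 𝒞(Q ⊓ 𝒞[g * z * g⁻¹]) := fun ab => by
    have := h.ab_le inf_le_left ab
    rw [h.card] at h1
    omega
  obtain ⟨a, ha, n⟩ := SetLike.not_le_iff_exists.1 na
  obtain ⟨b, hb, n⟩ : ∃ b ∈ Q ⊓ 𝒞[g * z * g⁻¹], ¬ b * a = a * b := by
    by_contra H
    push Not at H
    exact n H
  have k := (h.conj g).ab3 (h.toE1.isP.to_inf_left) inf_le_right b hb a ha
  rcases zcases h.z3 (h.comm b hb.1 a ha.1) (fun e => n (by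
    rwa [mul_inv_eq_one, mul_inv_eq_iff_eq_mul] at e)) with e | e
  · exact e ▸ k
  · rw [e] at k
    exact (inv_mem_iff).1 k

omit [Finite G] in
theorem I1.sl2' {y q q' : G} (c : Commute z y) (h1 : Commute q z) (h2 : q * y * q⁻¹ = y * z)
    (h3 : Commute q' y) (h4 : q' * z * q'⁻¹ = z * y) :
    q⁻¹ * q' * q⁻¹ * z * (q⁻¹ * q' * q⁻¹)⁻¹ = y ∧ q⁻¹ * q' * q⁻¹ * y * (q⁻¹ * q' * q⁻¹)⁻¹ = z⁻¹ := by
  have e1 : q⁻¹ * z * q = z := by rw [h1.inv_left.eq, inv_mul_cancel_right]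
  have e2 : q⁻¹ * y * q = y * z⁻¹ := by
    rw [eq_mul_inv_iff_mul_eq]
    calc _ = q⁻¹ * y * q * (q⁻¹ * z * q) := by rw [e1]
      _ = q⁻¹ * (y * z) * q := by group
      _ = _ := by rw [← h2]; group
  have e3 : q' * y * q'⁻¹ = y := by rw [h3.eq, mul_inv_cancel_right]
  constructor
  · calc _ = q⁻¹ * (q' * (q⁻¹ * z * q) * q'⁻¹) * q := by group
      _ = q⁻¹ * (z * y) * q := by rw [e1, h4]
      _ = q⁻¹ * z * q * (q⁻¹ * y * q) := by group
      _ = _ := by rw [e1, e2, ← mul_assoc, c.eq, mul_inv_cancel_right]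
  · calc _ = q⁻¹ * (q' * (q⁻¹ * y * q) * q'⁻¹) * q := by group
      _ = q⁻¹ * (q' * y * q'⁻¹ * (q' * z * q'⁻¹)⁻¹) * q := by rw [e2]; group
      _ = (q⁻¹ * z * q)⁻¹ := by rw [e3, h4, c.eq, mul_inv_rev y, c.inv_inv.eq]; group
      _ = _ := by rw [e1]

omit [Finite G] in
theorem I1.flip {y q : G} (h1 : Commute q z) (h2 : q * y * q⁻¹ = y * z ∨ q * y * q⁻¹ = y * z⁻¹) :
    ∃ u ∈ zpowers q, Commute u z ∧ u * y * u⁻¹ = y * z := by
  rcases h2 with e | e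
  · exact ⟨q, mem_zpowers _, h1, e⟩
  · refine ⟨q⁻¹, inv_mem (mem_zpowers _), h1.inv_left, ?_⟩
    calc _ = q⁻¹ * (y * z⁻¹) * (z * q) := by group
      _ = _ := by rw [← e, ← h1.eq]; group

omit [Finite G] in
/-- `SL₂(3)` on `⟨z, y⟩` -/
theorem sl2 {y q q' : G} (z3 : z ^ 3 = 1) (y3 : y ^ 3 = 1) (c : Commute z y) (h1 : Commute q z)
    (h2 : q * y * q⁻¹ = y * z ∨ q * y * q⁻¹ = y * z⁻¹) (h3 : Commute q' y)
    (h4 : q' * z * q'⁻¹ = z * y ∨ q' * z * q'⁻¹ = z * y⁻¹) :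
    ∃ p ∈ closure ({q, q'} : Set G), p * z * p⁻¹ = y ∧ p * y * p⁻¹ = z⁻¹ := by
  obtain ⟨u, hu, u1, u2⟩ := flip h1 h2
  obtain ⟨v, hv, v1, v2⟩ := flip h3 h4
  have hu : u ∈ closure ({q, q'} : Set G) := zpowers_le.2 (subset_closure (by simp)) hu
  have hv : v ∈ closure ({q, q'} : Set G) := zpowers_le.2 (subset_closure (by simp)) hv
  exact ⟨_, mul_mem (mul_mem (inv_mem hu) hv) (inv_mem hu), sl2' c u1 u2 v1 v2⟩

omit [Finite G] in
theorem I1.sl2E {y q q' : G} {Q' : Subgroup G} (h : E1 z Q) (h' : E1 y Q') (hy : y ∈ Q) (hz : z ∈ Q')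
    (hq : q ∈ Q) (hq' : q' ∈ Q') (n : ¬ q * y = y * q) (n' : ¬ q' * z = z * q') :
    ∃ p ∈ closure ({q, q'} : Set G), p * z * p⁻¹ = y ∧ p * y * p⁻¹ = z⁻¹ :=
  sl2 (Fa.z3' h) (Fa.z3' h') (mem_cent1.1 (h.Qc hy)).symm (mem_cent1.1 (h.Qc hq)) (mv h hy hq n)
    (mem_cent1.1 (h'.Qc hq')) (mv h' hz hq' n')

theorem B1.real (h : B1 z Q Qs r R) {g : G} (hy : g * z * g⁻¹ ∈ Q) (hn : g * z * g⁻¹ ∉ zpowers z) :
    ∃ p : G, p * z * p⁻¹ = z⁻¹ := by
  have h' := h.toE1.conj g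
  obtain ⟨q, hq, n⟩ := exists_nc h.toE1 hy hn
  obtain ⟨q', hq', n'⟩ := exists_nc h' (h.z_mem hy) (not_mem h.z3 h'.z3 hn)
  obtain ⟨p, -, p1, p2⟩ := sl2E h.toE1 h' hy (h.z_mem hy) hq hq' n n'
  exact ⟨p * p, by rw [← p2, ← p1]; group⟩

/-- conjugates of `z` in `Q` have weight three -/
theorem B1.y3 (h : B1 z Q Qs r R) {g : G} (hy : g * z * g⁻¹ ∈ Q) (hn : g * z * g⁻¹ ∉ zpowers z)
    (i : Fin 3) : ¬ Commute (g * z * g⁻¹) (r i) := fun hc => by
  have h' := h.toE1.conj g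
  have hz := h.z_mem hy
  have nz := not_mem h.z3 h'.z3 hn
  set y := g * z * g⁻¹ with hyd
  have yC := (h.cent_r hy i).1 hc
  obtain ⟨j, q, hq, n⟩ : ∃ j, ∃ q ∈ Qs j, ¬ q * y = y * q := by
    by_contra H
    push Not at H
    have : Q ≤ 𝒞[y] := by
      rw [← h.sup]
      exact sup_le (sup_le (fun q hq => mem_cent1.2 (H _ q hq))
        fun q hq => mem_cent1.2 (H _ q hq)) fun q hq => mem_cent1.2 (H _ q hq)
    exact hn (h.cen y hy fun b hb => (mem_cent1.1 (this hb)).symm)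
  have ij : i ≠ j := by
    rintro rfl
    exact n (yC q hq)
  have qr : q ∈ 𝒞[r i] := mem_cent1.2 (h.rc i j ij q hq)
  have ry : r i ∈ 𝒞[y] := mem_cent1.2 hc.symm.eq
  have rz : Commute (r i) z := mem_cent1.1 (h.rz i)
  obtain ⟨w, hw, n'⟩ := exists_nc h' hz nz
  obtain ⟨k, hk, hk', kr⟩ := Fa.lift_Q (g := w) h' (h.rr i) (by
    have := mul_mem hw (Fa.conjQ h' ry (inv_mem hw))
    simpa only [mul_assoc] using this)
  have kz : k * z = z * k := by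
    have e : Commute (r i) (w⁻¹ * z * w⁻¹⁻¹) := by
      rcases mv h' hz (inv_mem hw) (fun e => n' (Commute.inv_left_iff.1 e)) with e | e
      · rw [e]; exact rz.mul_right hc.symm
      · rw [e]; exact rz.mul_right hc.symm.inv_right
    have : Commute (w * r i * w⁻¹) z := by
      rw [Commute, SemiconjBy]
      calc _ = w * (r i * (w⁻¹ * z * w⁻¹⁻¹)) * w⁻¹ := by group
        _ = _ := by rw [e.eq]; group
    exact mem_cent1.1 (zpowers_le.2 (mem_cent1.2 (this.mul_left rz.inv_left).eq) hk')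
  obtain ⟨p, hp, p1, -⟩ := sl2E h.toE1 h' hy hz (h.le j hq) (mul_mem hk hw) n fun e => n' (by
    rwa [mul_assoc, ← mul_assoc z, ← kz, mul_assoc, mul_left_cancel_iff] at e)
  have pr : p * r i * p⁻¹ = r i := by
    have : p ∈ 𝒞[r i] := (closure_le _).2 (by
      rintro _ (rfl | rfl)
      exacts [qr, kr]) hp
    rw [mem_cent1.1 this, mul_inv_cancel_right]
  have H := h.conj p
  rw [p1] at H
  have hB := H.rB i
  simp only [pr] at hB
  obtain ⟨a, b, f⟩ := h.exists_fm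
  have key : ∀ u ∈ Qs i, r i * u * (r i)⁻¹ = u⁻¹ → u ∈ cj p Q := fun u hu e =>
    H.not_inv ry hB (by rw [h.rr]; exact one_mem _) (mem_cent1.2 (yC u hu))
      (by rw [h.exp u (h.le i hu)]; exact one_mem _) (by rw [e, inv_mul_cancel]; exact one_mem _)
  have := H.comm _ (key _ (f i).bW (f i).ρb) _ (key _ (f i).aW (f i).ρa)
  rw [(f i).ba, mem_cent1.1 (h.Qc (h.le i (f i).aW)), mul_inv_cancel_right] at this
  exact nz this

end Cfsg.Agent.F3
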