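import Cfsg.Agent.F3.W2

/-! Project F3, part P: preliminaries for the weak closure argument. -/

set_option autoImplicit false

namespace Cfsg.Agent.F3

open Subgroup H49 T3.Fr2

variable {G : Type*} [Group G] [Finite G] {z : G} {Q R : Subgroup G} {Qs : Fin 3 → Subgroup G}
  {r : Fin 3 → G}

namespace P

omit [Finite G] in
theorem eq_one {H : Subgroup G} {c : G} (h3 : orderOf z = 3) (hc : c ∈ zpowers z) (hH : c ∈ H)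
    (hz : z ∉ H) : c = 1 := by
  have e := zp_lg h3 hc
  have z3 : z ^ 3 = 1 := h3 ▸ pow_orderOf_eq_one z
  generalize lg z c = i at e
  obtain rfl | rfl | rfl : i = 0 ∨ i = 1 ∨ i = 2 := by clear e; revert i; decide
  · rw [← e, zp_zero]
  · rw [← e, zp_one] at hH; exact absurd hH hz
  · refine absurd ?_ hz
    have := mul_mem hH hH
    rwa [← e, show zp z 2 * zp z 2 = z ^ 3 * z from by
      rw [show zp z 2 = z ^ 2 from rfl]; group, z3, one_mul] at this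

omit [Finite G] in
theorem zp3 {a : G} (a3 : a ^ 3 = 1) {s t : ℤ} (e : 3 ∣ s - t) : a ^ s = a ^ t := by
  obtain ⟨k, hk⟩ := e
  rw [show s = 3 * k + t by omega, zpow_add, zpow_mul, show a ^ (3 : ℤ) = a ^ 3 from zpow_natCast _ 3,
    a3, one_zpow, one_mul]

theorem s_step : ∀ X : S2, X ≠ 1 → X.ap (1, 0) = (1, 0) → ∀ c : ZMod 3 × ZMod 3, c.2 = 0 →
    ∃ v : ZMod 3 × ZMod 3, -v + c + (X.ap v + X.ap v) + -v = 0 := by decide +kernel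

theorem p_tr : ∀ σ : Equiv.Perm (Fin 3), (∀ i, σ i ≠ i) → σ (σ 0) ≠ 0 := by decide +kernel

variable {a b : Fin 3 → G}

/-- the hypothesis of `norm3` -/
def W3 (z : G) (Qs : Fin 3 → Subgroup G) (a : Fin 3 → G) (y : G) : Prop :=
  y ∈ 𝒞[z] ∧ (∀ i, y ∈ 𝒞[a i]) ∧ ∀ i, ¬ Tv z (Qs i) y

theorem W3.ba (h : B2 z Q Qs r R) (f : ∀ i, Fm z (Qs i) (r i) (a i) (b i)) {y : G} (w : W3 z Qs a y) :
    Ba Qs y := (h.comm_A f w.1 fun i => by rw [mem_cent1.1 (w.2.1 i)]; simp).1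

theorem W3.conj (h : B2 z Q Qs r R) (f : ∀ i, Fm z (Qs i) (r i) (a i) (b i)) {y q : G}
    (w : W3 z Qs a y) (hq : q ∈ Q) : W3 z Qs a (q * y * q⁻¹) := by
  have qz := h.Qc hq
  have hz := mul_mem (mul_mem qz w.1) (inv_mem qz)
  refine ⟨hz, fun i => mem_cent1.2 ?_, fun i t => w.2.2 i ?_⟩
  · have c := h.comm _ (inv_mem hq) _ (h.le i (f i).aW)
    have e : q⁻¹ * a i * q = q⁻¹ * a i * q⁻¹⁻¹ * (a i)⁻¹ * a i := by group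
    have k : y * (q⁻¹ * a i * q) = (q⁻¹ * a i * q) * y := by
      rw [e, ← mul_assoc, ← Z_comm w.1 c, mul_assoc _ y, mem_cent1.1 (w.2.1 i), ← mul_assoc]
    calc q * y * q⁻¹ * a i = q * (y * (q⁻¹ * a i * q)) * q⁻¹ := by group
      _ = _ := by rw [k]; group
  · have p := h.hp (f i)
    have hy : y ∈ 𝒞[z] ⊓ 𝒩(Qs i) := ⟨w.1, W3.ba h f w i⟩
    have hq' : q ∈ 𝒞[z] ⊓ 𝒩(Qs i) := ⟨qz, h.QN i hq⟩
    rw [h.tv_iff (f i) (mul_mem (mul_mem hq' hy) (inv_mem hq')), p.ph.conj hq' hy, p.mat_Q hq] at t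
    rw [h.tv_iff (f i) hy]
    simpa using t

theorem W3.fix (h : B2 z Q Qs r R) (f : ∀ i, Fm z (Qs i) (r i) (a i) (b i)) {y : G} (w : W3 z Qs a y)
    (i : Fin 3) : (mat z (a i) (b i) y).ap (1, 0) = (1, 0) := by
  have p := h.hp (f i)
  rw [← p.vec_a, ← p.vec_conj ⟨w.1, W3.ba h f w i⟩ (f i).aW, mem_cent1.1 (w.2.1 i),
    mul_inv_cancel_right]

theorem W3.step (h : B2 z Q Qs r R) (f : ∀ i, Fm z (Qs i) (r i) (a i) (b i)) {y : G} (w : W3 z Qs a y)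
    (i : Fin 3) : ∃ q ∈ Qs i, Commute (q * y * q⁻¹) (r i) := by
  have p := h.hp (f i)
  have k := h.toE1
  have hy : y ∈ 𝒞[z] ⊓ 𝒩(Qs i) := ⟨w.1, W3.ba h f w i⟩
  have hr : r i ∈ 𝒞[z] ⊓ 𝒩(Qs i) := ⟨h.rz i, h.rB i i⟩
  have cQ := h.inv_comm (h.rz i) (h.rB i) (by rw [h.rr]; exact one_mem _) w.1 (W3.ba h f w)
  have ci : r i * y * (r i)⁻¹ * y⁻¹ ∈ Qs i := Bas2.mem_of_inv h cQ (by
    rw [show r i * (r i * y * (r i)⁻¹ * y⁻¹) * (r i)⁻¹ * (r i * y * (r i)⁻¹ * y⁻¹) =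
      (r i * r i) * y * (r i * r i)⁻¹ * y⁻¹ * (y * (r i * y⁻¹ * (y * (r i)⁻¹)) * y⁻¹) by group, h.rr]
    simp)
  have ca : r i * y * (r i)⁻¹ * y⁻¹ ∈ 𝒞[a i] := by
    refine mul_mem (mem_cent1.2 ?_) (inv_mem (w.2.1 i))
    have e : Commute y (a i)⁻¹ := Commute.inv_right (mem_cent1.1 (w.2.1 i))
    have e1 : a i = r i * (a i)⁻¹ * (r i)⁻¹ := by rw [← conj_inv (b := r i), (f i).ρa, inv_inv]
    rw [e1, show r i * y * (r i)⁻¹ * (r i * (a i)⁻¹ * (r i)⁻¹) = r i * (y * (a i)⁻¹) * (r i)⁻¹ by group,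
      e.eq]
    group
  obtain ⟨v, hv⟩ := s_step _ (fun e => w.2.2 i ((h.tv_iff (f i) hy).2 e)) (W3.fix h f w i)
    (vec z (a i) (b i) (r i * y * (r i)⁻¹ * y⁻¹)) ((Fa.bt_zero k cQ p.aQ).2 (mem_cent1.1 ca))
  obtain ⟨q, hq, e1, e2⟩ := p.exists_inv hr (h.rr i) ((h.neg_iff (f i) hr).1 (h.inv i)) v
  refine ⟨q, hq, (mul_inv_eq_iff_eq_mul.1 (Fa.fix_of_invol k (h.rz i) (h.rr i) ?_)).symm⟩
  have hq2 := conj_mem_of_norm le_rfl hy.2 hq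
  have e3 : r i * (q * y * q⁻¹) * (r i)⁻¹ * (q * y * q⁻¹)⁻¹ =
      q⁻¹ * (r i * y * (r i)⁻¹ * y⁻¹) * (y * q * y⁻¹ * (y * q * y⁻¹)) * q⁻¹ := by
    rw [show r i * (q * y * q⁻¹) * (r i)⁻¹ = (r i * q * (r i)⁻¹) * (r i * y * (r i)⁻¹) *
      (r i * q * (r i)⁻¹)⁻¹ by group, e1]
    group
  have m1 := mul_mem (inv_mem hq) ci
  have m2 := mul_mem hq2 hq2
  rw [e3]
  simpa using h.div (f i) _ (mul_mem (mul_mem m1 m2) (inv_mem hq)) 1 (one_mem _) (by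
    rw [Fa.vec_mul k p.aQ p.bQ (p.WQ (mul_mem m1 m2)) (p.WQ (inv_mem hq)),
      Fa.vec_mul k p.aQ p.bQ (p.WQ m1) (p.WQ m2), Fa.vec_mul k p.aQ p.bQ (p.WQ (inv_mem hq)) cQ,
      Fa.vec_mul k p.aQ p.bQ (p.WQ hq2) (p.WQ hq2), Fa.vec_inv k p.aQ p.bQ (p.WQ hq),
      p.vec_conj hy hq, e2, hv, vec, Fa.bt_Z_right k p.bQ (one_mem _), Fa.bt_Z_left k p.aQ (one_mem _)]
    rfl)

theorem W3.cls (h : B2 z Q Qs r R) (f : ∀ i, Fm z (Qs i) (r i) (a i) (b i)) {x : G} (w : W3 z Qs a x)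
    {i : Fin 3} (c : Commute x (r i)) : ∃ ε : ℤ, (ε = 1 ∨ ε = -1) ∧
      ∀ n : ℤ, ∃ q ∈ Qs i, q * x * q⁻¹ = x * a i ^ n * z ^ (ε * n ^ 2) := by
  have p := h.hp (f i)
  have hx : x ∈ 𝒞[z] ⊓ 𝒩(Qs i) := ⟨w.1, W3.ba h f w i⟩
  have a3 := h.exp _ p.aQ
  have z3 := Fa.z3' h.toE1
  obtain ⟨ε, hε, e⟩ : ∃ ε : ℤ, (ε = 1 ∨ ε = -1) ∧ b i * x * (b i)⁻¹ = x * a i ^ (-ε) * z ^ ε := by
    rcases Fa.xb_gen p (h.div (f i)) (h.rz i) (f i).ρa (f i).ρb hx (mem_cent1.2 c) (w.2.1 i)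
      (fun e => w.2.2 i ((h.tv_iff (f i) hx).2 e)) with e | e
    · exact ⟨1, Or.inl rfl, by simpa using e⟩
    · exact ⟨-1, Or.inr rfl, by simpa using e⟩
  have e' : (b i)⁻¹ * x * (b i)⁻¹⁻¹ = x * a i ^ ε * z ^ ε := by
    have := congrArg (fun t => r i * t * (r i)⁻¹) e
    rwa [show r i * (b i * x * (b i)⁻¹) * (r i)⁻¹ = (r i * b i * (r i)⁻¹) * (r i * x * (r i)⁻¹) *
      (r i * b i * (r i)⁻¹)⁻¹ by group, show r i * (x * a i ^ (-ε) * z ^ ε) * (r i)⁻¹ =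
      (r i * x * (r i)⁻¹) * (r i * a i ^ (-ε) * (r i)⁻¹) * (r i * z ^ ε * (r i)⁻¹) by group,
      Z_conj (h.rz i) (zpow_mem (mem_zpowers z) ε), ← conj_zpow, (f i).ρa, (f i).ρb, ← c.eq,
      mul_inv_cancel_right, inv_zpow', neg_neg] at this
  refine ⟨ε, hε, fun n => ?_⟩
  have : 3 ∣ n ∨ 3 ∣ n - ε ∨ 3 ∣ n - -ε := by omega
  rcases this with k | k | k
  · exact ⟨1, one_mem _, by
      rw [zp3 a3 (t := 0) (by simpa using k), zp3 z3 (t := 0)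
        (by simpa using (k.pow (by decide)).mul_left ε)]; simp⟩
  · refine ⟨_, inv_mem p.bW, ?_⟩
    rw [e', zp3 a3 k, zp3 z3 (s := ε * n ^ 2) (t := ε) ?_]
    obtain ⟨t, ht⟩ := k
    obtain rfl : n = 3 * t + ε := by omega
    rcases hε with rfl | rfl
    · exact ⟨3 * t ^ 2 + 2 * t, by ring⟩
    · exact ⟨-3 * t ^ 2 + 2 * t, by ring⟩
  · refine ⟨_, p.bW, ?_⟩
    rw [e, zp3 a3 k, zp3 z3 (s := ε * n ^ 2) (t := ε) ?_]
    obtain ⟨t, ht⟩ := k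
    obtain rfl : n = 3 * t - ε := by omega
    rcases hε with rfl | rfl
    · exact ⟨3 * t ^ 2 - 2 * t, by ring⟩
    · exact ⟨-3 * t ^ 2 - 2 * t, by ring⟩

omit [Finite G] in
theorem tr_calc {y q1 q2 q3 : G} (e1 : y * q1 * y⁻¹ = q2) (e2 : y * q2 * y⁻¹ = q3) (c : Commute q2 q3)
    (h3 : q2 ^ 3 = 1) : q2 * q3⁻¹ * y * (q2 * q3⁻¹)⁻¹ = y * (q1 * q2 * q3) := by
  have k1 : q3⁻¹ * y = y * q2⁻¹ := by rw [← e2]; group
  have k2 : q2 * y = y * q1 := by rw [← e1]; group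
  have k3 : q2⁻¹ * q2⁻¹ = q2 := by
    rw [← mul_inv_rev, inv_eq_iff_mul_eq_one, ← h3, pow_succ, pow_two]
  calc q2 * q3⁻¹ * y * (q2 * q3⁻¹)⁻¹ = q2 * (q3⁻¹ * y) * (q3 * q2⁻¹) := by group
    _ = (q2 * y) * (q2⁻¹ * q2⁻¹) * q3 := by rw [k1, ← c.inv_left.eq]; group
    _ = _ := by rw [k2, k3]; group

/-- `tr_red` for the weaker configuration -/
theorem tr_red2 (h : B2 z Q Qs r R) (w : WC z Q) {g : G} (hy : g * z * g⁻¹ ∈ 𝒞[z])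
    (hn : g * z * g⁻¹ ∉ zpowers z) (t : Tr Qs (g * z * g⁻¹)) :
    ∃ k : G, k * (g * z * g⁻¹) * k⁻¹ ∈ 𝒞[g * z * g⁻¹] ∧ k * (g * z * g⁻¹) * k⁻¹ ∉ zpowers (g * z * g⁻¹) ∧
      Ba (fun i => cj g (Qs i)) (k * (g * z * g⁻¹) * k⁻¹) := by
  have h' := h.conj g
  have y3 := Fa.z3' h'.toE1
  have yQ : g * z * g⁻¹ ∉ Q := fun t => hn (w g t)
  have yQ' := h'.zQ
  have yo := h'.z3
  have eb := fun {T : Subgroup G} => h'.exists_ba (T := T)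
  have QN := h'.QN
  generalize g * z * g⁻¹ = y at *
  obtain ⟨σ, hσ⟩ := h.perm hy
  have nf : ∀ i, σ i ≠ i := fun i e => t i (mem_norm_iff_cj.2 (by rw [hσ, e]))
  have mv : ∀ {i q}, q ∈ Qs i → y * q * y⁻¹ ∈ Qs (σ i) := fun hq => hσ _ ▸ conj_mem_cj.2 hq
  have cm : ∀ {i j u v}, i ≠ j → u ∈ Qs i → v ∈ Qs j → Commute u v := fun n hu hv =>
    (h.QQ _ _ n hu _ hv).symm
  have n1 := (nf 0).symm
  have n2 := (p_tr σ nf).symm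
  have n3 := (nf (σ 0)).symm
  let N : G → G := fun q => q * (y * q * y⁻¹) * (y * (y * q * y⁻¹) * y⁻¹)
  have p : MC3.PH (Qs 0) N := ⟨fun u hu v hv => by
    have c1 := cm n1 hv (mv hu)
    have c2 := cm n2 hv (mv (mv hu))
    have c3 := cm n3 (mv hv) (mv (mv hu))
    simp only [N]
    rw [show y * (u * v) * y⁻¹ = (y * u * y⁻¹) * (y * v * y⁻¹) by group,
      show y * ((y * u * y⁻¹) * (y * v * y⁻¹)) * y⁻¹ =
        (y * (y * u * y⁻¹) * y⁻¹) * (y * (y * v * y⁻¹) * y⁻¹) by group]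
    generalize y * (y * u * y⁻¹) * y⁻¹ = u3 at *
    generalize y * (y * v * y⁻¹) * y⁻¹ = v3 at *
    generalize y * u * y⁻¹ = u2 at *
    generalize y * v * y⁻¹ = v2 at *
    simp only [mul_assoc]
    rw [c1.left_comm, c3.left_comm, c2.left_comm]⟩
  have NQ : ∀ q ∈ Qs 0, N q ∈ Q := fun q hq =>
    mul_mem (mul_mem (h.le _ hq) (h.le _ (mv hq))) (h.le _ (mv (mv hq)))
  have Ny : ∀ q ∈ Qs 0, N q ∈ 𝒞[y] := fun q hq => by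
    have c1 := cm n1 hq (mv hq)
    have c2 := cm n2 hq (mv (mv hq))
    have e : y * (y * (y * q * y⁻¹) * y⁻¹) * y⁻¹ = q := by
      rw [show y * (y * (y * q * y⁻¹) * y⁻¹) * y⁻¹ = y ^ 3 * q * (y ^ 3)⁻¹ by
        rw [pow_succ, pow_two]; group, y3]; group
    rw [mem_cent1, eq_comm, ← mul_inv_eq_iff_eq_mul]
    calc y * N q * y⁻¹ = (y * q * y⁻¹) * (y * (y * q * y⁻¹) * y⁻¹) *
        (y * (y * (y * q * y⁻¹) * y⁻¹) * y⁻¹) := by simp only [N]; group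
      _ = _ := by rw [e, ← (c1.mul_right c2).eq, ← mul_assoc]
  have cd := p.card (J := zpowers z) fun q hq => ⟨fun e => Bas2.memZ h hq fun u hu => by
      have := Fa.bt_Z_right h.toE1 (h.le _ hu) (one_mem _)
      rwa [← e, Fa.bt_mul_right h.toE1 (h.le _ hu) (mul_mem (h.le _ hq) (h.le _ (mv hq)))
        (h.le _ (mv (mv hq))), Fa.bt_mul_right h.toE1 (h.le _ hu) (h.le _ hq) (h.le _ (mv hq)),
        Bas2.orth h n1 hu (mv hq), Bas2.orth h n2 hu (mv (mv hq)), add_zero, add_zero] at this,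
    fun e => by
      simp only [N]
      rw [Z_conj hy e, Z_conj hy e, ← h.exp q (h.le _ hq), pow_succ, pow_two]⟩
  rw [h.cards, inf_eq_left.2 (Bas2.ZQs h 0), Nat.card_zpowers, h.z3] at cd
  obtain ⟨T, hT, ct, bT⟩ := eb (T := p.im) (h.isP.to_le fun _ hu => by
    obtain ⟨q, hq, rfl⟩ := p.mem_im.1 hu; exact NQ q hq) fun _ hu => by
    obtain ⟨q, hq, rfl⟩ := p.mem_im.1 hu; exact Ny q hq
  obtain ⟨n, hn, n0⟩ := ex_not T [1] (by simp only [List.length]; omega)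
  obtain ⟨q, hq, rfl⟩ := p.mem_im.1 (hT hn)
  have e : _ = y * N q := tr_calc rfl rfl (cm n3 (mv hq) (mv (mv hq))) (h.exp _ (h.le _ (mv hq)))
  refine ⟨_, e ▸ mul_mem (self_mem_cent1 y) (Ny q hq), e ▸ fun k => n0 ?_,
    e ▸ fun i => mul_mem (QN i yQ') (bT _ hn i)⟩
  simpa using eq_one yo (by simpa using mul_mem (inv_mem (mem_zpowers y)) k) (NQ q hq) yQ

end P

open P

theorem B2.zn (h : B2 z Q Qs r R) (w : WC z Q) {g : G} (hn : g * z * g⁻¹ ∉ zpowers z) :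
    z ∉ cj g Q := fun e => by
  have _ := h.z3
  have e1 := w g⁻¹ (by simpa using e)
  have e2 : g⁻¹ ∈ 𝒩(zpowers z) := mem_norm_of_cj_le (by rwa [cj_zpowers, zpowers_le])
  exact hn (conj_mem_of_norm le_rfl (by simpa using inv_mem e2) (mem_zpowers z))

theorem B1.cab (h : B1 z Q Qs r R) (w : WC z Q) {g : G} (hn : g * z * g⁻¹ ∉ zpowers z) :
    Q ⊓ 𝒞[g * z * g⁻¹] ≤ 𝒞(Q ⊓ 𝒞[g * z * g⁻¹]) := fun u hu v hv => by
  have e := eq_one h.z3 (h.comm v hv.1 u hu.1)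
    ((h.conj g).ab3 (h.isP.to_le inf_le_left) inf_le_right v hv u hu) (h.zn w hn)
  rwa [mul_inv_eq_one, mul_inv_eq_iff_eq_mul] at e

theorem B2.p1 (h : B2 z Q Qs r R) (w : WC z Q) {g : G} (hn : g * z * g⁻¹ ∉ zpowers z) {u k : G}
    (hu : u ∈ Q) (hu' : u ∈ cj g Q) (e : k * (g * z * g⁻¹) * k⁻¹ = g * z * g⁻¹ * u) : u = 1 := by
  have e1 := w.conj g k (e ▸ mul_mem (h.conj g).zQ hu')
  rw [e] at e1
  exact eq_one (h.conj g).z3 ((mul_mem_cancel_left (mem_zpowers _)).1 e1) hu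
    fun t => hn (w g t)

/-- normal form of an element of weight three that centralises the `aᵢ` -/
theorem B2.norm3 (h : B2 z Q Qs r R) {a b : Fin 3 → G} (f : ∀ i, Fm z (Qs i) (r i) (a i) (b i)) {y : G}
    (hy : y ∈ 𝒞[z] ⊓ 𝒞[a 0] ⊓ 𝒞[a 1] ⊓ 𝒞[a 2]) (nt : ∀ i, ¬ Tv z (Qs i) y) :
    ∃ k ∈ Q, ∃ x, x = k * y * k⁻¹ ∧ x ∈ 𝒞[z] ⊓ 𝒞[a 0] ⊓ 𝒞[a 1] ⊓ 𝒞[a 2] ∧ (∀ i, Commute x (r i)) ∧
      ∃ ε : Fin 3 → ℤ, (∀ i, ε i = 1 ∨ ε i = -1) ∧ ∀ n : Fin 3 → ℤ, ∃ q ∈ Q, q * x * q⁻¹ =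
        x * a 0 ^ n 0 * a 1 ^ n 1 * a 2 ^ n 2 * z ^ (ε 0 * n 0 ^ 2 + ε 1 * n 1 ^ 2 + ε 2 * n 2 ^ 2) := by
  have w : W3 z Qs a y := ⟨hy.1.1.1, fun i => by
    obtain rfl | rfl | rfl : i = 0 ∨ i = 1 ∨ i = 2 := by omega
    exacts [hy.1.1.2, hy.1.2, hy.2], nt⟩
  obtain ⟨q0, h0, c0⟩ := W3.step h f w 0
  have w0 := W3.conj h f w (h.le 0 h0)
  obtain ⟨q1, h1, c1⟩ := W3.step h f w0 1
  have w1 := W3.conj h f w0 (h.le 1 h1)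
  obtain ⟨q2, h2, c2⟩ := W3.step h f w1 2
  have w2 := W3.conj h f w1 (h.le 2 h2)
  have cc : ∀ {t q : G} {i j}, i ≠ j → q ∈ Qs j → Commute t (r i) → Commute (q * t * q⁻¹) (r i) :=
    fun n hq c => by
      have k : Commute _ (r _) := h.rc _ _ n _ hq
      exact (k.mul_left c).mul_left k.inv_left
  have c : ∀ i, Commute (q2 * (q1 * (q0 * y * q0⁻¹) * q1⁻¹) * q2⁻¹) (r i) := fun i => by
    obtain rfl | rfl | rfl : i = 0 ∨ i = 1 ∨ i = 2 := by omega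
    exacts [cc (by decide) h2 (cc (by decide) h1 c0), cc (by decide) h2 c1, c2]
  refine ⟨q2 * q1 * q0, mul_mem (mul_mem (h.le 2 h2) (h.le 1 h1)) (h.le 0 h0), _, by group,
    ⟨⟨⟨w2.1, w2.2.1 0⟩, w2.2.1 1⟩, w2.2.1 2⟩, c, ?_⟩
  generalize q2 * (q1 * (q0 * y * q0⁻¹) * q1⁻¹) * q2⁻¹ = x at w2 c
  choose ε hε e using fun i => W3.cls h f w2 (c i)
  refine ⟨ε, hε, fun n => ?_⟩
  choose q hq e using fun i => e i (n i)
  refine ⟨q 0 * q 1 * q 2, mul_mem (mul_mem (h.le 0 (hq 0)) (h.le 1 (hq 1))) (h.le 2 (hq 2)), ?_⟩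
  have m : ∀ i, a i ^ n i * z ^ (ε i * n i ^ 2) ∈ Qs i := fun i =>
    mul_mem (zpow_mem (f i).aW _) (zpow_mem (h.zs i) _)
  have k : ∀ i j, i ≠ j → q i * (a j ^ n j * z ^ (ε j * n j ^ 2)) * (q i)⁻¹ =
      a j ^ n j * z ^ (ε j * n j ^ 2) := fun i j t => by
    rw [← h.QQ i j t (hq i) _ (m j), mul_inv_cancel_right]
  have cz : ∀ i (s : ℤ), Commute (z ^ s) (a i ^ n i) := fun i s =>
    Z_comm (h.Qc (zpow_mem (h.le i (f i).aW) _)) (zpow_mem (mem_zpowers z) s)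
  calc q 0 * q 1 * q 2 * x * (q 0 * q 1 * q 2)⁻¹
      = q 0 * (q 1 * (q 2 * x * (q 2)⁻¹) * (q 1)⁻¹) * (q 0)⁻¹ := by group
    _ = q 0 * ((q 1 * x * (q 1)⁻¹) * (q 1 * (a 2 ^ n 2 * z ^ (ε 2 * n 2 ^ 2)) * (q 1)⁻¹)) * (q 0)⁻¹ := by
      rw [e 2]; simp only [mul_assoc, inv_mul_cancel_left]
    _ = (q 0 * x * (q 0)⁻¹) * (q 0 * (a 1 ^ n 1 * z ^ (ε 1 * n 1 ^ 2)) * (q 0)⁻¹) *
        (q 0 * (a 2 ^ n 2 * z ^ (ε 2 * n 2 ^ 2)) * (q 0)⁻¹) := by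
      rw [e 1, k 1 2 (by decide)]
      simp only [mul_assoc, inv_mul_cancel_left]
    _ = _ := by
      rw [e 0, k 0 1 (by decide), k 0 2 (by decide), zpow_add, zpow_add]
      simp only [mul_assoc]
      rw [(cz 2 _).left_comm, (cz 1 _).left_comm, (cz 2 _).left_comm]

/-- a transitive conjugate gives a conjugate in the base group of the conjugate configuration -/
theorem B1.tr_red (h : B1 z Q Qs r R) (w : WC z Q) {g : G} (hy : g * z * g⁻¹ ∈ 𝒞[z])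
    (hn : g * z * g⁻¹ ∉ zpowers z) (t : Tr Qs (g * z * g⁻¹)) :
    ∃ k : G, k * (g * z * g⁻¹) * k⁻¹ ∈ 𝒞[g * z * g⁻¹] ∧ k * (g * z * g⁻¹) * k⁻¹ ∉ zpowers (g * z * g⁻¹) ∧
      Ba (fun i => cj g (Qs i)) (k * (g * z * g⁻¹) * k⁻¹) :=
  tr_red2 h.toB2 w hy hn t

end Cfsg.Agent.F3
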