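/-
Project F3: an element `x` of weight three that commutes with the `rᵢ` and is conjugate to `z` in `C(r₀)`.
-/
import Cfsg.Agent.F3.I1
import Cfsg.Agent.F3.P
import Cfsg.Agent.T3.Fr0

set_option autoImplicit false

namespace Cfsg.Agent.F3

open Subgroup H49 T3.Fr2

variable {G : Type*} [Group G] [Finite G] {z : G} {Q R : Subgroup G} {Qs : Fin 3 → Subgroup G}
  {r : Fin 3 → G}

omit [Finite G] in
theorem i3_c1 {x y : G} : x ∈ 𝒞[y] ↔ Commute x y := mem_centralizer_singleton_iff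

theorem i3_zp {v c : G} (v3 : v ^ 3 = 1) (hc : c ∈ zpowers v) (n : c ≠ 1) : v ∈ zpowers c := by
  obtain ⟨k, rfl⟩ := mem_powers_iff_mem_zpowers.2 hc
  simp only [] at n ⊢
  rw [pow_eq_pow_mod k v3] at n ⊢
  have : k % 3 < 3 := Nat.mod_lt _ (by norm_num)
  generalize k % 3 = s at *
  interval_cases s
  · simp at n
  · simp
  · have e : v = (v ^ 2) ^ 2 := by rw [← pow_mul, show 2 * 2 = 3 + 1 from rfl, pow_succ, v3, one_mul]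
    have := pow_mem (mem_zpowers (v ^ 2)) 2
    rwa [← e] at this

omit [Finite G] in
theorem i3_sq {K : Subgroup G} {v : G} (v3 : v ^ 3 = 1) (m : v * v ∈ K) : v ∈ K := by
  have := mul_mem m m
  rwa [show v * v * (v * v) = v ^ 3 * v by simp only [pow_succ, pow_zero, one_mul, mul_assoc], v3,
    one_mul] at this

theorem i3_pm (h : B2 z Q Qs r R) {t : G} {i : Fin 3} (ht : t ∈ 𝒞[z] ⊓ 𝒩(Qs i)) (tt : t * t = 1) :
    Tv z (Qs i) t ∨ ∀ q ∈ Qs i, t * q * t⁻¹ * q ∈ zpowers z := by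
  obtain ⟨a, b, f⟩ := h.exists_fm
  have p := (h.hp (f i)).ph
  have e := p.mul t ht t ht
  rw [tt, p.one] at e
  exact (S2.sq1 _ e.symm).imp (h.tv_iff (f i) ht).2 (h.neg_iff (f i) ht).2

set_option synthInstance.maxSize 1000 in
theorem i3_perm : ∀ s t : Equiv.Perm (Fin 3), s ≠ 1 → t ≠ 1 → s * s = 1 → t * t = 1 → s * t = t * s →
    s = t := by decide

theorem i3_perm' : ∀ s : Equiv.Perm (Fin 3), (∀ i, s i ≠ i) → ∀ i, i = 0 ∨ s i = 0 ∨ s (s i) = 0 := by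
  decide

/-- three commuting involutions that act as independent reflections -/
theorem i3_core (h : B2 z Q Qs r R) {u ρ v : Fin 3 → G} (hu : ∀ i, u i ∈ Qs i)
    (un : ∀ i, u i ∉ zpowers z) (hρ : ∀ l, ρ l ∈ 𝒞[z]) (ρρ : ∀ l, ρ l * ρ l = 1) (ρ1 : ∀ l, ρ l ≠ 1)
    (c : ∀ l m, Commute (ρ l) (ρ m)) (v3 : ∀ l, v l ^ 3 = 1)
    (e : ∀ i l, u i * ρ l * (u i)⁻¹ * (ρ l)⁻¹ ∈ zpowers (v l))
    (ind : ∀ l m, l ≠ m → ∀ c ∈ zpowers (v l), ∀ c' ∈ zpowers (v m), c'⁻¹ * c ∈ zpowers z → c = 1) :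
    ∃ l i, ρ l * r i ∈ Q := by
  obtain ⟨σ, -, hσ⟩ := h.permHom
  obtain ⟨l, bl⟩ : ∃ l, Ba Qs (ρ l) := by
    by_contra! H
    have s1 : ∀ l, σ ⟨ρ l, hρ l⟩ ≠ 1 := fun l e => H l fun i => (hσ ⟨ρ l, hρ l⟩ i).2 (by rw [e]; rfl)
    have s2 : ∀ l, σ ⟨ρ l, hρ l⟩ * σ ⟨ρ l, hρ l⟩ = 1 := fun l => by
      rw [← map_mul, ← map_one σ]; congr 1; exact Subtype.ext (ρρ l)
    have s3 : ∀ l m, σ ⟨ρ l, hρ l⟩ = σ ⟨ρ m, hρ m⟩ := fun l m =>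
      i3_perm _ _ (s1 l) (s1 m) (s2 l) (s2 m) (by
        rw [← map_mul, ← map_mul]; congr 1; exact Subtype.ext (c l m).eq)
    obtain ⟨i, hi⟩ : ∃ i, σ ⟨ρ 0, hρ 0⟩ i ≠ i := by
      by_contra! k
      exact s1 0 (Equiv.ext k)
    have pm : ∀ l m, _ := fun l m => i3_pm h (t := ρ l * ρ m) (i := i)
      ⟨mul_mem (hρ l) (hρ m), (hσ (⟨ρ l, hρ l⟩ * ⟨ρ m, hρ m⟩) i).2 (by rw [map_mul, s3 m l, s2]; rfl)⟩
      (by rw [mul_assoc, ← mul_assoc (ρ m), ← (c l m).eq, mul_assoc, ρρ, mul_one, ρρ])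
    have key : ∀ l m, l ≠ m → ρ l * ρ m * u i * (ρ l * ρ m)⁻¹ * (u i)⁻¹ ∉ zpowers z := fun l m n hz => by
      have e1 := ind l m n _ (e i l) _ (e i m) (by
        have e2 : (u i * ρ m * (u i)⁻¹ * (ρ m)⁻¹)⁻¹ * (u i * ρ l * (u i)⁻¹ * (ρ l)⁻¹) =
            ρ l * (ρ l * ρ m * u i * (ρ l * ρ m)⁻¹ * (u i)⁻¹) * (ρ l)⁻¹ := by
          rw [mul_inv_rev (ρ l), ← mul_assoc (ρ l), ← mul_assoc (ρ l), ← mul_assoc (ρ l),
            ← mul_assoc (ρ l), ρρ, inv_eq_of_mul_eq_one_right (ρρ l)]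
          group
        rw [e2, T3.conj_Z hz (hρ l)]; exact hz)
      rw [mul_inv_eq_one, mul_inv_eq_iff_eq_mul] at e1
      refine hi (s3 l 0 ▸ (hσ ⟨ρ l, hρ l⟩ i).1 (h.norm_of (hρ l) (hu i) (un i) ?_))
      rw [← e1, mul_inv_cancel_right]; exact hu i
    rcases pm 0 1 with k1 | k1
    · exact key 0 1 (by decide) (k1 _ (hu i))
    rcases pm 1 2 with k2 | k2
    · exact key 1 2 (by decide) (k2 _ (hu i))
    refine key 0 2 (by decide) ?_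
    have e1 : ρ 0 * ρ 2 = ρ 0 * ρ 1 * (ρ 1 * ρ 2) := by
      rw [mul_assoc, ← mul_assoc (ρ 1), ρρ, one_mul]
    have m1 := k1 _ (hu i)
    have m2 := k2 _ (hu i)
    have c1 := mul_mem (hρ 0) (hρ 1)
    rw [e1]
    generalize ρ 0 * ρ 1 = s at *
    generalize ρ 1 * ρ 2 = t at *
    rw [show s * t * u i * (s * t)⁻¹ * (u i)⁻¹ =
      s * (t * u i * t⁻¹ * u i) * s⁻¹ * (u i * (s * u i * s⁻¹ * u i)⁻¹ * (u i)⁻¹) by group,
      T3.conj_Z m2 c1, T3.conj_Z (inv_mem m1) (h.Qc (h.le i (hu i)))]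
    exact mul_mem m2 (inv_mem m1)
  have pm := fun i => i3_pm h (i := i) ⟨hρ l, bl i⟩ (ρρ l)
  have cQ : ∀ i, u i * ρ l * (u i)⁻¹ * (ρ l)⁻¹ ∈ Qs i := fun i => by
    rw [mul_assoc, mul_assoc, ← mul_assoc (ρ l)]
    exact mul_mem (hu i) ((mem_normalizer_iff.1 (bl i) _).1 (inv_mem (hu i)))
  have cZ : ∀ i, (∀ q ∈ Qs i, ρ l * q * (ρ l)⁻¹ * q ∈ zpowers z) →
      u i * ρ l * (u i)⁻¹ * (ρ l)⁻¹ ∉ zpowers z := fun i k m => by
    refine un i (i3_sq (h.exp _ (h.le i (hu i))) ?_)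
    have := mul_mem m (k _ (hu i))
    rwa [show u i * ρ l * (u i)⁻¹ * (ρ l)⁻¹ * (ρ l * u i * (ρ l)⁻¹ * u i) = u i * u i by group] at this
  obtain ⟨i, hi⟩ : ∃ i, ∀ q ∈ Qs i, ρ l * q * (ρ l)⁻¹ * q ∈ zpowers z := by
    by_contra H
    have := h.exp _ (h.ker (hρ l) fun i => (pm i).resolve_right fun k => H ⟨i, k⟩)
    rw [pow_succ, pow_two, ρρ, one_mul] at this
    exact ρ1 l this
  refine ⟨l, i, h.as_r (hρ l) hi fun j n => (pm j).resolve_right fun k => cZ j k (h.inter n ⟨cQ j, ?_⟩)⟩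
  exact zpowers_le.2 (zpowers_le.2 (cQ i) (i3_zp (v3 l) (e i l) fun e1 => cZ i hi (e1 ▸ one_mem _)))
    (e j l)

theorem i3_act (h : B2 z Q Qs r R) {t : G} (ht : t ∈ 𝒞[z]) {σ : Equiv.Perm (Fin 3)}
    (hσ : ∀ i, cj t (Qs i) = Qs (σ i)) (j : Fin 3) : t * r j * t⁻¹ * r (σ j) ∈ Q := by
  refine h.as_r (mul_mem (mul_mem ht (h.rz j)) (inv_mem ht)) (fun q hq => ?_) fun k n q hq => ?_
  · obtain ⟨y, hy, rfl⟩ := mem_cj'.1 (hσ j ▸ hq)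
    rw [show t * r j * t⁻¹ * (t * y * t⁻¹) * (t * r j * t⁻¹)⁻¹ * (t * y * t⁻¹) =
      t * (r j * y * (r j)⁻¹ * y) * t⁻¹ by group, T3.conj_Z (h.inv j y hy) ht]
    exact h.inv j y hy
  · obtain ⟨k, rfl⟩ := σ.surjective k
    obtain ⟨y, hy, rfl⟩ := mem_cj'.1 (hσ k ▸ hq)
    have c : y * r j = r j * y := h.rc j k (fun e => n (by rw [e])) y hy
    rw [show t * r j * t⁻¹ * (t * y * t⁻¹) * (t * r j * t⁻¹)⁻¹ * (t * y * t⁻¹)⁻¹ =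
      t * (r j * y * (r j)⁻¹ * y⁻¹) * t⁻¹ by group, ← c]
    simp

theorem i3_adj (h : B2 z Q Qs r R) {t : G} (ht : t ∈ 𝒞[z]) {σ : Equiv.Perm (Fin 3)}
    (hσ : ∀ i, cj t (Qs i) = Qs (σ i)) (j : Fin 3) : ∃ t' ∈ 𝒞[z], (∀ i, cj t' (Qs i) = Qs (σ i)) ∧
      t' * r j * t'⁻¹ = r (σ j) ∧ ∀ k, t * r k * t⁻¹ = r (σ k) → t' * r k * t'⁻¹ = r (σ k) := by
  have m := i3_act h ht hσ j
  have cr : ∀ i j, Commute (r i) (r j) := fun i j => i3_c1.1 (h.Rr j (h.rR i))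
  refine ⟨t * r j * t⁻¹ * r (σ j) * t, mul_mem (h.Qc m) ht, fun i => by
    rw [cj_mul, hσ, cj_eq_of_mem_norm (h.QN _ m)], ?_, fun k e => ?_⟩
  · have e3 := h.exp _ m
    have s1 : t * r j * t⁻¹ * (t * r j * t⁻¹) = 1 := by
      rw [show t * r j * t⁻¹ * (t * r j * t⁻¹) = t * (r j * r j) * t⁻¹ by group, h.rr]; group
    have s2 := h.rr (σ j)
    rw [show t * r j * t⁻¹ * r (σ j) * t * r j * (t * r j * t⁻¹ * r (σ j) * t)⁻¹ =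
      t * r j * t⁻¹ * r (σ j) * (t * r j * t⁻¹) * (r (σ j))⁻¹ * (t * r j * t⁻¹)⁻¹ by group]
    generalize t * r j * t⁻¹ = p at *
    generalize r (σ j) = s at *
    rw [inv_eq_of_mul_eq_one_right s1, inv_eq_of_mul_eq_one_right s2, ← mul_right_cancel_iff (a := s), s2,
      ← e3]
    simp only [pow_succ, pow_zero, one_mul, mul_assoc]
  · have c : Commute (t * r j * t⁻¹ * r (σ j)) (r (σ k)) :=
      Commute.mul_left (e ▸ (cr j k).conj t) (cr _ _)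
    rw [show t * r j * t⁻¹ * r (σ j) * t * r k * (t * r j * t⁻¹ * r (σ j) * t)⁻¹ =
      t * r j * t⁻¹ * r (σ j) * (t * r k * t⁻¹) * (t * r j * t⁻¹ * r (σ j))⁻¹ by group, e, c.eq,
      mul_inv_cancel_right]

/-- elements permuting the `rᵢ` -/
theorem i3_T (h : B2 z Q Qs r R) {s : G} (hs : s ∈ 𝒞[z]) (sT : Tr Qs s) (i : Fin 3) :
    ∃ t ∈ 𝒞[z], ∃ σ : Equiv.Perm (Fin 3), σ i = 0 ∧ (∀ j, cj t (Qs j) = Qs (σ j)) ∧
      ∀ j, t * r j * t⁻¹ = r (σ j) := by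
  obtain ⟨σ, h1, h2⟩ := h.permHom
  obtain ⟨t, ht⟩ : ∃ t, σ t i = 0 := by
    rcases i3_perm' (σ ⟨s, hs⟩) (fun i e => sT i ((h2 ⟨s, hs⟩ i).2 e)) i with e | e | e
    exacts [⟨1, by rw [map_one]; exact e⟩, ⟨_, e⟩, ⟨⟨s, hs⟩ * ⟨s, hs⟩, by rw [map_mul]; exact e⟩]
  obtain ⟨t0, m0, p0, e0, -⟩ := i3_adj h t.2 (h1 t) 0
  obtain ⟨t1, m1, p1, e1, k1⟩ := i3_adj h m0 p0 1
  obtain ⟨t2, m2, p2, e2, k2⟩ := i3_adj h m1 p1 2
  refine ⟨t2, m2, σ t, ht, p2, fun j => ?_⟩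
  obtain rfl | rfl | rfl : j = 0 ∨ j = 1 ∨ j = 2 := by revert j; decide
  exacts [k2 _ (k1 _ e0), k2 _ e1, e2]

section
variable {a b : Fin 3 → G} {x s : G} {J : Subgroup G}

omit [Finite G] in
theorem i3_aa (h : BJ z Q Qs r R a b x s J) (i j : Fin 3) : a i ∈ 𝒞[a j] := by
  by_cases e : i = j
  exacts [e ▸ i3_c1.2 (Commute.refl _), h.QQ i j e (h.fm i).aW _ (h.fm j).aW |>.symm |> i3_c1.2]

theorem i3_aJ (h : BJ z Q Qs r R a b x s J) (i : Fin 3) : a i ∈ J :=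
  h.Jdef ▸ ⟨⟨⟨h.Qc (h.le i (h.fm i).aW), i3_aa h i 0⟩, i3_aa h i 1⟩, i3_aa h i 2⟩

omit [Finite G] in
theorem i3_Ja (h : BJ z Q Qs r R a b x s J) {j : G} (hj : j ∈ J) (i : Fin 3) : j ∈ 𝒞[a i] := by
  rw [h.Jdef] at hj
  obtain rfl | rfl | rfl : i = 0 ∨ i = 1 ∨ i = 2 := by revert i; decide
  exacts [hj.1.1.2, hj.1.2, hj.2]

theorem i3_zJ (h : BJ z Q Qs r R a b x s J) : z ∈ J := by
  have k : ∀ i, z ∈ 𝒞[a i] := fun i => mem_cent1_comm.1 (h.Qc (h.le i (h.fm i).aW))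
  exact h.Jdef ▸ ⟨⟨⟨i3_c1.2 (Commute.refl _), k 0⟩, k 1⟩, k 2⟩

/-- a conjugate of `z` in `J` outside `Q` -/
theorem i3_out (h : BJ z Q Qs r R a b x s J) : ∃ g : G, g * z * g⁻¹ ∈ J ∧ g * z * g⁻¹ ∉ Q := by
  by_contra! H
  obtain ⟨g, e, hx⟩ := h.yx
  have yJ : g * z * g⁻¹ ∈ J := e ▸ mul_mem (mul_mem (i3_aJ h 0) (i3_aJ h 1)) (i3_aJ h 2)
  obtain ⟨n, hn, en⟩ := h.fus g z (i3_zJ h) yJ
  have K : ∀ k : G, k * z * k⁻¹ ∈ J → k * z * k⁻¹ ∈ cj n⁻¹ Q := fun k hk => by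
    have e1 : n * k * z * (n * k)⁻¹ = n * (k * z * k⁻¹) * n⁻¹ := by group
    have := H (n * k) (e1 ▸ (mem_normalizer_iff.1 hn _).1 hk)
    rwa [e1, ← inv_inv n, inv_inv n⁻¹, ← mem_cj] at this
  have ca : ∀ i j, a i * a j = a j * a i := fun i j => (i3_c1.1 (i3_aa h i j)).eq
  have cr : ∀ i j, i ≠ j → Commute (a j) (r i) := fun i j n => h.rc i j n _ (h.fm j).aW
  have sp : ∀ i, ∃ u, Commute u (r i) ∧ a 0 * a 1 * a 2 = u * a i := fun i => by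
    obtain rfl | rfl | rfl : i = 0 ∨ i = 1 ∨ i = 2 := by revert i; decide
    · exact ⟨a 1 * a 2, (cr 0 1 (by decide)).mul_left (cr 0 2 (by decide)), by
        rw [ca 0 1, mul_assoc, ca 0 2, mul_assoc]⟩
    · exact ⟨a 0 * a 2, (cr 1 0 (by decide)).mul_left (cr 1 2 (by decide)), by
        rw [mul_assoc, ca 1 2, mul_assoc]⟩
    · exact ⟨a 0 * a 1, (cr 2 0 (by decide)).mul_left (cr 2 1 (by decide)), rfl⟩
  have aK : ∀ i, a i ∈ cj n⁻¹ Q := fun i => by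
    obtain ⟨u, c, eu⟩ := sp i
    have e1 : r i * g * z * (r i * g)⁻¹ = g * z * g⁻¹ * (a i * a i)⁻¹ := by
      rw [show r i * g * z * (r i * g)⁻¹ = r i * (g * z * g⁻¹) * (r i)⁻¹ by group, e, eu, ← mul_assoc,
        ← c.eq, mul_assoc, mul_assoc, ← mul_assoc (r i), (h.fm i).ρa]
      group
    have m := K (r i * g) (e1 ▸ mul_mem yJ (inv_mem (mul_mem (i3_aJ h i) (i3_aJ h i))))
    rw [e1, Subgroup.mul_mem_cancel_left _ (K g yJ), inv_mem_iff] at m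
    exact i3_sq (h.exp _ (h.le i (h.fm i).aW)) m
  have zK : z ∈ cj n⁻¹ Q := by simpa using K 1 (by simpa using i3_zJ h)
  have m1 : n⁻¹ * x * n ∈ Q := by
    have c : n⁻¹ * g ∈ 𝒞[z] := mem_cent1.2 (by
      calc n⁻¹ * g * z = n⁻¹ * (g * z * g⁻¹) * g := by group
        _ = _ := by rw [← en]; group)
    have := Fa.conjQ h.toE1 c (mem_cj.1 hx)
    rwa [show n⁻¹ * g * (g⁻¹ * x * g) * (n⁻¹ * g)⁻¹ = n⁻¹ * x * n by group] at this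
  have m2 : n⁻¹ * x * n ∈ J := by simpa using (mem_normalizer_iff.1 (inv_mem hn) _).1 h.xJ
  obtain ⟨i, l, m, k, e2⟩ := (h.mem_A h.fm).1 ⟨⟨⟨m1, i3_Ja h m2 0⟩, i3_Ja h m2 1⟩, i3_Ja h m2 2⟩
  have m3 : n⁻¹ * x * n ∈ cj n⁻¹ Q :=
    e2 ▸ mul_mem (mul_mem (mul_mem (pow_mem zK _) (pow_mem (aK 0) _)) (pow_mem (aK 1) _))
      (pow_mem (aK 2) _)
  exact h.xQ (by simpa [mul_assoc] using m3)

/-- `rₗ` is a reflection on `J` -/
theorem i3_rf (h : BJ z Q Qs r R a b x s J) {y : G} (hy : y ∈ J) (yQ : y ∉ Q) (c : ∀ i, Commute y (r i))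
    (l : Fin 3) : J ≤ T3.St (a l) (r l) := by
  have k : ∀ j ∈ J, Commute j (r l) → j ∈ T3.St (a l) (r l) := fun j hj c =>
    T3.mem_St.2 ⟨i3_Ja h hj l, by rw [c.eq]; simp⟩
  have kz := k z (i3_zJ h) (i3_c1.1 (h.rz l)).symm
  have ka : ∀ i, a i ∈ T3.St (a l) (r l) := fun i => by
    by_cases e : l = i
    · subst e
      refine T3.mem_St.2 ⟨i3_aa h l l, ?_⟩
      rw [show a l * r l * (a l)⁻¹ * (r l)⁻¹ = a l * (r l * a l * (r l)⁻¹)⁻¹ by group, (h.fm l).ρa, inv_inv]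
      exact mul_mem (mem_zpowers _) (mem_zpowers _)
    · exact k _ (i3_aJ h i) (h.rc l i e _ (h.fm i).aW)
  have kA : ∀ {K : Subgroup G}, z ∈ K → (∀ i, a i ∈ K) → ∀ i k l m : ℕ,
      z ^ i * a 0 ^ k * a 1 ^ l * a 2 ^ m ∈ K := fun hz ha i k l m =>
    mul_mem (mul_mem (mul_mem (pow_mem hz _) (pow_mem (ha 0) _)) (pow_mem (ha 1) _)) (pow_mem (ha 2) _)
  have kx : x ∈ T3.St (a l) (r l) := by
    have ky := k y hy (c l)
    obtain ⟨i, k, l, m, n, rfl⟩ := h.memJ y hy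
    rw [Subgroup.mul_mem_cancel_left _ (kA kz ka i k l m)] at ky
    refine zpowers_le.2 ky (i3_zp h.x3 (pow_mem (mem_zpowers x) n) fun e => yQ ?_)
    rw [e, mul_one]
    exact kA h.zQ (fun i => h.le i (h.fm i).aW) i k l m
  intro j hj
  obtain ⟨i, k, l, m, n, rfl⟩ := h.memJ j hj
  exact mul_mem (kA kz ka i k l m) (pow_mem kx n)

end

theorem BJ.bx {a b : Fin 3 → G} {x s : G} {J : Subgroup G} (h : BJ z Q Qs r R a b x s J) :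
    ∃ x', BX z Q Qs r R x' s := by
  obtain ⟨g, wJ, wQ⟩ := i3_out h
  have aQ : ∀ i, a i ∈ Q := fun i => h.le i (h.fm i).aW
  have Jz : ∀ j ∈ J, j ∈ 𝒞[z] := fun j hj => by rw [h.Jdef] at hj; exact hj.1.1.1
  have JB : ∀ j ∈ J, Ba Qs j ∧ j ^ 3 ∈ Q := fun j hj => by
    obtain ⟨k1, k2, -⟩ := h.comm_A h.fm (Jz j hj) fun i => by rw [(i3_c1.1 (i3_Ja h hj i)).eq]; simp
    exact ⟨k1, k2⟩
  obtain ⟨k, hk, y, ey, yJ, yr, -⟩ := h.norm3 h.fm (h.Jdef ▸ wJ) fun i tv =>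
    wQ (h.wt h.sz h.sT (Jz _ wJ) (JB _ wJ).1 (JB _ wJ).2 tv)
  rw [← h.Jdef] at yJ
  have yQ : y ∉ Q := fun m => wQ (by
    rwa [ey, Subgroup.mul_mem_cancel_right _ (inv_mem hk), Subgroup.mul_mem_cancel_left _ hk] at m)
  have ey' : k * g * z * (k * g)⁻¹ = y := by rw [ey]; group
  obtain ⟨n, hn, en⟩ := h.fus (k * g) z (i3_zJ h) (ey' ▸ yJ)
  rw [ey'] at en
  clear ey ey' hk wJ wQ k g
  have y3 : y ^ 3 = 1 := by rw [← en, conj_pow, Fa.z3' h.toE1]; group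
  have h' := h.toB2.conj n
  rw [en] at h'
  obtain ⟨l, i, m⟩ := i3_core h' (u := fun i => n * a i * n⁻¹) (ρ := r) (v := a)
    (fun i => conj_mem_cj.2 (h.fm i).aW)
    (fun i m => h.aZ (h.fm i) (by rwa [← en, ← cj_zpowers, conj_mem_cj] at m))
    (fun l => i3_c1.2 (yr l).symm) h.rr (fun l e => h.rQ l (e ▸ one_mem _))
    (fun l m => i3_c1.1 (h.Rr m (h.rR l))) (fun l => h.exp _ (aQ l))
    (fun i l => (i3_rf h yJ yQ yr l ((mem_normalizer_iff.1 hn _).1 (i3_aJ h i))).2)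
    fun l m ne c hc c' hc' hy => by
      have e1 : c'⁻¹ * c = 1 := by
        by_contra e1
        exact yQ (zpowers_le.2 (mul_mem (inv_mem (zpowers_le.2 (aQ m) hc')) (zpowers_le.2 (aQ l) hc))
          (i3_zp y3 hy e1))
      rw [inv_mul_eq_one] at e1
      subst e1
      by_contra e1
      exact h.aZ (h.fm l) (h.inter ne ⟨(h.fm l).aW,
        zpowers_le.2 (zpowers_le.2 (h.fm m).aW hc') (i3_zp (h.exp _ (aQ l)) hc e1)⟩)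
  obtain ⟨q, hq, eq⟩ := h'.conj_inv (h.rr l) (h'.rr i) m
  obtain ⟨t, ht, σ, σl, p, et⟩ := i3_T h.toB2 h.sz h.sT l
  obtain ⟨t', ht', σ', σi, -, et'⟩ := i3_T h.toB2 h.sz h.sT i
  refine ⟨t * y * t⁻¹, h.toB0, h.sz, h.sT, mul_mem (mul_mem ht (Jz y yJ)) (inv_mem ht), fun m => yQ ?_,
    by rw [conj_pow, y3]; group, fun j => ?_, fun j => ?_, t * q⁻¹ * n * t'⁻¹, mem_cent1.2 ?_, ?_⟩
  · exact (mem_normalizer_iff.1 (Fa.cQ h.toE1 ht) _).2 m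
  · obtain ⟨j, rfl⟩ := σ.surjective j
    rw [← p, ← cj_normalizer, conj_mem_cj]
    exact (JB y yJ).1 j
  · obtain ⟨j, rfl⟩ := σ.surjective j
    exact et j ▸ (yr j).conj t
  · have e1 := et l
    have e2 := et' i
    rw [σl] at e1
    rw [σi] at e2
    calc t * q⁻¹ * n * t'⁻¹ * r 0 = t * q⁻¹ * (n * r i * n⁻¹) * n * t'⁻¹ := by rw [← e2]; group
      _ = t * r l * t⁻¹ * (t * q⁻¹ * n * t'⁻¹) := by rw [← eq]; group
      _ = _ := by rw [e1]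
  · have c1 := mem_cent1.1 ht'
    have c2 := mem_cent1.1 (h'.Qc hq)
    calc t * q⁻¹ * n * t'⁻¹ * z * (t * q⁻¹ * n * t'⁻¹)⁻¹
        = t * q⁻¹ * (n * (t'⁻¹ * (z * t')) * n⁻¹) * q * t⁻¹ := by group
      _ = t * q⁻¹ * (y * q) * t⁻¹ := by rw [← c1, inv_mul_cancel_left, en]; group
      _ = _ := by rw [← c2]; group

end Cfsg.Agent.F3
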