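import Cfsg.Agent.F3.Bas2

set_option autoImplicit false

namespace Cfsg.Agent.F3

open Subgroup H49 T3.Fr2 MC3

namespace W1

theorem perm3 : ∀ σ : Equiv.Perm (Fin 3), (∀ i, σ i ≠ i) ∨ σ ^ 3 = σ := by decide +kernel

theorem cyc : ∀ σ : Equiv.Perm (Fin 3), (∀ i, σ i ≠ i) → ∀ j k, k = j ∨ k = σ j ∨ k = σ (σ j) := by
  decide +kernel

theorem fin3 : ∀ i k j l : Fin 3, k ≠ i → j ≠ i → j ≠ k → l ≠ j → l = i ∨ l = k := by decide

theorem s_inv : ∀ T X : S2, T * T = 1 → T * X * T⁻¹ * X⁻¹ = 1 := by decide +kernel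

/-- `±1` -/
def PM (A : S2) : Prop := A = 1 ∨ A = S2.nI
instance (A : S2) : Decidable (PM A) := by unfold PM; infer_instance

theorem s_tr : ∀ A X : S2, A ^ 4 = 1 → X ^ 3 = 1 →
    (X ≠ 1 → PM (A * (X * A * X⁻¹) * (X * (X * A * X⁻¹) * X⁻¹))⁻¹ ∧
      PM (A * (A * (X * A * X⁻¹) * (X * (X * A * X⁻¹) * X⁻¹)) * A⁻¹)) ∧
    (X = 1 → (A * (X * A * X⁻¹) * (X * (X * A * X⁻¹) * X⁻¹))⁻¹ * A⁻¹ = 1 ∧
      A * (A * (X * A * X⁻¹) * (X * (X * A * X⁻¹) * X⁻¹)) = 1) := by decide +kernel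

theorem s_gen : ∀ A X : S2, A ^ 4 = 1 → ¬ PM A → X ^ 3 = 1 → X ≠ 1 → ∀ B : S2, B ^ 4 = 1 →
    ∃ m : Fin 4, ∃ n : Fin 2, B = A ^ m.val * (X * A * X⁻¹) ^ n.val := by decide +kernel

theorem pi_eq (D : Fin 3 → S2) :
    D = Pi.mulSingle 0 (D 0) * Pi.mulSingle 1 (D 1) * Pi.mulSingle 2 (D 2) := by
  funext k; fin_cases k <;> simp

theorem pi_mem {I : Subgroup (Fin 3 → S2)} {D : Fin 3 → S2} (h : ∀ k, Pi.mulSingle k (D k) ∈ I) :
    D ∈ I := by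
  rw [pi_eq D]; exact mul_mem (mul_mem (h 0) (h 1)) (h 2)

theorem single_mem {I : Subgroup (Fin 3 → S2)} (hn : ∀ j, Pi.mulSingle j S2.nI ∈ I)
    {B D : Fin 3 → S2} (hB : B ∈ I) (h : ∀ k, PM (B k * (D k)⁻¹)) : D ∈ I := by
  have : B * D⁻¹ ∈ I := pi_mem fun k => by
    rcases h k with e | e
    · rw [show (B * D⁻¹) k = 1 from e, Pi.mulSingle_one]; exact one_mem _
    · rw [show (B * D⁻¹) k = S2.nI from e]; exact hn k
  simpa using mul_mem (inv_mem this) hB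

theorem alg {I : Subgroup (Fin 3 → S2)} (h4 : ∀ A ∈ I, ∀ k, A k ^ 4 = 1)
    (hn : ∀ j, Pi.mulSingle j S2.nI ∈ I) {X : Fin 3 → S2} (hX : ∀ A ∈ I, X * A * X⁻¹ ∈ I)
    (h3 : ∀ k, X k ^ 3 = 1) {i : Fin 3} (hi : X i = 1) (h1 : X ≠ 1) :
    ∃ j, ∀ A ∈ I, Pi.mulSingle j (A j) ∈ I := by
  have hT : ∀ A ∈ I, A * (X * A * X⁻¹) * (X * (X * A * X⁻¹) * X⁻¹) ∈ I := fun A hA =>
    mul_mem (mul_mem hA (hX A hA)) (hX _ (hX A hA))
  by_cases hc : ∀ k, k ≠ i → X k ≠ 1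
  · refine ⟨i, fun A hA => single_mem hn (inv_mem (hT A hA)) fun k => ?_⟩
    have := s_tr (A k) (X k) (h4 A hA k) (h3 k)
    by_cases e : k = i
    · subst e
      rw [Pi.mulSingle_eq_same]
      exact Or.inl (this.2 hi).1
    · rw [Pi.mulSingle_eq_of_ne e, inv_one, mul_one]
      exact (this.1 (hc k e)).1
  · push Not at hc
    obtain ⟨k, hk, hk1⟩ := hc
    obtain ⟨j, hj⟩ := Function.ne_iff.1 h1
    have hj' : X j ≠ 1 := hj
    refine ⟨j, fun A hA => single_mem hn (mul_mem hA (hT A hA)) fun l => ?_⟩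
    have := s_tr (A l) (X l) (h4 A hA l) (h3 l)
    by_cases e : l = j
    · subst e
      rw [Pi.mulSingle_eq_same]
      exact (this.1 hj').2
    · rw [Pi.mulSingle_eq_of_ne e, inv_one, mul_one]
      refine Or.inl (this.2 ?_).2
      rcases fin3 i k j l hk (fun e => hj' (e ▸ hi)) (fun e => hj' (e ▸ hk1)) e with rfl | rfl
      · exact hi
      · exact hk1

theorem card_pi (J : Fin 3 → Subgroup S2) :
    Nat.card (Subgroup.pi Set.univ J) = Nat.card (J 0) * Nat.card (J 1) * Nat.card (J 2) := by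
  have e : Subgroup.pi Set.univ J ≃ ∀ i, J i :=
    (Equiv.subtypeEquivRight fun f => by simp [mem_pi]).trans
      (Equiv.subtypePiEquivPi (p := fun i (A : S2) => A ∈ J i))
  rw [Nat.card_congr e, Nat.card_pi, Fin.prod_univ_three]

variable {G : Type*} [Group G]

/-- the base group -/
def BB (z : G) (Qs : Fin 3 → Subgroup G) : Subgroup G := 𝒞[z] ⊓ ⨅ i, 𝒩(Qs i)

/-- the three matrices -/
noncomputable def Φ (z : G) (a b : Fin 3 → G) (g : G) : Fin 3 → S2 := fun i => mat z (a i) (b i) g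

/-- elements of `C(z)` trivial on `W/Z` -/
def TvS (z : G) (W : Subgroup G) : Subgroup G where
  carrier := {g | g ∈ 𝒞[z] ∧ Tv z W g}
  one_mem' := ⟨one_mem _, fun q _ => by simp⟩
  mul_mem' := by
    rintro g k ⟨g1, g2⟩ ⟨k1, k2⟩
    refine ⟨mul_mem g1 k1, fun q hq => ?_⟩
    have := mul_mem (k2 q hq) (g2 q hq)
    rw [← Z_conj g1 (k2 q hq)] at this
    convert this using 1
    group
  inv_mem' := by
    rintro g ⟨g1, g2⟩
    refine ⟨inv_mem g1, fun q hq => ?_⟩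
    have := inv_mem (g2 q hq)
    rw [← Z_conj (inv_mem g1) this] at this
    convert this using 1
    group

/-- the elements of `QR` acting only on the `j`-th factor -/
def NN (z : G) (Q R : Subgroup G) (Qs : Fin 3 → Subgroup G) (j : Fin 3) : Subgroup G :=
  (Q ⊔ R) ⊓ ⨅ k, ⨅ _ : k ≠ j, TvS z (Qs k)

variable {z : G} {Q R : Subgroup G} {Qs : Fin 3 → Subgroup G} {r a b : Fin 3 → G}

theorem mem_BB {g : G} : g ∈ BB z Qs ↔ g ∈ 𝒞[z] ∧ Ba Qs g := by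
  rw [BB, mem_inf, mem_iInf]; rfl

theorem BB_le (i : Fin 3) : BB z Qs ≤ 𝒞[z] ⊓ 𝒩(Qs i) := fun _ hg =>
  ⟨(mem_BB.1 hg).1, (mem_BB.1 hg).2 i⟩

theorem mem_TvS {W : Subgroup G} {g : G} : g ∈ TvS z W ↔ g ∈ 𝒞[z] ∧ Tv z W g := Iff.rfl

theorem mem_NN {j : Fin 3} {g : G} :
    g ∈ NN z Q R Qs j ↔ g ∈ Q ⊔ R ∧ ∀ k, k ≠ j → g ∈ TvS z (Qs k) := by
  simp only [NN, mem_inf, mem_iInf]

theorem TvS_conj {W : Subgroup G} {s g : G} (hs : s ∈ 𝒞[z]) (hg : g ∈ TvS z W) :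
    s * g * s⁻¹ ∈ TvS z (cj s W) := by
  refine ⟨mul_mem (mul_mem hs hg.1) (inv_mem hs), fun q hq => ?_⟩
  have := hg.2 _ (mem_cj.1 hq)
  rw [← Z_conj hs this] at this
  convert this using 1
  group

variable [Finite G]

theorem ph (h : B2 z Q Qs r R) (f : ∀ i, Fm z (Qs i) (r i) (a i) (b i)) :
    PH (BB z Qs) (Φ z a b) :=
  ⟨fun g hg k hk => funext fun i => (h.hp (f i)).ph.mul g (BB_le i hg) k (BB_le i hk)⟩

theorem tvs_iff (h : B2 z Q Qs r R) (f : ∀ i, Fm z (Qs i) (r i) (a i) (b i)) {g : G}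
    (hg : g ∈ BB z Qs) (i : Fin 3) : g ∈ TvS z (Qs i) ↔ Φ z a b g i = 1 :=
  (and_iff_right (mem_BB.1 hg).1).trans (h.tv_iff (f i) (BB_le i hg))

theorem kerΦ (h : B2 z Q Qs r R) (f : ∀ i, Fm z (Qs i) (r i) (a i) (b i)) {g : G}
    (hg : g ∈ BB z Qs) : Φ z a b g = 1 ↔ g ∈ Q :=
  ⟨fun e => h.ker (mem_BB.1 hg).1 fun i => ((tvs_iff h f hg i).2 (congrFun e i)).2,
    fun e => funext fun i => (h.hp (f i)).mat_Q e⟩

theorem Q_le (h : B2 z Q Qs r R) : Q ≤ BB z Qs := fun _ hg =>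
  mem_BB.2 ⟨h.Qc hg, fun i => h.QN i hg⟩

omit [Finite G] in
theorem R_le (h : B2 z Q Qs r R) : R ≤ BB z Qs := fun _ hg =>
  mem_BB.2 ⟨h.Rc hg, fun i => h.RN i hg⟩

theorem P_le (h : B2 z Q Qs r R) : Q ⊔ R ≤ BB z Qs := sup_le (Q_le h) (R_le h)

/-- the image of `QR` -/
noncomputable def II (h : B2 z Q Qs r R) (f : ∀ i, Fm z (Qs i) (r i) (a i) (b i)) :
    Subgroup (Fin 3 → S2) := ((ph h f).mono (R_le h)).im

/-- the image of `N j` -/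
noncomputable def JJ (h : B2 z Q Qs r R) (f : ∀ i, Fm z (Qs i) (r i) (a i) (b i)) (j : Fin 3) :
    Subgroup S2 := (II h f).comap (MonoidHom.mulSingle (fun _ => S2) j)

variable (h : B2 z Q Qs r R) (f : ∀ i, Fm z (Qs i) (r i) (a i) (b i))

theorem mem_JJ {j : Fin 3} {A : S2} : A ∈ JJ h f j ↔ Pi.mulSingle j A ∈ II h f := Iff.rfl

theorem card_II (c : Nat.card R = 128) : Nat.card (II h f) = 128 := by
  have := ((ph h f).mono (R_le h)).card (J := Q) fun m hm => kerΦ h f (R_le h hm)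
  rw [c, h.QR, card_bot, one_mul] at this
  exact this.symm

theorem mem_II {A : Fin 3 → S2} : A ∈ II h f ↔ ∃ g ∈ Q ⊔ R, Φ z a b g = A := by
  rw [II, PH.mem_im]
  refine ⟨fun ⟨g, hg, e⟩ => ⟨g, mem_sup_right hg, e⟩, fun ⟨g, hg, e⟩ => ?_⟩
  obtain ⟨q, hq, ρ, hρ, rfl⟩ := h.mem_QR hg
  rw [(ph h f).mul q (Q_le h hq) ρ (R_le h hρ), (kerΦ h f (Q_le h hq)).2 hq, one_mul] at e
  exact ⟨ρ, hρ, e⟩

theorem II_four : ∀ A ∈ II h f, ∀ k, A k ^ 4 = 1 := by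
  intro A hA k
  obtain ⟨ρ, hρ, rfl⟩ := (PH.mem_im _).1 hA
  have := (ph h f).pow (R_le h hρ) 4
  rw [h.R4 hρ, (ph h f).one] at this
  exact (congrFun this k).symm

theorem II_conj {g : G} (hg : g ∈ BB z Qs) :
    ∀ A ∈ II h f, Φ z a b g * A * (Φ z a b g)⁻¹ ∈ II h f := by
  intro A hA
  obtain ⟨ρ, hρ, rfl⟩ := (mem_II h f).1 hA
  exact (mem_II h f).2 ⟨_, conj_mem_of_norm h.nR (mem_BB.1 hg).1 hρ, (ph h f).conj hg (P_le h hρ)⟩

theorem mem_JJ' {j : Fin 3} {A : S2} :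
    A ∈ JJ h f j ↔ ∃ g ∈ NN z Q R Qs j, Φ z a b g j = A := by
  rw [mem_JJ, mem_II]
  constructor
  · rintro ⟨g, hg, e⟩
    exact ⟨g, mem_NN.2 ⟨hg, fun k hk => (tvs_iff h f (P_le h hg) k).2
      (by rw [e, Pi.mulSingle_eq_of_ne hk])⟩, by rw [e, Pi.mulSingle_eq_same]⟩
  · rintro ⟨g, hg, rfl⟩
    obtain ⟨h1, h2⟩ := mem_NN.1 hg
    refine ⟨g, h1, funext fun k => ?_⟩
    by_cases e : k = j
    · rw [e, Pi.mulSingle_eq_same]
    · rw [Pi.mulSingle_eq_of_ne e]; exact (tvs_iff h f (P_le h h1) k).1 (h2 k e)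

theorem II_n (j : Fin 3) : Pi.mulSingle j S2.nI ∈ II h f := by
  refine (mem_JJ' h f).2 ⟨r j, mem_NN.2 ⟨mem_sup_right (h.rR j), fun k hk => ⟨h.rz j, fun q hq => ?_⟩⟩,
    (h.neg_iff (f j) ⟨h.rz j, h.rB j j⟩).1 (h.inv j)⟩
  rw [← mem_centralizer_iff.1 (h.rc j k hk.symm) q hq]
  simp

theorem card_NN (j : Fin 3) : Nat.card (NN z Q R Qs j) = 2187 * Nat.card (JJ h f j) := by
  have hle : NN z Q R Qs j ≤ BB z Qs := le_trans inf_le_left (P_le h)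
  have p : PH (NN z Q R Qs j) fun g => Φ z a b g j :=
    ((ph h f).mono hle).comp (Pi.evalMonoidHom (fun _ => S2) j)
  have h1 := p.card (J := Q) fun m hm => by
    rw [← kerΦ h f (hle hm)]
    refine ⟨fun e => funext fun k => ?_, fun e => congrFun e j⟩
    by_cases e' : k = j
    · rw [e']; exact e
    · exact (tvs_iff h f (hle hm) k).1 ((mem_NN.1 hm).2 k e')
  have h2 : Q ≤ NN z Q R Qs j := fun q hq => mem_NN.2 ⟨mem_sup_left hq, fun k _ =>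
    ⟨h.Qc hq, fun u hu => h.comm q hq u (h.le k hu)⟩⟩
  have h3 : p.im = JJ h f j := by ext A; rw [p.mem_im, mem_JJ']
  rwa [inf_eq_left.2 h2, h.card, h3] at h1

omit [Finite G] in
include h in
theorem NN_conj {s g : G} (hs : s ∈ 𝒞[z]) {σ : Equiv.Perm (Fin 3)}
    (hσ : ∀ i, cj s (Qs i) = Qs (σ i)) {j : Fin 3} (hg : g ∈ NN z Q R Qs j) :
    s * g * s⁻¹ ∈ NN z Q R Qs (σ j) := by
  obtain ⟨h1, h2⟩ := mem_NN.1 hg
  refine mem_NN.2 ⟨conj_mem_of_norm h.nR hs h1, fun k hk => ?_⟩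
  obtain ⟨k, rfl⟩ := σ.surjective k
  rw [← hσ]
  exact TvS_conj hs (h2 k fun e => hk (by rw [e]))

include h in
theorem exists_cyc {s : G} (hs : s ∈ 𝒞[z]) (sT : Tr Qs s) : ∃ σ : Equiv.Perm (Fin 3),
    (∀ i, cj s (Qs i) = Qs (σ i)) ∧ ∀ j k, k = j ∨ k = σ j ∨ k = σ (σ j) := by
  obtain ⟨σ, hσ⟩ := h.perm hs
  exact ⟨σ, hσ, cyc σ fun i e => sT i (mem_norm_iff_cj.2 (by rw [hσ, e]))⟩

theorem card_JJ {s : G} (hs : s ∈ 𝒞[z]) (sT : Tr Qs s) (j k : Fin 3) :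
    Nat.card (JJ h f j) ≤ Nat.card (JJ h f k) := by
  obtain ⟨σ, hσ, hc⟩ := exists_cyc h hs sT
  have step : ∀ j, Nat.card (JJ h f j) ≤ Nat.card (JJ h f (σ j)) := fun j => by
    have : cj s (NN z Q R Qs j) ≤ NN z Q R Qs (σ j) := fun g hg => by
      obtain ⟨y, hy, rfl⟩ := mem_cj'.1 hg
      exact NN_conj h hs hσ hy
    have := card_le_of_le this
    rw [card_cj, card_NN h f, card_NN h f] at this
    omega
  rcases hc j k with rfl | rfl | rfl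
  · exact le_rfl
  · exact step j
  · exact (step j).trans (step _)

theorem pi_le : Subgroup.pi Set.univ (JJ h f) ≤ II h f := fun _ hD =>
  pi_mem fun k => hD k trivial

theorem card_cube {s : G} (hs : s ∈ 𝒞[z]) (sT : Tr Qs s) (j : Fin 3) :
    Nat.card (Subgroup.pi Set.univ (JJ h f)) = Nat.card (JJ h f j) ^ 3 := by
  have e : ∀ k, Nat.card (JJ h f k) = Nat.card (JJ h f j) := fun k =>
    le_antisymm (card_JJ h f hs sT _ _) (card_JJ h f hs sT _ _)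
  rw [card_pi, e 0, e 1, e 2]; ring

theorem no_split (c : Nat.card R = 128) {s : G} (hs : s ∈ 𝒞[z]) (sT : Tr Qs s) {j : Fin 3}
    (hj : ∀ A ∈ II h f, A j ∈ JJ h f j) : False := by
  obtain ⟨σ, hσ, hc⟩ := exists_cyc h hs sT
  have step : ∀ j, (∀ A ∈ II h f, A j ∈ JJ h f j) → ∀ A ∈ II h f, A (σ j) ∈ JJ h f (σ j) := by
    intro j hj A hA
    obtain ⟨ρ, hρ, rfl⟩ := (mem_II h f).1 hA
    have hρ' := conj_mem_of_norm' h.nR hs hρ
    obtain ⟨ν, hν, e⟩ := (mem_JJ' h f).1 (hj _ ((mem_II h f).2 ⟨_, hρ', rfl⟩))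
    have hν' := NN_conj h hs hσ hν
    refine (mem_JJ' h f).2 ⟨_, hν', ?_⟩
    have b1 := P_le h (mem_NN.1 hν).1
    have b2 := P_le h (mem_NN.1 hν').1
    have t1 : ν * (s⁻¹ * ρ * s)⁻¹ ∈ TvS z (Qs j) :=
      (tvs_iff h f (mul_mem b1 (inv_mem (P_le h hρ'))) j).2 (by
        rw [(ph h f).div b1 (P_le h hρ'), Pi.mul_apply, Pi.inv_apply, e, mul_inv_cancel])
    have t2 := TvS_conj hs t1
    rw [hσ, show s * (ν * (s⁻¹ * ρ * s)⁻¹) * s⁻¹ = s * ν * s⁻¹ * ρ⁻¹ by group,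
      tvs_iff h f (mul_mem b2 (inv_mem (P_le h hρ))), (ph h f).div b2 (P_le h hρ)] at t2
    exact mul_inv_eq_one.1 t2
  have all : II h f ≤ Subgroup.pi Set.univ (JJ h f) := fun A hA k _ => by
    rcases hc j k with rfl | rfl | rfl
    · exact hj A hA
    · exact step j hj A hA
    · exact step _ (step j hj) A hA
  have := card_cube h f hs sT j
  rw [← le_antisymm all (pi_le h f), card_II h f c] at this
  generalize Nat.card (JJ h f j) = n at this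
  have h6 : n < 6 := lt_of_pow_lt_pow_left₀ 3 (by norm_num) (by omega)
  interval_cases n <;> simp at this

end W1

open W1

variable {G : Type*} [Group G] [Finite G] {z : G} {Q R : Subgroup G} {Qs : Fin 3 → Subgroup G}
  {r : Fin 3 → G}

theorem B2.three (h : B2 z Q Qs r R) {g : G} (hg : g ∈ 𝒞[z]) {k : ℕ} (h3 : g ^ 3 ^ k ∈ Q) :
    Ba Qs g ∨ Tr Qs g := by
  obtain ⟨σ, -, hσ⟩ := h.permHom
  rcases perm3 (σ ⟨g, hg⟩) with e | e
  · exact Or.inr fun i hi => e i ((hσ ⟨g, hg⟩ i).1 hi)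
  · refine Or.inl fun i => (hσ ⟨g, hg⟩ i).2 ?_
    have e' : ∀ k : ℕ, σ ⟨g, hg⟩ ^ 3 ^ k = σ ⟨g, hg⟩ := fun k => by
      induction k with
      | zero => simp
      | succ k ih => rw [pow_succ, pow_mul, ih, e]
    rw [← e' k, ← map_pow]
    exact (hσ _ i).1 (h.QN i h3)

theorem B2.inv_comm (h : B2 z Q Qs r R) {t g : G} (ht : t ∈ 𝒞[z]) (bt : Ba Qs t) (tt : t * t ∈ Q)
    (hg : g ∈ 𝒞[z]) (bg : Ba Qs g) : t * g * t⁻¹ * g⁻¹ ∈ Q := by
  obtain ⟨a, b, f⟩ := h.exists_fm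
  have t1 := mem_BB.2 ⟨ht, bt⟩
  have g1 := mem_BB.2 ⟨hg, bg⟩
  have c1 := mul_mem (mul_mem t1 g1) (inv_mem t1)
  rw [← kerΦ h f (mul_mem t1 t1), (ph h f).mul _ t1 _ t1] at tt
  rw [← kerΦ h f (mul_mem c1 (inv_mem g1)), (ph h f).div c1 g1, (ph h f).conj t1 g1]
  exact funext fun i => s_inv _ _ (congrFun tt i)

theorem B2.not_inv (h : B2 z Q Qs r R) {t g : G} (ht : t ∈ 𝒞[z]) (bt : Ba Qs t) (tt : t * t ∈ Q)
    (hg : g ∈ 𝒞[z]) (h3 : g ^ 3 ∈ Q) (e : t * g * t⁻¹ * g ∈ Q) : g ∈ Q := by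
  have bg : Ba Qs g := by
    obtain ⟨σ, -, hσ⟩ := h.permHom
    have e1 : σ ⟨t, ht⟩ = 1 := Equiv.ext fun i => (hσ _ i).1 (bt i)
    have e2 : σ (⟨t, ht⟩ * ⟨g, hg⟩ * ⟨t, ht⟩⁻¹ * ⟨g, hg⟩) = 1 :=
      Equiv.ext fun i => (hσ _ i).1 (h.QN i e)
    have e3 : σ (⟨g, hg⟩ ^ 3) = 1 := Equiv.ext fun i => (hσ _ i).1 (h.QN i h3)
    rw [map_mul, map_mul, map_mul, map_inv, e1, one_mul, inv_one, mul_one] at e2
    rw [map_pow, pow_succ, pow_two, e2, one_mul] at e3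
    exact fun i => (hσ ⟨g, hg⟩ i).2 (by rw [e3]; rfl)
  have := mul_mem h3 (mul_mem (inv_mem e) (h.inv_comm ht bt tt hg bg))
  convert this using 1
  rw [pow_succ, pow_two]; group

/-- in the transitive case the elements of order three of the base group have weight three -/
theorem B1.wt (h : B1 z Q Qs r R) {s g : G} (hs : s ∈ 𝒞[z]) (sT : Tr Qs s) (hg : g ∈ 𝒞[z])
    (bg : Ba Qs g) (h3 : g ^ 3 ∈ Q) {i : Fin 3} (tv : Tv z (Qs i) g) : g ∈ Q := by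
  have k := h.toB2
  obtain ⟨a, b, f⟩ := k.exists_fm
  have g1 := mem_BB.2 ⟨hg, bg⟩
  by_contra hc
  rw [← kerΦ k f (pow_mem g1 3), (ph k f).pow g1] at h3
  obtain ⟨j, hj⟩ := alg (II_four k f) (II_n k f) (II_conj k f g1) (fun k => congrFun h3 k)
    ((tvs_iff k f g1 i).1 ⟨hg, tv⟩) fun e => hc ((kerΦ k f g1).1 e)
  exact no_split k f h.cardR hs sT hj

theorem B0.n2 (h : B0 z Q Qs r R) {s x g : G} (hs : s ∈ 𝒞[z]) (sT : Tr Qs s) (hx : x ∈ 𝒞[z])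
    (bx : Ba Qs x) (x3 : x ^ 3 ∈ Q) (xQ : x ∉ Q) (hg : g ∈ 𝒞[z]) (bg : Ba Qs g) {i : Fin 3}
    (tv : ∀ j, j ≠ i → Tv z (Qs j) g) : g ∈ Q ∨ g * r i ∈ Q := by
  have k := h.toB1.toB2
  obtain ⟨a, b, f⟩ := k.exists_fm
  have g1 := mem_BB.2 ⟨hg, bg⟩
  have x1 := mem_BB.2 ⟨hx, bx⟩
  obtain ⟨j, hj⟩ := exists_ne i
  have g4 : g ^ 4 ∈ Q := by
    refine h.toB1.wt hs sT (pow_mem hg 4) (mem_BB.1 (pow_mem g1 4)).2 ?_
      (pow_mem (show g ∈ TvS z (Qs j) from ⟨hg, tv j hj⟩) 4).2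
    rw [← pow_mul, ← kerΦ k f (pow_mem g1 _), (ph k f).pow g1]
    exact funext fun l => S2.pow12 _
  have gN : g ∈ NN z Q R Qs i := mem_NN.2 ⟨h.max g hg bg g4, fun l hl => ⟨hg, tv l hl⟩⟩
  have gJ : Φ z a b g i ∈ JJ k f i := (mem_JJ' k f).2 ⟨g, gN, rfl⟩
  by_cases hp : PM (Φ z a b g i)
  · rcases hp with e | e
    · refine Or.inl (k.ker hg fun l => ?_)
      by_cases e' : l = i
      · rw [e']; exact ((tvs_iff k f g1 i).2 e).2
      · exact tv l e'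
    · exact Or.inr (k.as_r hg ((k.neg_iff (f i) (BB_le i g1)).2 e) tv)
  exfalso
  rw [← kerΦ k f (pow_mem g1 _), (ph k f).pow g1] at g4
  have hX : Φ z a b x i ≠ 1 := fun e => xQ (h.toB1.wt hs sT hx bx x3 ((tvs_iff k f x1 i).2 e).2)
  rw [← kerΦ k f (pow_mem x1 _), (ph k f).pow x1] at x3
  have cJ : Φ z a b x i * Φ z a b g i * (Φ z a b x i)⁻¹ ∈ JJ k f i := by
    have := II_conj k f x1 _ gJ
    rw [mem_JJ]
    convert this using 1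
    funext l
    by_cases e : l = i
    · subst e; simp
    · simp [Pi.mulSingle_eq_of_ne e]
  have h8 : 8 ≤ Nat.card (JJ k f i) := by
    rw [← S2.card4]
    refine Set.ncard_le_ncard (s := {A : S2 | A ^ 4 = 1}) (t := (JJ k f i : Set S2)) fun B hB => ?_
    obtain ⟨m, n, rfl⟩ := s_gen _ _ (congrFun g4 i) hp (congrFun x3 i) hX B hB
    exact mul_mem (pow_mem gJ _) (pow_mem cJ _)
  have := card_le_of_le (pi_le k f)
  rw [card_cube k f hs sT i, card_II k f h.cardR] at this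
  have := (Nat.pow_le_pow_left h8 3).trans this
  omega

end Cfsg.Agent.F3
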