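import Cfsg.Agent.F3.Bas1

/-! Project F3, part Bas2: frames, matrices, the permutation action on the factors, and `A₀`. -/

set_option autoImplicit false

namespace Cfsg.Agent.F3

open Subgroup H49 T3.Fr2

variable {G : Type*} [Group G] [Finite G] {z : G} {Q R : Subgroup G} {Qs : Fin 3 → Subgroup G}
  {r : Fin 3 → G}

namespace Bas2

omit [Finite G] in
theorem ZQs (h : B2 z Q Qs r R) (i : Fin 3) : zpowers z ≤ Qs i := zpowers_le.2 (h.zs i)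

theorem orth (h : B2 z Q Qs r R) {i j : Fin 3} (n : i ≠ j) {u w : G} (hu : u ∈ Qs i)
    (hw : w ∈ Qs j) : bt z u w = 0 :=
  (Fa.bt_zero h.toE1 (h.le i hu) (h.le j hw)).2 (h.QQ i j n hu w hw).symm

theorem bt_dec (h : B2 z Q Qs r R) {u : Fin 3 → G} (hu : ∀ i, u i ∈ Qs i) {i : Fin 3} {w : G}
    (hw : w ∈ Qs i) : bt z (u 0 * u 1 * u 2) w = bt z (u i) w := by
  have q := fun j => h.le j (hu j)
  rw [Fa.bt_mul_left h.toE1 (mul_mem (q 0) (q 1)) (q 2) (h.le i hw),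
    Fa.bt_mul_left h.toE1 (q 0) (q 1) (h.le i hw)]
  have o : ∀ j, j ≠ i → bt z (u j) w = 0 := fun j n => orth h n (hu j) hw
  obtain rfl | rfl | rfl : i = 0 ∨ i = 1 ∨ i = 2 := by omega
  · rw [o 1 (by decide), o 2 (by decide)]; ring
  · rw [o 0 (by decide), o 2 (by decide)]; ring
  · rw [o 0 (by decide), o 1 (by decide)]; ring

theorem bt_dec' (h : B2 z Q Qs r R) {u : Fin 3 → G} (hu : ∀ i, u i ∈ Qs i) {i : Fin 3} {w : G}
    (hw : w ∈ Qs i) : bt z w (u 0 * u 1 * u 2) = bt z w (u i) := by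
  have q := fun j => h.le j (hu j)
  rw [Fa.bt_swap h.toE1 (h.le i hw) (mul_mem (mul_mem (q 0) (q 1)) (q 2)), bt_dec h hu hw,
    ← Fa.bt_swap h.toE1 (h.le i hw) (q i)]

theorem vec_dec (h : B2 z Q Qs r R) {u : Fin 3 → G} (hu : ∀ i, u i ∈ Qs i) {i : Fin 3} {a b : G}
    (ha : a ∈ Qs i) (hb : b ∈ Qs i) : vec z a b (u 0 * u 1 * u 2) = vec z a b (u i) :=
  Prod.ext (bt_dec' h hu hb) (bt_dec h hu ha)

theorem memZ (h : B2 z Q Qs r R) {i : Fin 3} {w : G} (hw : w ∈ Qs i)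
    (e : ∀ u ∈ Qs i, bt z u w = 0) : w ∈ zpowers z :=
  Fa.mem_Z_of_bt h.toE1 (h.le i hw) fun q hq => by
    obtain ⟨u, hu, rfl⟩ := h.dec hq
    rw [bt_dec h hu hw, e _ (hu i)]

theorem inv_rep (h : B2 z Q Qs r R) (i : Fin 3) {u : G} (hu : u ∈ Qs i) :
    ∃ a ∈ Qs i, r i * a * (r i)⁻¹ = a⁻¹ ∧ a * u⁻¹ ∈ zpowers z := by
  have hc := h.inv i u hu
  have c3 := h.exp _ (Fa.ZQ h.toE1 hc)
  have e : r i * u * (r i)⁻¹ = r i * u * (r i)⁻¹ * u * u⁻¹ := by group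
  generalize r i * u * (r i)⁻¹ * u = c at hc c3 e
  refine ⟨c * u, mul_mem (ZQs h i hc) hu, ?_, by simpa using hc⟩
  rw [show r i * (c * u) * (r i)⁻¹ = r i * c * (r i)⁻¹ * (r i * u * (r i)⁻¹) by group,
    Z_conj (h.rz i) hc, e, mul_inv_rev, ← Z_comm (inv_mem (h.Qc (h.le i hu))) (inv_mem hc),
    ← mul_assoc]
  congr 1
  rw [eq_inv_iff_mul_eq_one, ← c3, pow_succ, pow_two]

theorem ba (h : B2 z Q Qs r R) {i : Fin 3} {a b : G} (f : Fm z (Qs i) (r i) a b) : bt z b a = 1 :=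
  Fa.bt_eq h.toE1 (h.le i f.bW) (h.le i f.aW) (by
    rw [f.ba, zp_one, Z_conj (h.Qc (h.le i f.aW)) (mem_zpowers z)])

omit [Finite G] in
theorem vec_nf (h : E1 z Q) {a b : G} (ha : a ∈ Q) (hb : b ∈ Q) (e : bt z b a = 1) {c : G}
    (hc : c ∈ zpowers z) (j k : ℕ) : vec z a b (c * a ^ j * b ^ k) = ((j : ZMod 3), (k : ZMod 3)) := by
  have hc' := Fa.ZQ h hc
  refine Prod.ext ?_ ?_
  · simp only [vec]
    rw [Fa.bt_mul_right h hb (mul_mem hc' (pow_mem ha j)) (pow_mem hb k),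
      Fa.bt_mul_right h hb hc' (pow_mem ha j), Fa.bt_Z_right h hb hc, Fa.bt_pow_right h hb ha,
      Fa.bt_pow_right h hb hb, e, Fa.bt_self h hb]
    ring
  · simp only [vec]
    rw [Fa.bt_swap h (mul_mem (mul_mem hc' (pow_mem ha j)) (pow_mem hb k)) ha,
      Fa.bt_mul_right h ha (mul_mem hc' (pow_mem ha j)) (pow_mem hb k),
      Fa.bt_mul_right h ha hc' (pow_mem ha j), Fa.bt_Z_right h ha hc, Fa.bt_pow_right h ha ha,
      Fa.bt_pow_right h ha hb, Fa.bt_swap h ha hb, e, Fa.bt_self h ha]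
    ring

theorem Qs_inj (h : B2 z Q Qs r R) {i j : Fin 3} (e : Qs i = Qs j) : i = j := by
  by_contra n
  have := card_le_of_le (h.inter n)
  rw [← e, inf_idem, h.cards, Nat.card_zpowers, h.z3] at this
  omega

/-- the factor is the set of elements inverted modulo `Z` -/
theorem mem_of_inv (h : B2 z Q Qs r R) {i : Fin 3} {q : G} (hq : q ∈ Q)
    (e : r i * q * (r i)⁻¹ * q ∈ zpowers z) : q ∈ Qs i := by
  have s := (Fa.sc_neg h.toE1 (h.rz i) hq).2 e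
  obtain ⟨u, hu, rfl⟩ := h.dec hq
  have k : ∀ j, u j ∈ Qs i := fun j => by
    by_cases n : i = j
    · exact n ▸ hu i
    · refine ZQs h i (memZ h (hu j) fun w hw => ?_)
      rw [← bt_dec' h hu hw]
      exact Fa.orth h.toE1 (h.rz i) (h.le j hw) hq
        (by rw [← h.rc i j n w hw, mul_inv_cancel_right]) s
  exact mul_mem (mul_mem (k 0) (k 1)) (k 2)

omit [Finite G] in
theorem rearr {c0 c1 c2 x0 x1 x2 y0 y1 y2 : G} (h1 : Commute x0 c1) (h2 : Commute y0 c1)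
    (h3 : Commute x0 c2) (h4 : Commute y0 c2) (h5 : Commute x1 c2) (h6 : Commute y1 c2)
    (h7 : Commute y0 x1) (h8 : Commute y0 x2) (h9 : Commute y1 x2) :
    c0 * x0 * y0 * (c1 * x1 * y1) * (c2 * x2 * y2) = c0 * c1 * c2 * (x0 * x1 * x2) * (y0 * y1 * y2) := by
  simp only [mul_assoc]
  rw [h2.left_comm, h1.left_comm, h6.left_comm, h5.left_comm, h4.left_comm, h3.left_comm,
    h7.left_comm, h9.left_comm, h8.left_comm]

omit [Finite G] in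
theorem dvd_of_zpow {a : G} (a3 : a ^ 3 = 1) (ha : a ∉ zpowers z) {m : ℤ} (e : a ^ m ∈ zpowers z) :
    3 ∣ m := by
  have e1 : a ^ m = a ^ (m % 3) := zpow_eq_zpow_emod' m a3
  have : m % 3 = 0 ∨ m % 3 = 1 ∨ m % 3 = 2 := by omega
  rcases this with k | k | k
  · omega
  · rw [e1, k, zpow_one] at e; exact absurd e ha
  · rw [e1, k] at e
    refine absurd ?_ ha
    have := mul_mem e e
    rwa [show a ^ (2 : ℤ) * a ^ (2 : ℤ) = a ^ 3 * a by group, a3, one_mul] at this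

theorem s_unip : ∀ X : S2, X.ap (1, 0) = (1, 0) → X ^ 3 = 1 := by decide +kernel

theorem s_fix : ∀ X : S2, X ≠ 1 → X.ap (1, 0) = (1, 0) → ∀ v, X.ap v = v → v.2 = 0 := by
  decide +kernel

theorem p_two : ∀ (σ : Equiv.Perm (Fin 3)) (i j : Fin 3), i ≠ j → σ i = i → σ j = j →
    ∀ k, σ k = k := by decide +kernel

end Bas2

open Bas2

theorem B2.basis (h : B2 z Q Qs r R) (i : Fin 3) {u : G} (hu : u ∈ Qs i) (hn : u ∉ zpowers z) :
    ∃ a b, Fm z (Qs i) (r i) a b ∧ a * u⁻¹ ∈ zpowers z := by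
  have f := h.toE1
  obtain ⟨a, ha, ρa, au⟩ := inv_rep h i hu
  have aQ := h.le i ha
  obtain ⟨w, hw, e⟩ : ∃ w ∈ Qs i, bt z w a = 1 := by
    by_contra k
    push Not at k
    suffices t : a ∈ zpowers z from hn (by simpa using mul_mem (inv_mem au) t)
    refine memZ h ha fun w hw => ?_
    have h1 := k w hw
    have h2 := k _ (inv_mem hw)
    rw [Fa.bt_inv_left f (h.le i hw) aQ] at h2
    revert h1 h2
    generalize bt z w a = t
    revert t; decide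
  obtain ⟨b, hb, ρb, bw⟩ := inv_rep h i hw
  have bQ := h.le i hb
  have e1 : bt z b a = 1 := by rw [Fa.bt_congr_left f aQ (h.le i hw) bw, e]
  refine ⟨a, b, ⟨ha, hb, ρa, ρb, Fa.conj_eq_of_bt f aQ bQ e1, fun q hq => ?_⟩, au⟩
  let φ : ZMod 3 × ZMod 3 × ZMod 3 → Qs i := fun v =>
    ⟨zp z v.1 * zp a v.2.1 * zp b v.2.2,
      mul_mem (mul_mem (zp_mem (h.zs i) _) (zp_mem ha _)) (zp_mem hb _)⟩
  have inj : Function.Injective φ := by
    rintro ⟨k, l, m⟩ ⟨k', l', m'⟩ e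
    have e2 : zp z k * zp a l * zp b m = zp z k' * zp a l' * zp b m' := congrArg Subtype.val e
    have e3 := congrArg (vec z a b) e2
    simp only [zp] at e3
    rw [vec_nf f aQ bQ e1 (pow_mem (mem_zpowers z) _), vec_nf f aQ bQ e1 (pow_mem (mem_zpowers z) _)]
      at e3
    simp only [ZMod.natCast_zmod_val, Prod.mk.injEq] at e3
    obtain ⟨rfl, rfl⟩ := e3
    rw [zp_inj h.z3 (mul_right_cancel (mul_right_cancel e2))]
  have bij := (Nat.bijective_iff_injective_and_card φ).2 ⟨inj, by rw [h.cards]; simp⟩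
  obtain ⟨v, hv⟩ := bij.2 ⟨q, hq⟩
  exact ⟨_, _, _, (congrArg Subtype.val hv).symm⟩

theorem B2.exists_fm (h : B2 z Q Qs r R) : ∃ a b : Fin 3 → G, ∀ i, Fm z (Qs i) (r i) (a i) (b i) := by
  have k : ∀ i, ∃ a b, Fm z (Qs i) (r i) a b := fun i => by
    obtain ⟨u, hu, hn⟩ : ∃ u ∈ Qs i, u ∉ zpowers z := by
      by_contra k
      push Not at k
      have := card_le_of_le (show Qs i ≤ zpowers z from k)
      rw [h.cards, Nat.card_zpowers, h.z3] at this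
      omega
    obtain ⟨a, b, f, -⟩ := h.basis i hu hn
    exact ⟨a, b, f⟩
  choose a b f using k
  exact ⟨a, b, f⟩

theorem B2.aZ (h : B2 z Q Qs r R) {i : Fin 3} {a b : G} (f : Fm z (Qs i) (r i) a b) :
    a ∉ zpowers z := fun e => by
  have := ba h f
  rw [Fa.bt_Z_right h.toE1 (h.le i f.bW) e] at this
  exact absurd this (by decide)

theorem B2.hp (h : B2 z Q Qs r R) {i : Fin 3} {a b : G} (f : Fm z (Qs i) (r i) a b) :
    Fa.HP z Q (Qs i) a b := by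
  have k := h.toE1
  have aQ := h.le i f.aW
  have bQ := h.le i f.bW
  refine ⟨k, h.le i, f.aW, f.bW, ba h f, fun u hu w hw => ?_⟩
  obtain ⟨l, m, n, rfl⟩ := f.nf w hw
  have hc := pow_mem (mem_zpowers z) l
  have e := vec_nf k aQ bQ (ba h f) hc m n
  have e1 : bt z b (z ^ l * a ^ m * b ^ n) = m := congrArg Prod.fst e
  have e2 : bt z (z ^ l * a ^ m * b ^ n) a = n := congrArg Prod.snd e
  have uQ := h.le i hu
  rw [e1, e2, Fa.bt_mul_right k uQ (mul_mem (Fa.ZQ k hc) (pow_mem aQ m)) (pow_mem bQ n),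
    Fa.bt_mul_right k uQ (Fa.ZQ k hc) (pow_mem aQ m), Fa.bt_Z_right k uQ hc, Fa.bt_pow_right k uQ aQ,
    Fa.bt_pow_right k uQ bQ, zero_add]

theorem B2.div (h : B2 z Q Qs r R) {i : Fin 3} {a b : G} (f : Fm z (Qs i) (r i) a b) :
    ∀ w ∈ Qs i, ∀ w' ∈ Qs i, vec z a b w = vec z a b w' → w * w'⁻¹ ∈ zpowers z := fun w hw w' hw' e =>
  memZ h (mul_mem hw (inv_mem hw')) fun u hu => by
    rw [Fa.bt_mul_right h.toE1 (h.le i hu) (h.le i hw) (inv_mem (h.le i hw')),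
      Fa.bt_inv_right h.toE1 (h.le i hu) (h.le i hw'), (h.hp f).form hu hw, (h.hp f).form hu hw', e,
      add_neg_cancel]

theorem B2.tv_iff (h : B2 z Q Qs r R) {i : Fin 3} {a b : G} (f : Fm z (Qs i) (r i) a b) {g : G}
    (hg : g ∈ 𝒞[z] ⊓ 𝒩(Qs i)) : Tv z (Qs i) g ↔ mat z a b g = 1 :=
  ⟨fun t => (h.hp f).mat_one (t a f.aW) (t b f.bW), fun e q hq =>
    h.div f _ (conj_mem_of_norm le_rfl hg.2 hq) q hq (by rw [(h.hp f).vec_conj hg hq, e, S2.ap_one])⟩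

theorem B2.neg_iff (h : B2 z Q Qs r R) {i : Fin 3} {a b : G} (f : Fm z (Qs i) (r i) a b) {g : G}
    (hg : g ∈ 𝒞[z] ⊓ 𝒩(Qs i)) :
    (∀ q ∈ Qs i, g * q * g⁻¹ * q ∈ zpowers z) ↔ mat z a b g = S2.nI :=
  ⟨fun t => (h.hp f).mat_neg (t a f.aW) (t b f.bW), fun e q hq => by
    simpa using h.div f _ (conj_mem_of_norm le_rfl hg.2 hq) _ (inv_mem hq) (by
      rw [(h.hp f).vec_conj hg hq, e, S2.ap_nI,
        Fa.vec_inv h.toE1 (h.le i f.aW) (h.le i f.bW) (h.le i hq)])⟩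

theorem B2.R4 (h : B2 z Q Qs r R) {ρ : G} (hρ : ρ ∈ R) : ρ ^ 4 = 1 := by
  obtain ⟨a, b, f⟩ := h.exists_fm
  obtain ⟨k, hk⟩ := h.R2 ⟨ρ, hρ⟩
  have e : ρ ^ 2 ^ k = 1 := congrArg Subtype.val hk
  have hq : ρ ^ 4 ∈ Q := h.ker (pow_mem (h.Rc hρ) 4) fun i => by
    have hg : ρ ∈ 𝒞[z] ⊓ 𝒩(Qs i) := ⟨h.Rc hρ, h.RN i hρ⟩
    have p := (h.hp (f i)).ph
    rw [h.tv_iff (f i) (pow_mem hg 4), p.pow hg]
    have e1 := p.pow hg (2 ^ k)
    rw [e, p.one] at e1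
    exact (pow_eq_one_iff_of_coprime (m := 3) (n := 2 ^ k) (Nat.Coprime.pow_right k (by decide))).1
      ⟨by rw [← pow_mul]; exact S2.pow12 _, by rw [← pow_mul, mul_comm, pow_mul, ← e1, one_pow]⟩
  exact mem_bot.1 (h.QR ▸ (⟨hq, pow_mem hρ 4⟩ : ρ ^ 4 ∈ Q ⊓ R))

/-- `C(z)` permutes the factors -/
theorem B2.perm (h : B2 z Q Qs r R) {g : G} (hg : g ∈ 𝒞[z]) :
    ∃ σ : Equiv.Perm (Fin 3), ∀ i, cj g (Qs i) = Qs (σ i) := by
  obtain ⟨a, b, f⟩ := h.exists_fm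
  have k : ∀ i, ∃ j, cj g (Qs i) = Qs j := fun i => by
    have ht : g * r i * g⁻¹ ∈ Q ⊔ R := conj_mem_of_norm h.nR hg (mem_sup_right (h.rR i))
    have tz : g * r i * g⁻¹ ∈ 𝒞[z] := mul_mem (mul_mem hg (h.rz i)) (inv_mem hg)
    have tN : ∀ j, g * r i * g⁻¹ ∈ 𝒞[z] ⊓ 𝒩(Qs j) := fun j => ⟨tz, sup_le (h.QN j) (h.RN j) ht⟩
    have tt : g * r i * g⁻¹ * (g * r i * g⁻¹) = 1 := by
      rw [show g * r i * g⁻¹ * (g * r i * g⁻¹) = g * (r i * r i) * g⁻¹ by group, h.rr]; group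
    obtain ⟨j, hj⟩ : ∃ j, mat z (a j) (b j) (g * r i * g⁻¹) = S2.nI := by
      by_contra n
      push Not at n
      have := h.ker tz fun j => (h.tv_iff (f j) (tN j)).2 ((S2.sq1 _ (by
        rw [← (h.hp (f j)).ph.mul _ (tN j) _ (tN j), tt, (h.hp (f j)).ph.one])).resolve_right (n j))
      exact h.rQ i (by simpa [mul_assoc] using Fa.conjQ h.toE1 (inv_mem hg) this)
    refine ⟨j, (eq_of_le_of_card_ge (fun q hq => mem_cj.2 (mem_of_inv h ?_ ?_))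
      (by rw [card_cj, h.cards, h.cards])).symm⟩
    · simpa using Fa.conjQ h.toE1 (inv_mem hg) (h.le j hq)
    · have e := (h.neg_iff (f j) (tN j)).2 hj q hq
      rw [← Z_conj (inv_mem hg) e] at e
      convert e using 1
      group
  choose σ hσ using k
  have inj : Function.Injective σ := fun i j e =>
    Qs_inj h (cj_injective g (by rw [hσ, hσ, e]))
  exact ⟨Equiv.ofBijective σ (Finite.injective_iff_bijective.1 inj), hσ⟩

/-- the permutation action as a homomorphism -/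
theorem B2.permHom (h : B2 z Q Qs r R) : ∃ σ : 𝒞[z] →* Equiv.Perm (Fin 3),
    (∀ (g : 𝒞[z]) i, cj (g : G) (Qs i) = Qs (σ g i)) ∧ ∀ (g : 𝒞[z]) i, (g : G) ∈ 𝒩(Qs i) ↔ σ g i = i := by
  choose σ hσ using fun g : 𝒞[z] => h.perm g.2
  refine ⟨MonoidHom.mk' σ fun g k => Equiv.ext fun i => Qs_inj h ?_, hσ, fun g i => ?_⟩
  · rw [← hσ, Equiv.Perm.mul_apply, ← hσ, ← hσ, ← cj_mul]; rfl
  · rw [mem_norm_iff_cj, hσ]
    exact ⟨Qs_inj h, fun e => congrArg Qs e⟩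

/-- an element of `C(z)` mapping a non-central element of `Qᵢ` into `Qᵢ` normalises `Qᵢ` -/
theorem B2.norm_of (h : B2 z Q Qs r R) {g u : G} (hg : g ∈ 𝒞[z]) {i : Fin 3} (hu : u ∈ Qs i)
    (hn : u ∉ zpowers z) (e : g * u * g⁻¹ ∈ Qs i) : g ∈ 𝒩(Qs i) := by
  obtain ⟨σ, hσ⟩ := h.perm hg
  by_cases n : σ i = i
  · rw [mem_norm_iff_cj, hσ, n]
  · have := h.inter n ⟨hσ i ▸ conj_mem_cj.2 hu, e⟩
    rw [← Z_conj (inv_mem hg) this] at this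
    exact absurd (by simpa [mul_assoc] using this) hn

theorem B2.ba_of_two (h : B2 z Q Qs r R) {g : G} (hg : g ∈ 𝒞[z]) {i j : Fin 3} (n : i ≠ j)
    (h1 : g ∈ 𝒩(Qs i)) (h2 : g ∈ 𝒩(Qs j)) : Ba Qs g := by
  obtain ⟨σ, -, hσ⟩ := h.permHom
  exact fun k => (hσ ⟨g, hg⟩ k).2 (p_two _ i j n ((hσ ⟨g, hg⟩ i).1 h1) ((hσ ⟨g, hg⟩ j).1 h2) k)

/-- a frame adapted to an element of order three -/
theorem B2.fixl (h : B2 z Q Qs r R) {g : G} {i : Fin 3} (hg : g ∈ 𝒞[z] ⊓ 𝒩(Qs i)) (h3 : g ^ 3 ∈ Q) :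
    ∃ a b, Fm z (Qs i) (r i) a b ∧ g * a * g⁻¹ * a⁻¹ ∈ zpowers z := by
  obtain ⟨a0, b0, f0⟩ := h.exists_fm
  have f := f0 i
  have p := h.hp f
  obtain ⟨u, v, hu, huv⟩ := S2.fixv (mat z (a0 i) (b0 i) g) (by rw [← p.ph.pow hg, p.mat_Q h3])
  have hw : zp (a0 i) u.1 * zp (b0 i) u.2 ∈ Qs i := mul_mem (zp_mem f.aW _) (zp_mem f.bW _)
  have hv : vec z (a0 i) (b0 i) _ = u := p.vec_zp u.1 u.2
  obtain ⟨a, b, k, e⟩ := h.basis i hw (fun e => by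
    rw [vec, Fa.bt_Z_right h.toE1 p.bQ e, Fa.bt_Z_left h.toE1 p.aQ e] at hv
    rw [← hv] at huv
    simp at huv)
  have e1 := Fa.vec_congr h.toE1 p.aQ p.bQ (h.le i hw) e
  exact ⟨a, b, k, h.div f _ (conj_mem_of_norm le_rfl hg.2 k.aW) _ k.aW
    (by rw [p.vec_conj hg k.aW, e1, hv, hu])⟩

/-- a 3-element normalising the factors -/
theorem B2.cube (h : B2 z Q Qs r R) {g : G} (hg : g ∈ 𝒞[z]) (bg : Ba Qs g) {k : ℕ}
    (h3 : g ^ 3 ^ k ∈ Q) : g ^ 3 ∈ Q := by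
  obtain ⟨a, b, f⟩ := h.exists_fm
  refine h.ker (pow_mem hg 3) fun i => ?_
  have hg' : g ∈ 𝒞[z] ⊓ 𝒩(Qs i) := ⟨hg, bg i⟩
  have p := h.hp (f i)
  rw [h.tv_iff (f i) (pow_mem hg' 3), p.ph.pow hg']
  have e1 := p.mat_Q h3
  rw [p.ph.pow hg'] at e1
  refine (pow_eq_one_iff_of_coprime (m := 4) (n := 3 ^ k) (Nat.Coprime.pow_right k (by decide))).1
    ⟨by rw [← pow_mul]; exact S2.pow12 _, by rw [← pow_mul, mul_comm, pow_mul, e1, one_pow]⟩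

section
variable {a b : Fin 3 → G}

theorem Bas2.nf' (h : B2 z Q Qs r R) (f : ∀ i, Fm z (Qs i) (r i) (a i) (b i)) {q : G} (hq : q ∈ Q) :
    ∃ (k : ℕ) (m n : Fin 3 → ℕ), q = z ^ k * (a 0 ^ m 0 * a 1 ^ m 1 * a 2 ^ m 2) *
      (b 0 ^ n 0 * b 1 ^ n 1 * b 2 ^ n 2) ∧ ∀ i, vec z (a i) (b i) q = ((m i : ZMod 3), (n i : ZMod 3)) := by
  obtain ⟨u, hu, rfl⟩ := h.dec hq
  choose k m n e using fun i => (f i).nf (u i) (hu i)
  refine ⟨k 0 + k 1 + k 2, m, n, ?_, fun i => ?_⟩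
  · have cz : ∀ {i} {w : G}, w ∈ Qs i → ∀ s t : ℕ, Commute (w ^ s) (z ^ t) := fun hw s t =>
      Commute.pow_pow (mem_cent1.1 (h.Qc (h.le _ hw))) s t
    have cc : ∀ {i j}, i ≠ j → ∀ s t : ℕ, Commute (b i ^ s) (a j ^ t) := fun n s t =>
      Commute.pow_pow (h.QQ _ _ n (f _).bW _ (f _).aW).symm s t
    rw [e 0, e 1, e 2, pow_add, pow_add]
    exact rearr (cz (f 0).aW _ _) (cz (f 0).bW _ _) (cz (f 0).aW _ _) (cz (f 0).bW _ _)
      (cz (f 1).aW _ _) (cz (f 1).bW _ _) (cc (by decide) _ _) (cc (by decide) _ _) (cc (by decide) _ _)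
  · rw [vec_dec h hu (f i).aW (f i).bW, e i]
    exact vec_nf h.toE1 (h.le i (f i).aW) (h.le i (f i).bW) (ba h (f i)) (pow_mem (mem_zpowers z) _) _ _

theorem Bas2.mem_all (h : B2 z Q Qs r R) (f : ∀ i, Fm z (Qs i) (r i) (a i) (b i)) {q : G} (hq : q ∈ Q)
    (e : ∀ i, bt z q (a i) = 0) : q ∈ Q ⊓ 𝒞[a 0] ⊓ 𝒞[a 1] ⊓ 𝒞[a 2] :=
  have k : ∀ i, q ∈ 𝒞[a i] := fun i =>
    mem_cent1.2 ((Fa.bt_zero h.toE1 hq (h.le i (f i).aW)).1 (e i))
  ⟨⟨⟨hq, k 0⟩, k 1⟩, k 2⟩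

theorem Bas2.vec_conjQ (h : B2 z Q Qs r R) {i : Fin 3} {a b : G} (f : Fm z (Qs i) (r i) a b) {g q : G}
    (hg : g ∈ 𝒞[z]) (bg : Ba Qs g) (hq : q ∈ Q) :
    vec z a b (g * q * g⁻¹) = (mat z a b g).ap (vec z a b q) := by
  obtain ⟨u, hu, rfl⟩ := h.dec hq
  rw [vec_dec h hu f.aW f.bW, ← (h.hp f).vec_conj ⟨hg, bg i⟩ (hu i),
    ← vec_dec h (u := fun j => g * u j * g⁻¹) (fun j => conj_mem_of_norm le_rfl (bg j) (hu j)) f.aW f.bW]
  congr 1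
  group

theorem B2.nf (h : B2 z Q Qs r R) (f : ∀ i, Fm z (Qs i) (r i) (a i) (b i)) {q : G} (hq : q ∈ Q) :
    ∃ (k : ℕ) (m n : Fin 3 → ℕ), q = z ^ k * (a 0 ^ m 0 * a 1 ^ m 1 * a 2 ^ m 2) *
      (b 0 ^ n 0 * b 1 ^ n 1 * b 2 ^ n 2) := by
  obtain ⟨k, m, n, e, -⟩ := nf' h f hq
  exact ⟨k, m, n, e⟩

theorem B2.mem_A (h : B2 z Q Qs r R) (f : ∀ i, Fm z (Qs i) (r i) (a i) (b i)) {q : G} :
    q ∈ Q ⊓ 𝒞[a 0] ⊓ 𝒞[a 1] ⊓ 𝒞[a 2] ↔
      ∃ k l m n : ℕ, q = z ^ k * a 0 ^ l * a 1 ^ m * a 2 ^ n := by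
  constructor
  · rintro ⟨⟨⟨hq, h0⟩, h1⟩, h2⟩
    obtain ⟨k, m, n, e, v⟩ := nf' h f hq
    have o : ∀ i, q ∈ 𝒞[a i] → b i ^ n i = 1 := fun i c => by
      have e1 : bt z q (a i) = n i := congrArg Prod.snd (v i)
      rw [(Fa.bt_zero h.toE1 hq (h.le i (f i).aW)).2 (mem_cent1.1 c)] at e1
      rw [← zp_natCast (h.exp _ (h.le i (f i).bW)), ← e1, zp_zero]
    exact ⟨k, m 0, m 1, m 2, by rw [e, o 0 h0, o 1 h1, o 2 h2]; group⟩
  · rintro ⟨k, l, m, n, rfl⟩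
    have aA : ∀ j, a j ∈ Q ⊓ 𝒞[a 0] ⊓ 𝒞[a 1] ⊓ 𝒞[a 2] := fun j =>
      mem_all h f (h.le j (f j).aW) fun i => by
        by_cases n : j = i
        · rw [n]; exact Fa.bt_self h.toE1 (h.le i (f i).aW)
        · exact orth h n (f j).aW (f i).aW
    exact mul_mem (mul_mem (mul_mem (pow_mem (mem_all h f h.zQ fun i =>
      Fa.bt_Z_left h.toE1 (h.le i (f i).aW) (mem_zpowers z)) k) (pow_mem (aA 0) l)) (pow_mem (aA 1) m))
      (pow_mem (aA 2) n)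

theorem B2.card_A (h : B2 z Q Qs r R) (f : ∀ i, Fm z (Qs i) (r i) (a i) (b i)) :
    Nat.card ↥(Q ⊓ 𝒞[a 0] ⊓ 𝒞[a 1] ⊓ 𝒞[a 2]) = 81 := by
  let φ : ZMod 3 × ZMod 3 × ZMod 3 × ZMod 3 → ↥(Q ⊓ 𝒞[a 0] ⊓ 𝒞[a 1] ⊓ 𝒞[a 2]) := fun v =>
    ⟨zp z v.1 * zp (a 0) v.2.1 * zp (a 1) v.2.2.1 * zp (a 2) v.2.2.2, (h.mem_A f).2 ⟨_, _, _, _, rfl⟩⟩
  have key : ∀ k l m n : ZMod 3, ∀ i, bt z (b i) (zp z k * zp (a 0) l * zp (a 1) m * zp (a 2) n) =
      ![l, m, n] i := fun k l m n i => by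
    have aQ := fun j => h.le j (f j).aW
    have bQ := h.le i (f i).bW
    have e := bt_dec' h (u := fun j => zp (a j) (![l, m, n] j)) (fun j => zp_mem (f j).aW _) (f i).bW
    rw [Fa.bt_zp_right h.toE1 bQ (aQ i), ba h (f i), mul_one] at e
    rw [← e]
    refine Fa.bt_congr_right h.toE1 bQ
      (mul_mem (mul_mem (zp_mem (aQ 0) _) (zp_mem (aQ 1) _)) (zp_mem (aQ 2) _)) ?_
    convert zp_mem (mem_zpowers z) k using 1
    simp [mul_assoc]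
  have bij : Function.Bijective φ := by
    constructor
    · rintro ⟨k, l, m, n⟩ ⟨k', l', m', n'⟩ e
      have e1 : zp z k * zp (a 0) l * zp (a 1) m * zp (a 2) n =
          zp z k' * zp (a 0) l' * zp (a 1) m' * zp (a 2) n' := congrArg Subtype.val e
      have e2 : ∀ i, ![l, m, n] i = ![l', m', n'] i := fun i => by rw [← key k, e1, key]
      obtain rfl : l = l' := e2 0
      obtain rfl : m = m' := e2 1
      obtain rfl : n = n' := e2 2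
      rw [zp_inj h.z3 (mul_right_cancel (mul_right_cancel (mul_right_cancel e1)))]
    · rintro ⟨q, hq⟩
      obtain ⟨k, l, m, n, rfl⟩ := (h.mem_A f).1 hq
      have a3 := fun j => h.exp _ (h.le j (f j).aW)
      exact ⟨(k, l, m, n), Subtype.ext (by
        simp only [φ, zp_natCast (Fa.z3' h.toE1), zp_natCast (a3 _)])⟩
  rw [← Nat.card_eq_of_bijective φ bij]
  simp

theorem B2.inj_A (h : B2 z Q Qs r R) (f : ∀ i, Fm z (Qs i) (r i) (a i) (b i)) {k l m n : ℤ}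
    (e : z ^ k * a 0 ^ l * a 1 ^ m * a 2 ^ n = 1) : 3 ∣ k ∧ 3 ∣ l ∧ 3 ∣ m ∧ 3 ∣ n := by
  have a3 := fun j => h.exp _ (h.le j (f j).aW)
  have u := h.uniq (u := fun j => a j ^ (![l, m, n] j)) (fun j => zpow_mem (f j).aW _) (by
    have : a 0 ^ l * a 1 ^ m * a 2 ^ n = (z ^ k)⁻¹ := by
      rw [eq_inv_iff_mul_eq_one, ← Z_comm (g := a 0 ^ l * a 1 ^ m * a 2 ^ n) (h.Qc (mul_mem (mul_mem
        (zpow_mem (h.le _ (f 0).aW) _) (zpow_mem (h.le _ (f 1).aW) _)) (zpow_mem (h.le _ (f 2).aW) _)))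
        (zpow_mem (mem_zpowers z) k), ← e]
      group
    exact this ▸ inv_mem (zpow_mem (mem_zpowers z) k))
  have d := fun j => dvd_of_zpow (a3 j) (h.aZ (f j)) (u j)
  have o : ∀ j (s : ℤ), 3 ∣ s → a j ^ s = 1 := fun j s ⟨t, ht⟩ => by
    rw [ht, zpow_mul, show a j ^ (3 : ℤ) = a j ^ 3 from zpow_natCast _ 3, a3, one_zpow]
  rw [o 0 l (d 0), o 1 m (d 1), o 2 n (d 2), mul_one, mul_one, mul_one, ← orderOf_dvd_iff_zpow_eq_one,
    h.z3] at e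
  exact ⟨e, d 0, d 1, d 2⟩

/-- an element fixing the `aᵢ` modulo `Z`: commutators with `Q` and its centraliser in `Q` -/
theorem B2.comm_A (h : B2 z Q Qs r R) (f : ∀ i, Fm z (Qs i) (r i) (a i) (b i)) {g : G} (hg : g ∈ 𝒞[z])
    (ha : ∀ i, g * a i * g⁻¹ * (a i)⁻¹ ∈ zpowers z) :
    Ba Qs g ∧ g ^ 3 ∈ Q ∧ (∀ q ∈ Q, q * g * q⁻¹ * g⁻¹ ∈ Q ⊓ 𝒞[a 0] ⊓ 𝒞[a 1] ⊓ 𝒞[a 2]) ∧
      ∀ q ∈ Q, g * q * g⁻¹ * q⁻¹ ∈ zpowers z → ∀ i, ¬ Tv z (Qs i) g → q ∈ 𝒞[a i] := by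
  have aQ := fun j => h.le j (f j).aW
  have bg : Ba Qs g := fun i => h.norm_of hg (f i).aW (h.aZ (f i))
    (by simpa using mul_mem (ZQs h i (ha i)) (f i).aW)
  have e0 : ∀ i, (mat z (a i) (b i) g).ap (1, 0) = (1, 0) := fun i => by
    have p := h.hp (f i)
    rw [← p.vec_a, ← p.vec_conj ⟨hg, bg i⟩ (f i).aW, Fa.vec_congr h.toE1 p.aQ p.bQ p.aQ (ha i)]
  refine ⟨bg, h.ker (pow_mem hg 3) fun i => ?_, fun q hq => ?_, fun q hq e i n => ?_⟩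
  · have hg' : g ∈ 𝒞[z] ⊓ 𝒩(Qs i) := ⟨hg, bg i⟩
    rw [h.tv_iff (f i) (pow_mem hg' 3), (h.hp (f i)).ph.pow hg']
    exact s_unip _ (e0 i)
  · have := inv_mem (mem_all h f (mul_mem (Fa.conjQ h.toE1 hg hq) (inv_mem hq)) fun i =>
      Fa.bt_dis h.toE1 hg hq (aQ i) ((Fa.sc_one h.toE1 hg (aQ i)).2 (ha i)))
    rwa [show (g * q * g⁻¹ * q⁻¹)⁻¹ = q * g * q⁻¹ * g⁻¹ by group] at this
  · refine mem_cent1.2 ((Fa.bt_zero h.toE1 hq (aQ i)).1 (s_fix _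
      (fun e1 => n ((h.tv_iff (f i) ⟨hg, bg i⟩).2 e1)) (e0 i) (vec z (a i) (b i) q) ?_))
    rw [← vec_conjQ h (f i) hg bg hq, Fa.vec_congr h.toE1 (aQ i) (h.le i (f i).bW) hq e]

end

theorem Bas2.sq_le (h : E1 z Q) {X : Subgroup G} (hX : X ≤ Q) (ab : X ≤ 𝒞(X)) :
    Nat.card X * Nat.card X ≤ 3 * Nat.card Q := by
  classical
  have := Fintype.ofFinite G
  have cd : ∀ Y : Subgroup G, Nat.card Y = (Finset.univ.filter (· ∈ Y)).card := fun Y => by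
    rw [Nat.card_eq_fintype_card, Fintype.card_subtype]
  have sm : ∀ (Y W : Subgroup G) (s t : ℕ), ∑ y ∈ Finset.univ.filter (· ∈ Y), (s + if y ∈ W then t else 0) =
      Nat.card Y * s + Nat.card ↥(Y ⊓ W) * t := fun Y W s t => by
    rw [Finset.sum_add_distrib, Finset.sum_const, ← Finset.sum_filter, Finset.sum_const,
      Finset.filter_filter, cd, cd]
    simp only [smul_eq_mul, mem_inf]
  have cn : ∀ (Y : Subgroup G) (x : G), ∑ y ∈ Finset.univ.filter (· ∈ Y), (if y * x = x * y then 1 else 0) =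
      Nat.card ↥(Y ⊓ 𝒞[x]) := fun Y x => by
    rw [← Finset.card_filter, Finset.filter_filter, cd]
    simp only [mem_inf, mem_cent1]
  have e : ∑ q ∈ Finset.univ.filter (· ∈ Q), Nat.card ↥(X ⊓ 𝒞[q]) =
      ∑ x ∈ Finset.univ.filter (· ∈ X), Nat.card ↥(Q ⊓ 𝒞[x]) := by
    simp only [← cn]
    rw [Finset.sum_comm]
    simp only [eq_comm]
  have h1 : Nat.card Q * Nat.card X + Nat.card ↥(Q ⊓ X) * (2 * Nat.card X) ≤
      3 * ∑ q ∈ Finset.univ.filter (· ∈ Q), Nat.card ↥(X ⊓ 𝒞[q]) := by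
    rw [← sm, Finset.mul_sum]
    refine Finset.sum_le_sum fun q hq => ?_
    split_ifs with k
    · rw [inf_eq_left.2 (ab.trans (cent_le_cent1 k))]; omega
    · simpa using h.card_le_cent hX (by simpa using hq)
  have h2 : 3 * ∑ x ∈ Finset.univ.filter (· ∈ X), Nat.card ↥(Q ⊓ 𝒞[x]) ≤
      Nat.card X * Nat.card Q + Nat.card ↥(X ⊓ zpowers z) * (2 * Nat.card Q) := by
    rw [← sm, Finset.mul_sum]
    refine Finset.sum_le_sum fun x hx => ?_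
    have hx' : x ∈ Q := hX (by simpa using hx)
    have l := card_le_of_le (inf_le_left : Q ⊓ 𝒞[x] ≤ Q)
    split_ifs with k
    · omega
    · have lt : Nat.card ↥(Q ⊓ 𝒞[x]) < Nat.card Q := card_lt_of_lt (lt_of_le_of_ne inf_le_left
        fun e => k (h.cen x hx' fun w hw => (mem_cent1.1 (inf_eq_left.1 e hw)).symm))
      have : Fact (Nat.Prime 3) := ⟨Nat.prime_three⟩
      obtain ⟨s, hs⟩ := (h.isP.to_le (inf_le_left : Q ⊓ 𝒞[x] ≤ Q)).exists_card_eq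
      obtain ⟨t, ht⟩ := h.isP.exists_card_eq
      rw [hs, ht] at lt ⊢
      rw [add_zero, ← pow_succ']
      exact Nat.pow_le_pow_right (by decide) ((Nat.pow_lt_pow_iff_right (by decide)).1 lt)
  have h3 := card_le_of_le (inf_le_right : X ⊓ zpowers z ≤ zpowers z)
  rw [Nat.card_zpowers, h.z3] at h3
  rw [inf_eq_right.2 hX, e] at h1
  have h4 := Nat.mul_le_mul_right (2 * Nat.card Q) h3
  nlinarith

theorem B2.ab_le (h : B2 z Q Qs r R) {X : Subgroup G} (hX : X ≤ Q) (ab : X ≤ 𝒞(X)) :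
    Nat.card X ≤ 81 := by
  have := sq_le h.toE1 hX ab
  rw [h.card] at this
  by_contra k
  nlinarith

end Cfsg.Agent.F3
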