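import Cfsg.Agent.F3.W1

set_option autoImplicit false

namespace Cfsg.Agent.F3

open Subgroup H49 T3.Fr2 MC3

namespace W2

theorem s_ab : ∀ A B : S2, A ^ 3 = 1 → B ^ 3 = 1 → (A * B) ^ 3 = 1 → (A * B⁻¹) ^ 3 = 1 →
    A * B * A⁻¹ * B⁻¹ = 1 := by decide +kernel

theorem third : ∀ i j : Fin 3, ∃ l, l ≠ i ∧ l ≠ j := by decide

theorem comm9 {H : Type*} [Group H] [Finite H] (hp : IsPGroup 3 H) (h : Nat.card H ≤ 9) (a b : H) :
    a * b = b * a := by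
  have : Fact (Nat.Prime 3) := ⟨Nat.prime_three⟩
  obtain ⟨k, hk⟩ := IsPGroup.iff_card.1 hp
  have h2 : k ≤ 2 := by
    by_contra hc
    have := Nat.pow_le_pow_right (show 0 < 3 by norm_num) (show 3 ≤ k by omega)
    omega
  rcases Nat.lt_or_ge k 2 with h1 | h1
  · have : IsCyclic H := isCyclic_of_card_dvd_prime (p := 3)
      (by rw [hk]; exact (pow_dvd_pow 3 (show k ≤ 1 by omega)).trans (by norm_num))
    exact IsCyclic.isMulCommutative.is_comm.comm a b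
  · obtain rfl : k = 2 := by omega
    exact (IsPGroup.isMulCommutative_of_card_eq_prime_sq hk).is_comm.comm a b

variable {G : Type*} [Group G] [Finite G]

omit [Finite G] in
theorem ex_ker {K : Type*} [Group K] [Finite K] {T : Subgroup G} {π : G → K} (p : PH T π)
    (hT : IsPGroup 3 T) (hK : ¬ 9 ∣ Nat.card K) :
    ∃ T0 ≤ T, Nat.card T ≤ 3 * Nat.card T0 ∧ ∀ g ∈ T0, π g = 1 := by
  have hle : kerS p ≤ T := fun _ hx => ((mem_kerS p).1 hx).1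
  refine ⟨kerS p, hle, ?_, fun g hg => ((mem_kerS p).1 hg).2⟩
  have h1 := p.card (J := kerS p) (fun l hl => by rw [mem_kerS]; exact (and_iff_right hl).symm)
  obtain ⟨k, hk⟩ := card_pow_of_isP (P := p.im)
    (hT.of_surjective p.hom.rangeRestrict p.hom.rangeRestrict_surjective)
  have h2 : k ≤ 1 := by
    by_contra hc
    exact hK (((pow_dvd_pow 3 (show 2 ≤ k by omega)).trans (hk ▸ card_subgroup_dvd_card p.im)))
  have := Nat.pow_le_pow_right (show 0 < 3 by norm_num) h2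
  rw [h1, inf_eq_left.2 hle, hk, mul_comm]
  exact Nat.mul_le_mul_right _ this

omit [Finite G] in
theorem pow_Q {T Q : Subgroup G} (hT : IsPGroup 3 T) {g : G} (hg : g ∈ T) : ∃ k, g ^ 3 ^ k ∈ Q :=
  (exists_pow_of_isP hT hg).imp fun _ e => by rw [e]; exact one_mem Q

variable {z : G} {Q R : Subgroup G} {Qs : Fin 3 → Subgroup G} {r a b : Fin 3 → G}

theorem all_ba (h : B2 z Q Qs r R) {T : Subgroup G} (hT : IsPGroup 3 T) (hc : T ≤ 𝒞[z]) :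
    (∃ s ∈ T, Tr Qs s) ∨ ∀ g ∈ T, Ba Qs g := by
  by_cases e : ∃ s ∈ T, Tr Qs s
  · exact Or.inl e
  · refine Or.inr fun g hg => ?_
    obtain ⟨k, hk⟩ := pow_Q (Q := Q) hT hg
    exact (h.three (hc hg) hk).resolve_right fun t => e ⟨g, hg, t⟩

theorem V0 (h : B2 z Q Qs r R) (f : ∀ i, Fm z (Qs i) (r i) (a i) (b i)) {i j : Fin 3} (n : i ≠ j)
    {w : G} (hw : w ∈ Qs j) : vec z (a i) (b i) w = 0 :=
  Prod.ext ((Fa.bt_zero h.toE1 (h.le i (f i).bW) (h.le j hw)).2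
      (mem_centralizer_iff.1 (h.QQ i j n (f i).bW) w hw).symm)
    ((Fa.bt_zero h.toE1 (h.le j hw) (h.le i (f i).aW)).2
      (mem_centralizer_iff.1 (h.QQ i j n (f i).aW) w hw))

theorem Vprod (h : B2 z Q Qs r R) (f : ∀ i, Fm z (Qs i) (r i) (a i) (b i)) {u : Fin 3 → G}
    (hu : ∀ i, u i ∈ Qs i) (i : Fin 3) :
    vec z (a i) (b i) (u 0 * u 1 * u 2) = vec z (a i) (b i) (u i) := by
  have ha := h.le i (f i).aW
  have hb := h.le i (f i).bW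
  rw [Fa.vec_mul h.toE1 ha hb (mul_mem (h.le 0 (hu 0)) (h.le 1 (hu 1))) (h.le 2 (hu 2)),
    Fa.vec_mul h.toE1 ha hb (h.le 0 (hu 0)) (h.le 1 (hu 1)),
    ← Fin.sum_univ_three fun j => vec z (a i) (b i) (u j)]
  exact Finset.sum_eq_single i (fun j _ n => V0 h f n.symm (hu j)) (by simp)

theorem Vcl (h : B2 z Q Qs r R) (f : ∀ i, Fm z (Qs i) (r i) (a i) (b i)) {y : G} (hy : y ∈ Q)
    (e : ∀ i, vec z (a i) (b i) y = (1, 0)) {w : G} (hw : w ∈ closure {z, y}) :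
    w ∈ Q ∧ ∃ k : ZMod 3, ∀ i, vec z (a i) (b i) w = (k, 0) := by
  have ha := fun i => h.le i (f i).aW
  have hb := fun i => h.le i (f i).bW
  have hZ : ∀ c ∈ zpowers z, ∀ i, vec z (a i) (b i) c = (0, 0) := fun c hc i =>
    Prod.ext (Fa.bt_Z_right h.toE1 (hb i) hc) (Fa.bt_Z_left h.toE1 (ha i) hc)
  induction hw using closure_induction with
  | mem x hx =>
    rcases hx with rfl | rfl
    · exact ⟨h.zQ, 0, hZ _ (mem_zpowers _)⟩
    · exact ⟨hy, 1, e⟩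
  | one => exact ⟨one_mem _, 0, hZ _ (one_mem _)⟩
  | mul x x' _ _ h1 h2 =>
    obtain ⟨q1, k, h1⟩ := h1
    obtain ⟨q2, l, h2⟩ := h2
    exact ⟨mul_mem q1 q2, k + l, fun i => by
      rw [Fa.vec_mul h.toE1 (ha i) (hb i) q1 q2, h1, h2]; simp⟩
  | inv x _ h1 =>
    obtain ⟨q1, k, h1⟩ := h1
    exact ⟨inv_mem q1, -k, fun i => by rw [Fa.vec_inv h.toE1 (ha i) (hb i) q1, h1]; simp⟩

end W2

open W1 W2

variable {G : Type*} [Group G] [Finite G] {z : G} {Q R : Subgroup G} {Qs : Fin 3 → Subgroup G}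
  {r : Fin 3 → G}

/-- a 3-subgroup of order at least nine contains a nontrivial element of the base group -/
theorem B2.exists_ba (h : B2 z Q Qs r R) {T : Subgroup G} (hT : IsPGroup 3 T) (hc : T ≤ 𝒞[z]) :
    ∃ T0 ≤ T, Nat.card T ≤ 3 * Nat.card T0 ∧ ∀ g ∈ T0, Ba Qs g := by
  obtain ⟨σ, -, hσ⟩ := h.permHom
  obtain ⟨π, p, hπ⟩ := exists_PH σ
  obtain ⟨T0, h1, h2, h3⟩ := ex_ker (p.mono hc) hT
    (by rw [Nat.card_perm, Nat.card_fin]; decide)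
  refine ⟨T0, h1, h2, fun g hg i => (hσ ⟨g, hc (h1 hg)⟩ i).2 ?_⟩
  rw [← hπ, h3 g hg]; rfl

/-- the same for the action on one factor -/
theorem B2.exists_tv (h : B2 z Q Qs r R) {T : Subgroup G} (hT : IsPGroup 3 T) (hc : T ≤ 𝒞[z])
    {i : Fin 3} (hn : T ≤ 𝒩(Qs i)) :
    ∃ T0 ≤ T, Nat.card T ≤ 3 * Nat.card T0 ∧ ∀ g ∈ T0, Tv z (Qs i) g := by
  obtain ⟨a, b, f⟩ := h.exists_fm
  obtain ⟨T0, h1, h2, h3⟩ := ex_ker ((h.hp (f i)).ph.mono (le_inf hc hn)) hT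
    (by rw [S2.card]; decide)
  exact ⟨T0, h1, h2, fun g hg => (h.tv_iff (f i) ⟨hc (h1 hg), hn (h1 hg)⟩).2 (h3 g hg)⟩

theorem B1.idx3 (h : B1 z Q Qs r R) {s : G} (hs : s ∈ 𝒞[z]) (sT : Tr Qs s) {T : Subgroup G}
    (hT : IsPGroup 3 T) (hc : T ≤ 𝒞[z]) (hb : ∀ g ∈ T, Ba Qs g) :
    Nat.card T ≤ 3 * Nat.card ↥(T ⊓ Q) := by
  obtain ⟨T0, h1, h2, h3⟩ := h.toB2.exists_tv hT hc (i := 0) fun g hg => hb g hg 0
  refine h2.trans (Nat.mul_le_mul_left _ (card_le_of_le (le_inf h1 fun g hg => ?_)))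
  obtain ⟨k, hk⟩ := pow_Q (Q := Q) hT (h1 hg)
  exact h.wt hs sT (hc (h1 hg)) (hb g (h1 hg))
    (h.toB2.cube (hc (h1 hg)) (hb g (h1 hg)) hk) (h3 g hg)

theorem B1.idx9 (h : B1 z Q Qs r R) {s : G} (hs : s ∈ 𝒞[z]) (sT : Tr Qs s) {T : Subgroup G}
    (hT : IsPGroup 3 T) (hc : T ≤ 𝒞[z]) : Nat.card T ≤ 9 * Nat.card ↥(T ⊓ Q) := by
  obtain ⟨T0, h1, h2, h3⟩ := h.toB2.exists_ba hT hc
  have h4 := h.idx3 hs sT (hT.to_le h1) (h1.trans hc) h3
  have h5 := card_le_of_le (inf_le_inf_right Q h1)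
  omega

theorem B1.idx27 (h : B1 z Q Qs r R) {T : Subgroup G} (hT : IsPGroup 3 T) (hc : T ≤ 𝒞[z]) :
    Nat.card T ≤ 27 * Nat.card ↥(T ⊓ Q) := by
  have k := h.toB2
  rcases all_ba k hT hc with ⟨s, hs, sT⟩ | hb
  · have := h.idx9 (hc hs) sT hT hc
    omega
  · obtain ⟨T0, a1, a2, a3⟩ := k.exists_tv hT hc (i := 0) fun g hg => hb g hg 0
    obtain ⟨T1, b1, b2, b3⟩ := k.exists_tv (hT.to_le a1) (a1.trans hc) (i := 1)
      fun g hg => hb g (a1 hg) 1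
    obtain ⟨T2, c1, c2, c3⟩ := k.exists_tv (hT.to_le (b1.trans a1)) ((b1.trans a1).trans hc) (i := 2)
      fun g hg => hb g (a1 (b1 hg)) 2
    have : T2 ≤ T ⊓ Q := fun g hg => ⟨a1 (b1 (c1 hg)), k.ker (hc (a1 (b1 (c1 hg)))) fun i => by
      fin_cases i
      exacts [a3 g (b1 (c1 hg)), b3 g (c1 hg), c3 g hg]⟩
    have := card_le_of_le this
    omega

theorem B1.ab3 (h : B1 z Q Qs r R) {T : Subgroup G} (hT : IsPGroup 3 T) (hc : T ≤ 𝒞[z]) :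
    ∀ a ∈ T, ∀ b ∈ T, a * b * a⁻¹ * b⁻¹ ∈ Q := by
  have k := h.toB2
  intro x hx y hy
  rcases all_ba k hT hc with ⟨s, hs, sT⟩ | hb
  · have h9 := h.idx9 (hc hs) sT hT hc
    have : (Q.subgroupOf T).Normal :=
      ⟨fun q hq g => Fa.conjQ k.toE1 (hc g.2) hq⟩
    have h1 := (Q.subgroupOf T).card_mul_index
    rw [card_subgroupOf, inf_comm] at h1
    have h2 : Nat.card (T ⧸ Q.subgroupOf T) ≤ 9 := by
      rw [← index_eq_card]
      rw [← h1, mul_comm] at h9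
      exact Nat.le_of_mul_le_mul_right h9 Nat.card_pos
    have h3 := comm9 (hT.to_quotient _) h2 (QuotientGroup.mk ⟨x, hx⟩) (QuotientGroup.mk ⟨y, hy⟩)
    have h4 : (⟨x, hx⟩ * ⟨y, hy⟩ * ⟨x, hx⟩⁻¹ * ⟨y, hy⟩⁻¹ : T) ∈ Q.subgroupOf T := by
      rw [← QuotientGroup.eq_one_iff]
      simp only [QuotientGroup.mk_mul, QuotientGroup.mk_inv, h3, mul_inv_cancel_right,
        mul_inv_cancel]
    exact h4
  · obtain ⟨a, b, f⟩ := k.exists_fm
    have hB : T ≤ BB z Qs := fun g hg => mem_BB.2 ⟨hc hg, hb g hg⟩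
    have h3 : ∀ g ∈ T, Φ z a b g ^ 3 = 1 := fun g hg => by
      obtain ⟨n, hn⟩ := pow_Q (Q := Q) hT hg
      rw [← (ph k f).pow (hB hg), kerΦ k f (pow_mem (hB hg) 3)]
      exact k.cube (hc hg) (hb g hg) hn
    have c1 := mul_mem (mul_mem (hB hx) (hB hy)) (inv_mem (hB hx))
    have e1 := h3 _ (mul_mem hx hy)
    have e2 := h3 _ (mul_mem hx (inv_mem hy))
    rw [(ph k f).mul _ (hB hx) _ (hB hy)] at e1
    rw [(ph k f).div (hB hx) (hB hy)] at e2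
    rw [← kerΦ k f (mul_mem c1 (inv_mem (hB hy))), (ph k f).div c1 (hB hy),
      (ph k f).conj (hB hx) (hB hy)]
    exact funext fun i => s_ab _ _ (congrFun (h3 x hx) i) (congrFun (h3 y hy) i) (congrFun e1 i)
      (congrFun e2 i)

/-- the centraliser in `Q` of a transitive element -/
theorem B2.cent_tr (h : B2 z Q Qs r R) {s : G} (hs : s ∈ 𝒞[z]) (sT : Tr Qs s) {X : Subgroup G}
    (hX : X ≤ Q ⊓ 𝒞[s]) : Nat.card X ≤ 27 := by
  obtain ⟨a, b, f⟩ := h.exists_fm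
  obtain ⟨σ, hσ, hc⟩ := exists_cyc h hs sT
  have hQ : X ≤ Q := hX.trans inf_le_left
  have h1 := h.toE1.card_le_cent hQ (h.le 0 (f 0).aW)
  have h2 := h.toE1.card_le_cent (inf_le_left.trans hQ : X ⊓ 𝒞[a 0] ≤ Q) (h.le 0 (f 0).bW)
  have h3 : X ⊓ 𝒞[a 0] ⊓ 𝒞[b 0] ≤ zpowers z := by
    rintro q ⟨⟨q1, q2⟩, q3⟩
    have step : ∀ i, Qs i ≤ 𝒞[q] → Qs (σ i) ≤ 𝒞[q] := fun i hi u hu => by
      rw [← hσ] at hu
      obtain ⟨v, hv, rfl⟩ := mem_cj'.1 hu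
      have hs' : s ∈ 𝒞[q] := mem_cent1_comm.1 (hX q1).2
      exact mul_mem (mul_mem hs' (hi hv)) (inv_mem hs')
    have c0 : Qs 0 ≤ 𝒞[q] := fun u hu => by
      obtain ⟨i, j, k, rfl⟩ := (f 0).nf u hu
      exact mul_mem (mul_mem (pow_mem (mem_cent1_comm.1 (h.Qc (hQ q1))) i)
        (pow_mem (mem_cent1_comm.1 q2) j)) (pow_mem (mem_cent1_comm.1 q3) k)
    have call : ∀ i, Qs i ≤ 𝒞[q] := fun i => by
      rcases hc 0 i with rfl | rfl | rfl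
      exacts [c0, step _ c0, step _ (step _ c0)]
    refine h.cen q (hQ q1) fun u hu => (mem_cent1.1 ?_).symm
    rw [← h.sup] at hu
    exact sup_le (sup_le (call 0) (call 1)) (call 2) hu
  have h4 := card_le_of_le h3
  rw [Nat.card_zpowers, h.z3] at h4
  omega

/-- Lemma X -/
theorem B2.lemX (h : B2 z Q Qs r R) {y c : G} (hy : y ∈ Q) (h3 : ∀ i, ¬ Commute y (r i))
    (hc : c ∈ 𝒞[z]) (e : ∀ q ∈ Q ⊓ 𝒞[y], c * q * c⁻¹ * q⁻¹ ∈ closure {z, y}) : c ∈ Q := by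
  have E := h.toE1
  obtain ⟨u, hu, hyu⟩ := h.dec hy
  have hn : ∀ i, u i ∉ zpowers z := fun i hi => by
    refine h3 i ((h.cent_r hy i).2 ?_)
    have : ∀ j, u j ∈ 𝒞(Qs i) := fun j => by
      by_cases n : j = i
      · rw [n]
        exact mem_centralizer_iff.2 fun q hq => (Z_comm (h.Qc (h.le i hq)) hi).symm
      · exact h.QQ j i n (hu j)
    rw [hyu]
    exact mul_mem (mul_mem (this 0) (this 1)) (this 2)
  choose a b f hab using fun i => h.basis i (hu i) (hn i)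
  have ha := fun i => h.le i (f i).aW
  have hb := fun i => h.le i (f i).bW
  have Vy : ∀ i, vec z (a i) (b i) y = (1, 0) := fun i => by
    rw [hyu, Vprod h f hu, ← Fa.vec_congr E (ha i) (hb i) (h.le i (hu i)) (hab i),
      (h.hp (f i)).vec_a]
  have key : ∀ q ∈ Q, q ∈ 𝒞[y] → ∀ l, vec z (a l) (b l) (c * q * c⁻¹) = vec z (a l) (b l) q →
      ∀ j, vec z (a j) (b j) (c * q * c⁻¹) = vec z (a j) (b j) q := by
    intro q hq hqy l hl j
    obtain ⟨-, k, hk⟩ := Vcl h f hy Vy (e q ⟨hq, hqy⟩)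
    have e1 : ∀ i, vec z (a i) (b i) (c * q * c⁻¹) - vec z (a i) (b i) q = (k, 0) := fun i => by
      rw [← hk i, Fa.vec_mul E (ha i) (hb i) (Fa.conjQ E hc hq) (inv_mem hq),
        Fa.vec_inv E (ha i) (hb i) hq, sub_eq_add_neg]
    rw [← sub_eq_zero, e1 j, ← e1 l, hl, sub_self]
  obtain ⟨σ, hσ⟩ := h.perm hc
  have hcj : ∀ i, ∀ w ∈ Qs i, c * w * c⁻¹ ∈ Qs (σ i) := fun i w hw => hσ i ▸ conj_mem_cj.2 hw
  have Va : ∀ i, vec z (a i) (b i) (c * a i * c⁻¹) = (1, 0) := fun i => by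
    obtain ⟨l, l1, l2⟩ := third i (σ i)
    rw [key (a i) (ha i) (mem_cent1.2 ((Fa.bt_zero E hy (ha i)).1 (congrArg Prod.snd (Vy i))).symm)
      l (by rw [V0 h f l2 (hcj i _ (f i).aW), V0 h f l1 (f i).aW]), (h.hp (f i)).vec_a]
  have hσ1 : ∀ i, σ i = i := fun i => by
    by_contra n
    exact absurd ((V0 h f (Ne.symm n) (hcj i _ (f i).aW)).symm.trans (Va i)) (by decide)
  have hN : ∀ i, c ∈ 𝒩(Qs i) := fun i => mem_norm_iff_cj.2 (by rw [hσ, hσ1])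
  simp only [hσ1] at hcj
  refine h.ker hc fun i => (h.tv_iff (f i) ⟨hc, hN i⟩).2
    ((h.hp (f i)).mat_eq ⟨hc, hN i⟩ (Va i) ?_)
  obtain ⟨j, j1, -⟩ := third i i
  obtain ⟨l, l1, l2⟩ := third i j
  have hq := mul_mem (hb i) (inv_mem (hb j))
  have sp : ∀ m, vec z (a m) (b m) (c * (b i * (b j)⁻¹) * c⁻¹) =
      vec z (a m) (b m) (c * b i * c⁻¹) + vec z (a m) (b m) (c * (b j)⁻¹ * c⁻¹) := fun m => by
    rw [← Fa.vec_mul E (ha m) (hb m) (Fa.conjQ E hc (hb i)) (Fa.conjQ E hc (inv_mem (hb j)))]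
    congr 1; group
  have := key _ hq (mem_cent1.2 ((Fa.bt_zero E hq hy).1 (by
      rw [Fa.bt_mul_left E (hb i) (inv_mem (hb j)) hy, Fa.bt_inv_left E (hb j) hy,
        show bt z (b i) y = 1 from congrArg Prod.fst (Vy i),
        show bt z (b j) y = 1 from congrArg Prod.fst (Vy j), add_neg_cancel]))) l
    (by rw [sp, Fa.vec_mul E (ha l) (hb l) (hb i) (inv_mem (hb j)),
      V0 h f l1 (hcj i _ (f i).bW), V0 h f l2 (hcj j _ (inv_mem (f j).bW)), V0 h f l1 (f i).bW,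
      V0 h f l2 (inv_mem (f j).bW)]) i
  rwa [sp, Fa.vec_mul E (ha i) (hb i) (hb i) (inv_mem (hb j)),
    V0 h f j1.symm (hcj j _ (inv_mem (f j).bW)), V0 h f j1.symm (inv_mem (f j).bW), add_zero,
    add_zero, (h.hp (f i)).vec_b] at this

end Cfsg.Agent.F3
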