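/-
Project F3: `J = C(z, a₀, a₁, a₂)` is abelian, weakly closed, and its normaliser controls fusion.
-/
import Cfsg.Agent.F3.W2

set_option autoImplicit false

namespace Cfsg.Agent.F3

open Subgroup H49 T3.Fr2

variable {G : Type*} [Group G] [Finite G] {z : G} {Q R : Subgroup G} {Qs : Fin 3 → Subgroup G}
  {r : Fin 3 → G}

namespace I2b

theorem cyc3 : ∀ σ : Equiv.Perm (Fin 3), (∀ i, σ i ≠ i) → ∀ i j, j = i ∨ j = σ i ∨ σ j = i := by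
  decide

theorem s2fix : ∀ X A : S2, X ≠ 1 → X.ap (1, 0) = (1, 0) → A * X * A⁻¹ * X⁻¹ = 1 → A ^ 3 = 1 →
    A.ap (1, 0) = (1, 0) := by decide +kernel

omit [Finite G] in
theorem zp3 (h : E1 z Q) {c : G} (hc : c ∈ zpowers z) : c = 1 ∨ c = z ∨ c = z⁻¹ := by
  have e := zp_lg h.z3 hc
  have : ∀ i : ZMod 3, i = 0 ∨ i = 1 ∨ i = 2 := by decide
  rcases this (lg z c) with e1 | e1 | e1 <;> rw [e1] at e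
  · exact Or.inl (by rw [← e, zp_zero])
  · exact Or.inr (Or.inl (by rw [← e, zp_one]))
  · refine Or.inr (Or.inr ?_)
    rw [← e, eq_inv_iff_mul_eq_one, show (2 : ZMod 3) = ((2 : ℕ) : ZMod 3) from rfl,
      zp_natCast (Fa.z3' h), ← pow_succ, Fa.z3' h]

omit [Finite G] in
/-- a 3-element normalising `⟨z⟩` centralises `z` -/
theorem cent_of_three (h : E1 z Q) {n : G} {k : ℕ} (hn : n ^ 3 ^ k = 1)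
    (e : n * z * n⁻¹ ∈ zpowers z) : n ∈ 𝒞[z] := by
  have z1 : z ≠ 1 := fun e1 => by have := h.z3; rw [e1, orderOf_one] at this; omega
  rcases zp3 h e with e1 | e1 | e1
  · exact absurd (by rwa [conj_eq_one_iff] at e1) z1
  · exact mem_cent1.2 (mul_inv_eq_iff_eq_mul.1 e1)
  · exfalso
    have e2 : n * n ∈ 𝒞[z] := mem_cent1.2 (mul_inv_eq_iff_eq_mul.1 (by
      calc n * n * z * (n * n)⁻¹ = n * (n * z * n⁻¹) * n⁻¹ := by group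
        _ = n * z⁻¹ * n⁻¹ := by rw [e1]
        _ = (n * z * n⁻¹)⁻¹ := by group
        _ = z := by rw [e1, inv_inv]))
    obtain ⟨m, hm⟩ : Odd (3 ^ k) := Odd.pow (by decide)
    have e3 : n ∈ 𝒞[z] := by
      have : n = ((n * n) ^ m)⁻¹ := by
        rw [eq_inv_iff_mul_eq_one, ← hn, hm, ← pow_two, ← pow_mul, pow_succ']
      rw [this]; exact inv_mem (pow_mem e2 m)
    rw [mem_cent1.1 e3, mul_inv_cancel_right] at e1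
    exact z1 (Fa.Z_sq h (mem_zpowers z) (by nth_rewrite 1 [e1]; exact inv_mul_cancel z))

/-- a Sylow 3-subgroup of `C(z)` containing `Q` is Sylow in `G` -/
theorem syl_top (h : E1 z Q) {S : Subgroup G} (hS : H42.SylIn 3 S 𝒞[z]) (hQ : Q ≤ S) :
    H42.SylIn 3 S ⊤ := by
  have : Fact (Nat.Prime 3) := ⟨Nat.prime_three⟩
  obtain ⟨T, hT, hle⟩ := H42.exists_sylIn hS.isP le_top
  by_cases e : S = T
  · rwa [e]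
  exfalso
  have hlt := H42.lt_inf_normalizer hT.isP (lt_of_le_of_ne hle e)
  have hP : IsPGroup 3 ↥(T ⊓ 𝒩(S)) := hT.isP.to_le inf_le_left
  refine hlt.ne' (hS.eq_of_le hP (fun n hn => ?_) hlt.le)
  obtain ⟨k, hk⟩ := MC3.exists_pow_of_isP hP hn
  refine cent_of_three h hk (h.cQ (cent_anti hQ ?_))
  exact conj_mem_of_norm (norm_cent le_rfl) hn.2 (le_cent1_iff.1 hS.le)

section
variable {a b : Fin 3 → G} {s x : G}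

theorem mx (h : B1 z Q Qs r R) (f : ∀ i, Fm z (Qs i) (r i) (a i) (b i)) {g : G} (hg : g ∈ 𝒞[z])
    (ha : ∀ i, g * a i * g⁻¹ * (a i)⁻¹ ∈ zpowers z) (i : Fin 3) :
    (mat z (a i) (b i) g).ap (1, 0) = (1, 0) := by
  have p := h.toB2.hp (f i)
  rw [← p.vec_a, ← p.vec_conj ⟨hg, (h.toB2.comm_A f hg ha).1 i⟩ p.aW]
  exact Fa.vec_congr p.f0 p.aQ p.bQ p.aQ (ha i)

omit [Finite G] in
theorem fixJ {g : G} (hg : g ∈ 𝒞[z] ⊓ 𝒞[a 0] ⊓ 𝒞[a 1] ⊓ 𝒞[a 2]) (i : Fin 3) :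
    g * a i * g⁻¹ * (a i)⁻¹ ∈ zpowers z := by
  have : g ∈ 𝒞[a i] := by
    fin_cases i
    exacts [hg.1.1.2, hg.1.2, hg.2]
  rw [mem_cent1.1 this]; simp

theorem mx1 (h : B1 z Q Qs r R) (f : ∀ i, Fm z (Qs i) (r i) (a i) (b i)) (hs : s ∈ 𝒞[z])
    (sT : Tr Qs s) (xJ : x ∈ 𝒞[z] ⊓ 𝒞[a 0] ⊓ 𝒞[a 1] ⊓ 𝒞[a 2]) (xQ : x ∉ Q) (i : Fin 3) :
    mat z (a i) (b i) x ≠ 1 := fun e => by
  obtain ⟨bx, x3, -⟩ := h.toB2.comm_A f xJ.1.1.1 (fixJ xJ)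
  exact xQ (h.wt hs sT xJ.1.1.1 bx x3 ((h.toB2.tv_iff (f i) ⟨xJ.1.1.1, bx i⟩).2 e))

theorem memJ (h : B1 z Q Qs r R) (f : ∀ i, Fm z (Qs i) (r i) (a i) (b i)) (hs : s ∈ 𝒞[z])
    (sT : Tr Qs s) (xJ : x ∈ 𝒞[z] ⊓ 𝒞[a 0] ⊓ 𝒞[a 1] ⊓ 𝒞[a 2]) (xQ : x ∉ Q) {j : G}
    (hj : j ∈ 𝒞[z] ⊓ 𝒞[a 0] ⊓ 𝒞[a 1] ⊓ 𝒞[a 2]) :
    ∃ i k l m n : ℕ, j = z ^ i * a 0 ^ k * a 1 ^ l * a 2 ^ m * x ^ n := by
  have p := (h.toB2.hp (f 0)).ph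
  have bx := (h.toB2.comm_A f xJ.1.1.1 (fixJ xJ)).1
  have bj := (h.toB2.comm_A f hj.1.1.1 (fixJ hj)).1
  obtain ⟨n, hn⟩ := S2.stab1 _ _ (mx1 h f hs sT xJ xQ 0) (mx h f xJ.1.1.1 (fixJ xJ) 0)
    (mx h f hj.1.1.1 (fixJ hj) 0)
  have xm : x ∈ 𝒞[z] ⊓ 𝒩(Qs 0) := ⟨xJ.1.1.1, bx 0⟩
  rw [← p.pow xm, ← p.inv (pow_mem xm _), ← p.mul _ (inv_mem (pow_mem xm _)) _ ⟨hj.1.1.1, bj 0⟩] at hn
  have hj' := mul_mem (inv_mem (pow_mem xJ n.val)) hj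
  obtain ⟨b', c', -⟩ := h.toB2.comm_A f hj'.1.1.1 (fixJ hj')
  have hQ := h.wt hs sT hj'.1.1.1 b' c' ((h.toB2.tv_iff (f 0) ⟨hj'.1.1.1, b' 0⟩).2 hn)
  obtain ⟨i, k, l, m, e⟩ := (h.toB2.mem_A f).1 ⟨⟨⟨hQ, hj'.1.1.2⟩, hj'.1.2⟩, hj'.2⟩
  refine ⟨i, k, l, m, n, ?_⟩
  have c0 : Commute x z := mem_cent1.1 xJ.1.1.1
  have c1 : Commute x (a 0) := mem_cent1.1 xJ.1.1.2
  have c2 : Commute x (a 1) := mem_cent1.1 xJ.1.2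
  have c3 : Commute x (a 2) := mem_cent1.1 xJ.2
  rw [← ((((c0.pow_right i).mul_right (c1.pow_right k)).mul_right (c2.pow_right l)).mul_right
    (c3.pow_right m)).pow_left n, ← e, mul_inv_cancel_left]

omit [Finite G] in
theorem commJ {j : G} (hj : j ∈ 𝒞[z] ⊓ 𝒞[a 0] ⊓ 𝒞[a 1] ⊓ 𝒞[a 2]) (i k l m : ℕ) :
    Commute j (z ^ i * a 0 ^ k * a 1 ^ l * a 2 ^ m) := by
  have c0 : Commute j z := mem_cent1.1 hj.1.1.1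
  have c1 : Commute j (a 0) := mem_cent1.1 hj.1.1.2
  have c2 : Commute j (a 1) := mem_cent1.1 hj.1.2
  have c3 : Commute j (a 2) := mem_cent1.1 hj.2
  exact (((c0.pow_right i).mul_right (c1.pow_right k)).mul_right (c2.pow_right l)).mul_right
    (c3.pow_right m)

theorem Jab (h : B1 z Q Qs r R) (f : ∀ i, Fm z (Qs i) (r i) (a i) (b i)) (hs : s ∈ 𝒞[z])
    (sT : Tr Qs s) (xJ : x ∈ 𝒞[z] ⊓ 𝒞[a 0] ⊓ 𝒞[a 1] ⊓ 𝒞[a 2]) (xQ : x ∉ Q) :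
    𝒞[z] ⊓ 𝒞[a 0] ⊓ 𝒞[a 1] ⊓ 𝒞[a 2] ≤ 𝒞(𝒞[z] ⊓ 𝒞[a 0] ⊓ 𝒞[a 1] ⊓ 𝒞[a 2]) :=
  le_cent_iff.2 fun u hu v hv => by
    obtain ⟨i, k, l, m, n, e⟩ := memJ h f hs sT xJ xQ hu
    obtain ⟨i', k', l', m', n', e'⟩ := memJ h f hs sT xJ xQ hv
    have cx : Commute x v := e' ▸ (commJ xJ i' k' l' m').mul_right (Commute.self_pow x n')
    exact (e ▸ (commJ hv i k l m).mul_right (cx.symm.pow_right n) : Commute v u)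

theorem Jp (h : B1 z Q Qs r R) (f : ∀ i, Fm z (Qs i) (r i) (a i) (b i)) (hs : s ∈ 𝒞[z])
    (sT : Tr Qs s) (xJ : x ∈ 𝒞[z] ⊓ 𝒞[a 0] ⊓ 𝒞[a 1] ⊓ 𝒞[a 2]) (xQ : x ∉ Q) (x3 : x ^ 3 = 1) :
    IsPGroup 3 ↥(𝒞[z] ⊓ 𝒞[a 0] ⊓ 𝒞[a 1] ⊓ 𝒞[a 2]) :=
  MC3.isP_of_exp fun u hu => by
    obtain ⟨i, k, l, m, n, e⟩ := memJ h f hs sT xJ xQ hu
    rw [e, ((commJ xJ i k l m).symm.pow_right n).mul_pow,
      h.exp _ ((h.toB2.mem_A f).2 ⟨i, k, l, m, rfl⟩).1.1.1, ← pow_mul, mul_comm, pow_mul, x3, one_pow,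
      one_mul]

theorem cardJ (h : B1 z Q Qs r R) (f : ∀ i, Fm z (Qs i) (r i) (a i) (b i)) (hs : s ∈ 𝒞[z])
    (sT : Tr Qs s) (xJ : x ∈ 𝒞[z] ⊓ 𝒞[a 0] ⊓ 𝒞[a 1] ⊓ 𝒞[a 2]) (xQ : x ∉ Q) (x3 : x ^ 3 = 1) :
    243 ≤ Nat.card ↥(𝒞[z] ⊓ 𝒞[a 0] ⊓ 𝒞[a 1] ⊓ 𝒞[a 2]) := by
  obtain ⟨k, hk⟩ := MC3.card_pow_of_isP (Jp h f hs sT xJ xQ x3)
  have hlt : Q ⊓ 𝒞[a 0] ⊓ 𝒞[a 1] ⊓ 𝒞[a 2] < 𝒞[z] ⊓ 𝒞[a 0] ⊓ 𝒞[a 1] ⊓ 𝒞[a 2] :=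
    lt_of_le_of_ne (inf_le_inf_right _ (inf_le_inf_right _ (inf_le_inf_right _ h.Qc)))
      fun e => xQ (e ▸ xJ : x ∈ Q ⊓ 𝒞[a 0] ⊓ 𝒞[a 1] ⊓ 𝒞[a 2]).1.1.1
  have := card_lt_of_lt hlt
  rw [h.toB2.card_A f, hk] at this
  rw [hk]
  have h4 : 4 < k := (Nat.pow_lt_pow_iff_right (a := 3) (by norm_num)).1 this
  exact Nat.pow_le_pow_right (n := 3) (by norm_num) (show 5 ≤ k from h4)

/-- the centraliser in `Q` of a base element of `S \ Q` -/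
theorem centBa (h : B1 z Q Qs r R) (f : ∀ i, Fm z (Qs i) (r i) (a i) (b i)) (hs : s ∈ 𝒞[z])
    (sT : Tr Qs s) (xJ : x ∈ 𝒞[z] ⊓ 𝒞[a 0] ⊓ 𝒞[a 1] ⊓ 𝒞[a 2]) (xQ : x ∉ Q) {S : Subgroup G}
    (Sp : IsPGroup 3 S) (Sc : S ≤ 𝒞[z]) (xS : x ∈ S) {g : G} (hg : g ∈ S) (bg : Ba Qs g)
    (gQ : g ∉ Q) {q : G} (hq : q ∈ Q) (c : q * g = g * q) :
    q ∈ Q ⊓ 𝒞[a 0] ⊓ 𝒞[a 1] ⊓ 𝒞[a 2] := by
  obtain ⟨k, hk⟩ := MC3.exists_pow_of_isP Sp hg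
  have g3 := h.toB2.cube (Sc hg) bg (k := k) (hk ▸ Q.one_mem)
  have bx := (h.toB2.comm_A f xJ.1.1.1 (fixJ xJ)).1
  have ha : ∀ i, g * a i * g⁻¹ * (a i)⁻¹ ∈ zpowers z := fun i => by
    have p := h.toB2.hp (f i)
    have gm : g ∈ 𝒞[z] ⊓ 𝒩(Qs i) := ⟨Sc hg, bg i⟩
    have xm : x ∈ 𝒞[z] ⊓ 𝒩(Qs i) := ⟨xJ.1.1.1, bx i⟩
    have e := s2fix _ (mat z (a i) (b i) g) (mx1 h f hs sT xJ xQ i) (mx h f xJ.1.1.1 (fixJ xJ) i)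
      (by rw [← p.ph.conj gm xm, ← p.ph.div (mul_mem (mul_mem gm xm) (inv_mem gm)) xm]
          exact p.mat_Q (h.ab3 Sp Sc g hg x xS))
      (by rw [← p.ph.pow gm]; exact p.mat_Q g3)
    refine h.toB2.div (f i) _ (conj_mem_of_norm le_rfl (bg i) p.aW) _ p.aW ?_
    rw [p.vec_conj gm p.aW, p.vec_a, e]
  have key := (h.toB2.comm_A f (Sc hg) ha).2.2.2 q hq (by rw [← c]; simp)
  have nt : ∀ i, ¬ Tv z (Qs i) g := fun i tv => gQ (h.wt hs sT (Sc hg) bg g3 tv)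
  exact ⟨⟨⟨hq, key 0 (nt 0)⟩, key 1 (nt 1)⟩, key 2 (nt 2)⟩

theorem centTr (h : B2 z Q Qs r R) (f : ∀ i, Fm z (Qs i) (r i) (a i) (b i)) {t q : G}
    (ht : t ∈ 𝒞[z]) (tT : Tr Qs t) (hq : q ∈ Q) (c : t * q = q * t) (ca : q ∈ 𝒞[a 0])
    (cb : q ∈ 𝒞[b 0]) : q ∈ zpowers z := by
  obtain ⟨σ, hσ⟩ := h.perm ht
  have nf : ∀ i, σ i ≠ i := fun i e => tT i (mem_norm_iff_cj.2 (by rw [hσ, e]))
  have st : ∀ i, q ∈ 𝒞(Qs (σ i)) ↔ q ∈ 𝒞(Qs i) := fun i => by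
    rw [← hσ, ← cj_centralizer, mem_cj, mul_assoc, ← c, inv_mul_cancel_left]
  have h0 : q ∈ 𝒞(Qs 0) := mem_centralizer_iff.2 fun w hw => by
    obtain ⟨i, j, k, rfl⟩ := (f 0).nf w hw
    have c0 : Commute q z := mem_cent1.1 (h.Qc hq)
    have c1 : Commute q (a 0) := mem_cent1.1 ca
    have c2 : Commute q (b 0) := mem_cent1.1 cb
    exact (((c0.pow_right i).mul_right (c1.pow_right j)).mul_right (c2.pow_right k)).symm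
  have al : ∀ j, q ∈ 𝒞(Qs j) := fun j => by
    rcases cyc3 σ nf 0 j with e | e | e
    · rwa [e]
    · rw [e]; exact (st 0).2 h0
    · exact (st j).1 (by rwa [e])
  refine h.toE1.cQ ?_
  rw [← h.sup, cent_sup, cent_sup]
  exact ⟨⟨al 0, al 1⟩, al 2⟩

theorem uniq (h : B1 z Q Qs r R) (f : ∀ i, Fm z (Qs i) (r i) (a i) (b i)) (hs : s ∈ 𝒞[z])
    (sT : Tr Qs s) (xJ : x ∈ 𝒞[z] ⊓ 𝒞[a 0] ⊓ 𝒞[a 1] ⊓ 𝒞[a 2]) (xQ : x ∉ Q) {S : Subgroup G}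
    (Sp : IsPGroup 3 S) (Sc : S ≤ 𝒞[z]) (xS : x ∈ S) {X : Subgroup G} (hX : X ≤ S)
    (ab : X ≤ 𝒞(X)) (hc : 243 ≤ Nat.card X) : X ≤ 𝒞[z] ⊓ 𝒞[a 0] ⊓ 𝒞[a 1] ⊓ 𝒞[a 2] := by
  have Xp : IsPGroup 3 X := Sp.to_le hX
  have Xc := hX.trans Sc
  have key : ∀ g ∈ X, Ba Qs g → g ∉ Q → X ⊓ Q ≤ Q ⊓ 𝒞[a 0] ⊓ 𝒞[a 1] ⊓ 𝒞[a 2] :=
    fun g hg bg gQ q hq => centBa h f hs sT xJ xQ Sp Sc xS (hX hg) bg gQ hq.2
      (le_cent_iff.1 ab g hg q hq.1)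
  by_cases hb : ∀ g ∈ X, Ba Qs g
  · have h3 := h.idx3 hs sT Xp Xc hb
    have hn : ¬ X ≤ Q := fun hle => by have := h.toB2.ab_le hle ab; omega
    obtain ⟨g, hg, gQ⟩ := SetLike.not_le_iff_exists.1 hn
    have hle := key g hg (hb g hg) gQ
    have e := eq_of_le_of_card_eq hle (le_antisymm (card_le_of_le hle) (by
      rw [h.toB2.card_A f]; omega))
    have aX : ∀ i k l m : ℕ, z ^ i * a 0 ^ k * a 1 ^ l * a 2 ^ m ∈ X := fun i k l m =>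
      (e ▸ (h.toB2.mem_A f).2 ⟨i, k, l, m, rfl⟩ : _ ∈ X ⊓ Q).1
    refine le_inf (le_inf (le_inf Xc ?_) ?_) ?_ <;> refine le_cent1_iff.2 (ab ?_)
    · simpa using aX 0 1 0 0
    · simpa using aX 0 0 1 0
    · simpa using aX 0 0 0 1
  · exfalso
    push Not at hb
    obtain ⟨t, ht, tb⟩ := hb
    obtain ⟨k, hk⟩ := MC3.exists_pow_of_isP Xp ht
    have tT := (h.toB2.three (Xc ht) (k := k) (hk ▸ Q.one_mem)).resolve_left tb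
    have h27 := h.toB2.cent_tr (Xc ht) tT (X := X ⊓ Q) fun q hq =>
      ⟨hq.2, mem_cent1.2 (le_cent_iff.1 ab t ht q hq.1)⟩
    obtain ⟨T0, hT0, c0, b0⟩ := h.toB2.exists_ba Xp Xc
    have hn : ¬ T0 ≤ Q := fun hle => by
      have := card_le_of_le (le_inf hT0 hle); omega
    obtain ⟨g, hg, gQ⟩ := SetLike.not_le_iff_exists.1 hn
    have hle := key g (hT0 hg) (b0 g hg) gQ
    have h9 := h.idx9 hs sT Xp Xc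
    have h3 := h.toE1.card_le_cent (X := X ⊓ Q) inf_le_right (h.toB2.le 0 (f 0).bW)
    have hZ : X ⊓ Q ⊓ 𝒞[b 0] ≤ zpowers z := fun q hq =>
      centTr h.toB2 f (Xc ht) tT hq.1.2 (le_cent_iff.1 ab q hq.1.1 t ht) (hle hq.1).1.1.2 hq.2
    have := card_le_of_le hZ
    rw [Nat.card_zpowers, h.z3] at this
    omega

end

/-- fusion control by a weakly closed abelian subgroup -/
theorem fus_of {J S : Subgroup G} (hS : H42.SylIn 3 S ⊤) (Jp : IsPGroup 3 J) (ab : J ≤ 𝒞(J))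
    (u : ∀ g : G, cj g J ≤ S → cj g J = J) (g a : G) (ha : a ∈ J) (hb : g * a * g⁻¹ ∈ J) :
    ∃ n ∈ 𝒩(J), n * a * n⁻¹ = g * a * g⁻¹ := by
  have : Fact (Nat.Prime 3) := ⟨Nat.prime_three⟩
  have wc : ∀ {T : Subgroup G}, IsPGroup 3 T → J ≤ T → ∀ {g : G}, cj g J ≤ T → g ∈ 𝒩(J) := by
    intro T hT hJ g hg
    obtain ⟨a, -, ha⟩ := hS.exists_conj hT le_top
    have hle : cj a T ≤ S := fun x hx => by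
      obtain ⟨y, hy, rfl⟩ := mem_cj'.mp hx; exact ha y hy
    have h1 := u _ ((cj_mono a hJ).trans hle)
    have h2 := u (a * g) (by rw [cj_mul]; exact (cj_mono a hg).trans hle)
    rw [cj_mul] at h2
    exact mem_norm_iff_cj.mpr (cj_inj.mp (h2.trans h1.symm))
  have h1 : J ≤ 𝒞[g * a * g⁻¹] := le_cent1_iff.mpr (ab hb)
  have h2 : cj g J ≤ 𝒞[g * a * g⁻¹] := cj_cent1 g _ ▸ cj_mono g (le_cent1_iff.mpr (ab ha))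
  obtain ⟨T, hT, hJT⟩ := H42.exists_sylIn Jp h1
  obtain ⟨d, hd, H⟩ := hT.exists_conj (isPGroup_cj.mpr Jp) h2
  refine ⟨d * g, wc hT.isP hJT fun x hx => ?_, ?_⟩
  · rw [cj_mul] at hx
    obtain ⟨y, hy, rfl⟩ := mem_cj'.mp hx; exact H y hy
  · rw [show d * g * a * (d * g)⁻¹ = d * (g * a * g⁻¹) * d⁻¹ by group, mem_cent1.mp hd]; group

end I2b

theorem B0.bj (h : B0 z Q Qs r R) {a b : Fin 3 → G} {g s x : G}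
    (f : ∀ i, Fm z (Qs i) (r i) (a i) (b i)) (hy : g * z * g⁻¹ = a 0 * a 1 * a 2)
    (hs : s ∈ cj g Q ⊓ 𝒞[z]) (sT : Tr Qs s) (hx : x ∈ cj g Q)
    (xJ : x ∈ 𝒞[z] ⊓ 𝒞[a 0] ⊓ 𝒞[a 1] ⊓ 𝒞[a 2]) (xQ : x ∉ Q) :
    BJ z Q Qs r R a b x s (𝒞[z] ⊓ 𝒞[a 0] ⊓ 𝒞[a 1] ⊓ 𝒞[a 2]) := by
  have : Fact (Nat.Prime 3) := ⟨Nat.prime_three⟩
  have x3 : x ^ 3 = 1 := (h.toE1.conj g).exp x hx
  have Jp := I2b.Jp h.toB1 f hs.2 sT xJ xQ x3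
  have ab := I2b.Jab h.toB1 f hs.2 sT xJ xQ
  have Jc : 𝒞[z] ⊓ 𝒞[a 0] ⊓ 𝒞[a 1] ⊓ 𝒞[a 2] ≤ 𝒞[z] := fun _ hj => hj.1.1.1
  obtain ⟨S, hS, hle⟩ := H42.exists_sylIn (MC3.isP_sup h.toE1.isP Jp (Jc.trans (Fa.cQ h.toE1)))
    (sup_le h.Qc Jc)
  refine { h with
    fm := f, sz := hs.2, sT := sT, Jdef := rfl, xJ := xJ, xQ := xQ, x3 := x3
    memJ := fun j hj => I2b.memJ h.toB1 f hs.2 sT xJ xQ hj
    yx := ⟨g, hy, hx⟩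
    fus := fun k u hu hv => I2b.fus_of (I2b.syl_top h.toE1 hS (le_sup_left.trans hle)) Jp ab
      (fun k hk => ?_) k u hu hv }
  refine eq_of_le_of_card_eq (I2b.uniq h.toB1 f hs.2 sT xJ xQ hS.isP hS.le
    (hle (mem_sup_right xJ)) hk (cj_centralizer k _ ▸ cj_mono k ab) ?_) (card_cj _ _)
  rw [card_cj]
  exact I2b.cardJ h.toB1 f hs.2 sT xJ xQ x3

end Cfsg.Agent.F3
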