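/-
Project F3: if `⟨z⟩` is not weakly closed in `Q`, there are a transitive element and an element `x`.
-/
import Cfsg.Agent.F3.I1
import Cfsg.Agent.F3.I2b

set_option autoImplicit false

namespace Cfsg.Agent.F3

open Subgroup H49 T3.Fr2

variable {G : Type*} [Group G] [Finite G] {z : G} {Q R : Subgroup G} {Qs : Fin 3 → Subgroup G}
  {r : Fin 3 → G}

namespace I2a

/-- the elements of `C(z)` that commute with `k` modulo `⟨z⟩` -/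
def Fz (z k : G) : Subgroup G where
  carrier := {p | p ∈ 𝒞[z] ∧ k * p * k⁻¹ * p⁻¹ ∈ zpowers z}
  one_mem' := ⟨one_mem _, by simp⟩
  mul_mem' := fun {p q} hp hq => ⟨mul_mem hp.1 hq.1, by
    have := mul_mem hp.2 ((Z_conj hp.1 hq.2).symm ▸ hq.2 :
      p * (k * q * k⁻¹ * q⁻¹) * p⁻¹ ∈ zpowers z)
    convert this using 1; group⟩
  inv_mem' := fun {p} hp => ⟨inv_mem hp.1, by
    have := inv_mem ((Z_conj (inv_mem hp.1) hp.2).symm ▸ hp.2 :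
      p⁻¹ * (k * p * k⁻¹ * p⁻¹) * p⁻¹⁻¹ ∈ zpowers z)
    convert this using 1; group⟩

omit [Finite G] in
theorem mem_Fz {k p : G} : p ∈ Fz z k ↔ p ∈ 𝒞[z] ∧ k * p * k⁻¹ * p⁻¹ ∈ zpowers z := Iff.rfl

omit [Finite G] in
theorem swapZ {k p : G} (h : k * p * k⁻¹ * p⁻¹ ∈ zpowers z) : p * k * p⁻¹ * k⁻¹ ∈ zpowers z := by
  convert inv_mem h using 1; group

theorem bt_off (h : B2 z Q Qs r R) {i j : Fin 3} (n : i ≠ j) {u w : G} (hu : u ∈ Qs i)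
    (hw : w ∈ Qs j) : bt z u w = 0 :=
  (Fa.bt_zero h.toE1 (h.le i hu) (h.le j hw)).2 (le_cent_iff.1 (h.QQ j i n.symm) w hw u hu)

omit [Finite G] in
theorem bt3 (h : B2 z Q Qs r R) {w : G} (hw : w ∈ Q) {u : Fin 3 → G} (hu : ∀ i, u i ∈ Q) :
    bt z w (u 0 * u 1 * u 2) = ∑ i, bt z w (u i) := by
  rw [Fa.bt_mul_right h.toE1 hw (mul_mem (hu 0) (hu 1)) (hu 2),
    Fa.bt_mul_right h.toE1 hw (hu 0) (hu 1), Fin.sum_univ_three]

/-- comparison of components -/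
theorem comp (h : B2 z Q Qs r R) {σ : Equiv.Perm (Fin 3)} {u v : Fin 3 → G}
    (hu : ∀ i, u i ∈ Qs (σ i)) (hv : ∀ i, v i ∈ Qs i)
    (e : u 0 * u 1 * u 2 * (v 0 * v 1 * v 2)⁻¹ ∈ zpowers z) (i : Fin 3) :
    u i * (v (σ i))⁻¹ ∈ zpowers z := by
  have f := h.toE1
  have uQ : ∀ i, u i ∈ Q := fun i => h.le _ (hu i)
  have vQ : ∀ i, v i ∈ Q := fun i => h.le _ (hv i)
  have hc : u i * (v (σ i))⁻¹ ∈ Qs (σ i) := mul_mem (hu i) (inv_mem (hv _))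
  have cQ := h.le _ hc
  have key : ∀ j, ∀ w ∈ Qs j, bt z w (u i * (v (σ i))⁻¹) = 0 := fun j w hw => by
    by_cases hj : j = σ i
    · subst hj
      have wQ := h.le _ hw
      have e1 := Fa.bt_congr_right f wQ (mul_mem (mul_mem (vQ 0) (vQ 1)) (vQ 2)) e
      rw [bt3 h wQ uQ, bt3 h wQ vQ,
        Finset.sum_eq_single i (fun l _ hl => bt_off h (fun e => hl (σ.injective e).symm) hw (hu l))
          (by simp),
        Finset.sum_eq_single (σ i) (fun l _ hl => bt_off h hl.symm hw (hv l)) (by simp)] at e1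
      rw [Fa.bt_mul_right f wQ (uQ i) (inv_mem (vQ _)), Fa.bt_inv_right f wQ (vQ _), e1,
        add_neg_cancel]
    · exact bt_off h hj hw hc
  refine Fa.mem_Z_of_bt f cQ fun q hq => ?_
  obtain ⟨w, hw, rfl⟩ := h.dec hq
  rw [Fa.bt_mul_left f (mul_mem (h.le _ (hw 0)) (h.le _ (hw 1))) (h.le _ (hw 2)) cQ,
    Fa.bt_mul_left f (h.le _ (hw 0)) (h.le _ (hw 1)) cQ, key 0 _ (hw 0), key 1 _ (hw 1),
    key 2 _ (hw 2), add_zero, add_zero]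

section
variable {a b : Fin 3 → G}

theorem aQ (h : B2 z Q Qs r R) (f : ∀ i, Fm z (Qs i) (r i) (a i) (b i)) (i : Fin 3) : a i ∈ Q :=
  h.le i (f i).aW

theorem bQ (h : B2 z Q Qs r R) (f : ∀ i, Fm z (Qs i) (r i) (a i) (b i)) (i : Fin 3) : b i ∈ Q :=
  h.le i (f i).bW

/-- an element centralising `a₀a₁a₂` permutes the `aᵢ` modulo `Z` -/
theorem perm_a (h : B2 z Q Qs r R) (f : ∀ i, Fm z (Qs i) (r i) (a i) (b i)) {k : G}
    (hk : k ∈ 𝒞[a 0 * a 1 * a 2]) {σ : Equiv.Perm (Fin 3)} (hσ : ∀ i, cj k (Qs i) = Qs (σ i))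
    (i : Fin 3) : k * a i * k⁻¹ * (a (σ i))⁻¹ ∈ zpowers z :=
  comp h (u := fun i => k * a i * k⁻¹) (fun i => hσ i ▸ conj_mem_cj.2 (f i).aW) (fun i => (f i).aW)
    (by
      rw [show k * a 0 * k⁻¹ * (k * a 1 * k⁻¹) * (k * a 2 * k⁻¹) = k * (a 0 * a 1 * a 2) * k⁻¹ by group,
        mem_cent1.1 hk]
      simp) i

theorem fix_a (h : B2 z Q Qs r R) (f : ∀ i, Fm z (Qs i) (r i) (a i) (b i)) {k : G}
    (hk : k ∈ 𝒞[a 0 * a 1 * a 2]) (bk : Ba Qs k) (i : Fin 3) :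
    k * a i * k⁻¹ * (a i)⁻¹ ∈ zpowers z :=
  perm_a h f hk (σ := 1) (fun i => mem_norm_iff_cj.1 (bk i)) i

theorem bt_w (h : B2 z Q Qs r R) (f : ∀ i, Fm z (Qs i) (r i) (a i) (b i)) :
    bt z (b 0 * (b 1)⁻¹) (a 0) = 1 ∧ bt z (b 0 * (b 1)⁻¹) (a 1) = -1 ∧
      bt z (b 0 * (b 1)⁻¹) (a 2) = 0 := by
  have e : ∀ i, bt z (b 0 * (b 1)⁻¹) (a i) = bt z (b 0) (a i) - bt z (b 1) (a i) := fun i => by
    rw [Fa.bt_mul_left h.toE1 (bQ h f 0) (inv_mem (bQ h f 1)) (aQ h f i),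
      Fa.bt_inv_left h.toE1 (bQ h f 1) (aQ h f i), sub_eq_add_neg]
  refine ⟨?_, ?_, ?_⟩
  · rw [e, (h.hp (f 0)).ba, bt_off h (by decide) (f 1).bW (f 0).aW, sub_zero]
  · rw [e, (h.hp (f 1)).ba, bt_off h (by decide) (f 0).bW (f 1).aW, zero_sub]
  · rw [e, bt_off h (by decide) (f 0).bW (f 2).aW, bt_off h (by decide) (f 1).bW (f 2).aW, sub_zero]

theorem yz_le (h : B2 z Q Qs r R) (f : ∀ i, Fm z (Qs i) (r i) (a i) (b i)) :
    closure {a 0 * a 1 * a 2, z} ≤ Q ⊓ 𝒞[b 0 * (b 1)⁻¹] := by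
  have wQ := mul_mem (bQ h f 0) (inv_mem (bQ h f 1))
  have yQ := mul_mem (mul_mem (aQ h f 0) (aQ h f 1)) (aQ h f 2)
  rw [closure_le]
  rintro c (rfl | rfl)
  · refine ⟨yQ, mem_cent1.2 ((Fa.bt_zero h.toE1 wQ yQ).1 ?_).symm⟩
    rw [bt3 h wQ (aQ h f), Fin.sum_univ_three, (bt_w h f).1, (bt_w h f).2.1, (bt_w h f).2.2]
    ring
  · exact ⟨h.zQ, mem_cent1_comm.1 (h.Qc wQ)⟩

theorem a0_not (h : B2 z Q Qs r R) (f : ∀ i, Fm z (Qs i) (r i) (a i) (b i)) :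
    a 0 ∉ closure {a 0 * a 1 * a 2, z} := fun e => by
  have wQ := mul_mem (bQ h f 0) (inv_mem (bQ h f 1))
  have := (Fa.bt_zero h.toE1 wQ (aQ h f 0)).2 (mem_cent1.1 (yz_le h f e).2).symm
  rw [(bt_w h f).1] at this
  exact absurd this (by decide)

theorem aj_not (h : B2 z Q Qs r R) (f : ∀ i, Fm z (Qs i) (r i) (a i) (b i)) {j : Fin 3} (hj : j ≠ 0) :
    a j * (a 0)⁻¹ ∉ closure {a 0 * a 1 * a 2, z} := fun e => by
  have wQ := mul_mem (bQ h f 0) (inv_mem (bQ h f 1))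
  have := (Fa.bt_zero h.toE1 wQ (yz_le h f e).1).2 (mem_cent1.1 (yz_le h f e).2).symm
  rw [Fa.bt_mul_right h.toE1 wQ (aQ h f j) (inv_mem (aQ h f 0)),
    Fa.bt_inv_right h.toE1 wQ (aQ h f 0), (bt_w h f).1] at this
  fin_cases j
  · exact hj rfl
  · rw [show a ((fun i => i) ⟨1, by decide⟩) = a 1 from rfl, (bt_w h f).2.1] at this
    exact absurd this (by decide)
  · rw [show a ((fun i => i) ⟨2, by decide⟩) = a 2 from rfl, (bt_w h f).2.2] at this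
    exact absurd this (by decide)

omit [Finite G] in
theorem aa (h : B2 z Q Qs r R) (f : ∀ i, Fm z (Qs i) (r i) (a i) (b i)) (i j : Fin 3) :
    Commute (a i) (a j) := by
  by_cases e : i = j
  · rw [e]
  · exact le_cent_iff.1 (h.QQ j i (Ne.symm e)) _ (f j).aW _ (f i).aW

omit [Finite G] in
theorem a_y (h : B2 z Q Qs r R) (f : ∀ i, Fm z (Qs i) (r i) (a i) (b i)) (i : Fin 3) :
    a i ∈ 𝒞[a 0 * a 1 * a 2] :=
  mem_cent1.2 (((aa h f i 0).mul_right (aa h f i 1)).mul_right (aa h f i 2))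

end

/-- the frame adapted to a conjugate of `z` in `Q` -/
theorem frame (h : B1 z Q Qs r R) (w : ¬ WC z Q) : ∃ (a b : Fin 3 → G) (g : G),
    (∀ i, Fm z (Qs i) (r i) (a i) (b i)) ∧ g * z * g⁻¹ = a 0 * a 1 * a 2 := by
  unfold WC at w
  push Not at w
  obtain ⟨g, hy, hn⟩ := w
  obtain ⟨u, hu, e⟩ := h.toB2.dec hy
  have nu : ∀ i, u i ∉ zpowers z := fun i hi => by
    refine h.y3 hy hn i ((h.toB2.cent_r hy i).2 ?_)
    have : ∀ j, u j ∈ 𝒞(Qs i) := fun j => by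
      by_cases e : j = i
      · exact mem_centralizer_iff.2 fun q hq => (Z_comm (h.Qc (h.toB2.le i hq)) (e ▸ hi)).symm
      · exact h.QQ j i e (hu j)
    rw [e]; exact mul_mem (mul_mem (this 0) (this 1)) (this 2)
  choose a b f ha using fun i => h.toB2.basis i (hu i) (nu i)
  have aQ := aQ h.toB2 f
  have hc : a 0 * a 1 * a 2 * (g * z * g⁻¹)⁻¹ ∈ zpowers z := by
    rw [e]
    refine Fa.div_mem_Z h.toE1 (mul_mem (mul_mem (aQ 0) (aQ 1)) (aQ 2)) (e ▸ hy) fun q hq => ?_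
    rw [bt3 h.toB2 hq aQ, bt3 h.toB2 hq fun i => h.toB2.le i (hu i)]
    exact Finset.sum_congr rfl fun i _ => Fa.bt_congr_right h.toE1 hq (h.toB2.le i (hu i)) (ha i)
  obtain ⟨m, hm⟩ := mem_powers_iff_mem_zpowers.2 hc
  have bz : Commute (b 0) z := mem_cent1.1 (h.Qc (bQ h.toB2 f 0))
  have b1 : Commute (b 0) (a 1) := le_cent_iff.1 (h.QQ 1 0 (by decide)) _ (f 1).aW _ (f 0).bW
  have b2 : Commute (b 0) (a 2) := le_cent_iff.1 (h.QQ 2 0 (by decide)) _ (f 2).aW _ (f 0).bW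
  have yz : Commute (a 0 * a 1 * a 2) z := mem_cent1.1 (h.Qc (mul_mem (mul_mem (aQ 0) (aQ 1)) (aQ 2)))
  have e1 : b 0 * (a 0 * a 1 * a 2) * (b 0)⁻¹ = z * (a 0 * a 1 * a 2) := by
    calc b 0 * (a 0 * a 1 * a 2) * (b 0)⁻¹ = b 0 * a 0 * (a 1 * a 2 * (b 0)⁻¹) := by group
      _ = b 0 * a 0 * (b 0)⁻¹ * (a 1 * a 2) := by
        rw [← (b1.mul_right b2).inv_left.eq]; group
      _ = _ := by rw [(f 0).ba, mem_cent1.1 (h.Qc (aQ 0))]; group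
  have e2 : ∀ n : ℕ, b 0 ^ n * (a 0 * a 1 * a 2) * (b 0 ^ n)⁻¹ = z ^ n * (a 0 * a 1 * a 2) := by
    intro n
    induction n with
    | zero => simp
    | succ n ih =>
      calc b 0 ^ (n + 1) * (a 0 * a 1 * a 2) * (b 0 ^ (n + 1))⁻¹
          = b 0 * (b 0 ^ n * (a 0 * a 1 * a 2) * (b 0 ^ n)⁻¹) * (b 0)⁻¹ := by group
        _ = (b 0 * z ^ n) * (a 0 * a 1 * a 2) * (b 0)⁻¹ := by rw [ih]; group
        _ = z ^ n * (b 0 * (a 0 * a 1 * a 2) * (b 0)⁻¹) := by rw [(bz.pow_right n).eq]; group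
        _ = _ := by rw [e1]; group
  refine ⟨a, b, b 0 ^ m * g, f, ?_⟩
  have e3 : g * z * g⁻¹ = (z ^ m)⁻¹ * (a 0 * a 1 * a 2) := by
    rw [show z ^ m = _ from hm, mul_inv_rev, inv_inv]; group
  calc b 0 ^ m * g * z * (b 0 ^ m * g)⁻¹ = b 0 ^ m * (g * z * g⁻¹) * (b 0 ^ m)⁻¹ := by group
    _ = b 0 ^ m * (z ^ m)⁻¹ * (a 0 * a 1 * a 2) * (b 0 ^ m)⁻¹ := by rw [e3]; group
    _ = (z ^ m)⁻¹ * (b 0 ^ m * (a 0 * a 1 * a 2) * (b 0 ^ m)⁻¹) := by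
      rw [(bz.pow_pow m m).inv_right.eq]; group
    _ = _ := by rw [e2]; group

end I2a

open I2a in
theorem B1.i2a (h : B1 z Q Qs r R) (w : ¬ WC z Q) : ∃ (a b : Fin 3 → G) (g s x : G),
    (∀ i, Fm z (Qs i) (r i) (a i) (b i)) ∧ g * z * g⁻¹ = a 0 * a 1 * a 2 ∧ s ∈ cj g Q ⊓ 𝒞[z] ∧ Tr Qs s ∧
      x ∈ cj g Q ∧ x ∈ 𝒞[z] ⊓ 𝒞[a 0] ⊓ 𝒞[a 1] ⊓ 𝒞[a 2] ∧ x ∉ Q := by
  obtain ⟨a, b, g, f, hy⟩ := frame h w
  have h2 := h.toB2
  have h' := h.conj g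
  rw [hy] at h'
  set y := a 0 * a 1 * a 2 with hyd
  set Q' := cj g Q with hQ'
  have aQ := aQ h2 f
  have yQ : y ∈ Q := mul_mem (mul_mem (aQ 0) (aQ 1)) (aQ 2)
  have yZ : y ∉ zpowers z := fun e => h2.aZ (f 0) (h2.uniq (fun i => (f i).aW) e 0)
  have zQ' : z ∈ Q' := h.z_mem (hy ▸ yQ)
  have ZQ' : zpowers z ≤ Q' := zpowers_le.2 zQ'
  have zy : ∀ {c : G}, c ∈ zpowers z → c ∈ zpowers y → c = 1 := fun {c} h1 h3 => by
    rcases inf_eq_bot_or_le_of_prime_card (K := zpowers y)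
      (by rw [Nat.card_zpowers, h'.z3]; exact Nat.prime_three) (zpowers z) with e | e
    · exact mem_bot.1 (e ▸ ⟨h3, h1⟩)
    · exact absurd (e (mem_zpowers y)) yZ
  have zY : z ∉ zpowers y := fun e => by
    have := h.z3
    rw [zy (mem_zpowers z) e, orderOf_one] at this; omega
  have cc : ∀ {k c : G}, k ∈ Q' → c ∈ Q' → k * c * k⁻¹ * c⁻¹ ∈ zpowers z → k * c = c * k :=
    fun {k c} hk hc e => by
      have := zy e (h'.comm k hk c hc)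
      rwa [mul_inv_eq_one, mul_inv_eq_iff_eq_mul] at this
  set K := Q' ⊓ 𝒞[z] with hK
  have Kp : IsPGroup 3 K := h'.toE1.isP.to_le inf_le_left
  have Kc : K ≤ 𝒞[z] := inf_le_right
  have K7 : 729 ≤ Nat.card K := by
    have := h'.toE1.card_le_cent le_rfl zQ'
    rw [h'.card, ← hK] at this
    omega
  have Ky : ∀ {k : G}, k ∈ K → k ∈ 𝒞[y] := fun hk => h'.Qc hk.1
  have zyz : zpowers z ≤ closure {y, z} := zpowers_le.2 (subset_closure (by simp))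
  have yyz : zpowers y ≤ closure {y, z} := zpowers_le.2 (subset_closure (by simp))
  obtain ⟨s, hs, sT⟩ : ∃ s ∈ K, Tr Qs s := by
    by_contra hn
    push Not at hn
    have fa : ∀ k ∈ K, k * a 0 * k⁻¹ * (a 0)⁻¹ ∈ zpowers z := fun k hk =>
      fix_a h2 f (Ky hk) ((h2.three hk.2 (k := 1)
        (by rw [pow_one, h'.exp k hk.1]; exact Q.one_mem)).resolve_right (hn k hk)) 0
    have ez : g⁻¹ * y * g⁻¹⁻¹ = z := by rw [← hy]; group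
    have a0 : a 0 ∈ Q' := h'.toB2.lemX zQ'
      (fun i => by have := h'.y3 (g := g⁻¹) (ez ▸ zQ') (ez ▸ zY) i; rwa [ez] at this)
      (a_y h2 f 0) fun q hq => zyz (swapZ (fa q hq))
    exact a0_not h2 f (h'.toE1.perp2 zQ' a0 fun k hk => (cc hk.1 a0 (fa k hk)).symm)
  have h9 := h.idx9 hs.2 sT Kp Kc
  have Uab : K ⊓ Q ≤ 𝒞(K ⊓ Q) := le_cent_iff.2 fun u hu v hv =>
    cc hv.1.1 hu.1.1 (h.comm v hv.2 u hu.2)
  have U81 := h2.ab_le inf_le_right Uab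
  obtain ⟨T0, hT0, c0, b0⟩ := h2.exists_ba Kp Kc
  have hn : ¬ T0 ≤ Q := fun hle => by
    have := card_le_of_le (le_inf hT0 hle); omega
  obtain ⟨x0, hx0, x0Q⟩ := SetLike.not_le_iff_exists.1 hn
  obtain ⟨σ, hσ⟩ := h2.perm hs.2
  have nf : ∀ i, σ i ≠ i := fun i e => sT i (mem_norm_iff_cj.2 (by rw [hσ, e]))
  have sa := perm_a h2 f (Ky hs) hσ
  have sQ' : ∀ i, s * a i * s⁻¹ * (a i)⁻¹ ∈ Q' := fun i => by
    have := Q'.mul_mem hs.1 (Fa.conjQ h'.toE1 (a_y h2 f i) (Q'.inv_mem hs.1))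
    convert this using 1; group
  have d1 : ∀ i, a (σ i) * (a i)⁻¹ ∈ Q' := fun i => by
    have := mul_mem (inv_mem (ZQ' (sa i))) (sQ' i)
    convert this using 1; group
  have d : ∀ j, a j * (a 0)⁻¹ ∈ Q' := fun j => by
    rcases I2b.cyc3 σ nf 0 j with e | e | e
    · rw [e, mul_inv_cancel]; exact one_mem _
    · rw [e]; exact d1 0
    · have := inv_mem (d1 j)
      rwa [e, mul_inv_rev, inv_inv] at this
  have fin : ∀ k ∈ K, (∀ i, k * a i * k⁻¹ * (a i)⁻¹ ∈ zpowers z) → k ∈ 𝒞[a 0] →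
      k ∈ 𝒞[z] ⊓ 𝒞[a 0] ⊓ 𝒞[a 1] ⊓ 𝒞[a 2] := fun k hk ha h0 => by
    have m : ∀ i, a i ∈ Fz z k := fun i => ⟨h.Qc (aQ i), ha i⟩
    have c : ∀ j, k ∈ 𝒞[a j] := fun j => by
      have c1 : Commute k (a j * (a 0)⁻¹) :=
        cc hk.1 (d j) (mul_mem (m j) (inv_mem (m 0))).2
      have := c1.mul_right (mem_cent1.1 h0)
      rw [inv_mul_cancel_right] at this
      exact mem_cent1.2 this
    exact ⟨⟨⟨hk.2, h0⟩, c 1⟩, c 2⟩
  obtain ⟨u, hu, u0⟩ : ∃ u ∈ K ⊓ Q, u ∉ 𝒞[a 0] := by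
    by_contra hn
    push Not at hn
    have hle : K ⊓ Q ≤ Q ⊓ 𝒞[a 0] ⊓ 𝒞[a 1] ⊓ 𝒞[a 2] := fun u hu => by
      have := fin u hu.1 (fun i => h.comm u hu.2 _ (aQ i)) (hn u hu)
      exact ⟨⟨⟨hu.2, this.1.1.2⟩, this.1.2⟩, this.2⟩
    have e := eq_of_le_of_card_eq hle (by rw [h2.card_A f]; omega)
    have a0 : a 0 ∈ K ⊓ Q := e ▸ (h2.mem_A f).2 ⟨0, 1, 0, 0, by simp⟩
    refine aj_not h2 f (nf 0) ?_
    have := mul_mem (inv_mem (zyz (sa 0))) (yyz (h'.comm s hs.1 _ a0.1.1))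
    convert this using 1; group
  have fx := fix_a h2 f (Ky (hT0 hx0)) (b0 x0 hx0)
  have fu : ∀ i, u * a i * u⁻¹ * (a i)⁻¹ ∈ zpowers z := fun i => h.comm u hu.2 _ (aQ i)
  set c := u * a 0 * u⁻¹ * (a 0)⁻¹ with hc
  have c1 : c ≠ 1 := fun e => u0 (mem_cent1.2 (by
    rwa [hc, mul_inv_eq_one, mul_inv_eq_iff_eq_mul] at e))
  have Zc : zpowers z ≤ zpowers c := by
    rcases inf_eq_bot_or_le_of_prime_card (K := zpowers z)
      (by rw [Nat.card_zpowers, h.z3]; exact Nat.prime_three) (zpowers c) with e | e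
    · exact absurd (mem_bot.1 (e ▸ ⟨fu 0, mem_zpowers c⟩)) c1
    · exact e
  obtain ⟨m, hm⟩ := mem_powers_iff_mem_zpowers.2 (Zc (inv_mem (fx 0)))
  have e2 : ∀ n : ℕ, u ^ n * a 0 * (u ^ n)⁻¹ = c ^ n * a 0 := by
    intro n
    induction n with
    | zero => simp
    | succ n ih =>
      calc u ^ (n + 1) * a 0 * (u ^ (n + 1))⁻¹ = u * (u ^ n * a 0 * (u ^ n)⁻¹) * u⁻¹ := by group
        _ = (u * c ^ n * u⁻¹) * (c * a 0) := by rw [ih, hc]; group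
        _ = _ := by rw [Z_conj hu.1.2 (pow_mem (fu 0) n), pow_succ, mul_assoc (c ^ n)]
  have xK : x0 * u ^ m ∈ K := mul_mem (hT0 hx0) (pow_mem hu.1 m)
  refine ⟨a, b, g, s, x0 * u ^ m, f, hy, hs, sT, xK.1, fin _ xK (fun i => ?_) (mem_cent1.2 ?_),
    fun e => x0Q ((Q.mul_mem_cancel_right (pow_mem hu.2 m)).1 e)⟩
  · have m1 : x0 ∈ Fz z (a i) := ⟨(hT0 hx0).2, swapZ (fx i)⟩
    have m2 : u ∈ Fz z (a i) := ⟨hu.1.2, swapZ (fu i)⟩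
    exact swapZ (mul_mem m1 (pow_mem m2 m)).2
  · rw [← mul_inv_eq_iff_eq_mul]
    calc x0 * u ^ m * a 0 * (x0 * u ^ m)⁻¹ = x0 * (u ^ m * a 0 * (u ^ m)⁻¹) * x0⁻¹ := by group
      _ = (x0 * c ^ m * x0⁻¹) * (x0 * a 0 * x0⁻¹ * (a 0)⁻¹) * a 0 := by rw [e2]; group
      _ = a 0 := by
        rw [Z_conj (hT0 hx0).2 (pow_mem (fu 0) m), show c ^ m = _ from hm]; group

end Cfsg.Agent.F3
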