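import Cfsg.Agent.F3.P
import Cfsg.Agent.T3.Fr0

/-! Project F3, part IIb: a conjugate of `z` in the base group is trivial on no factor. -/

set_option autoImplicit false

namespace Cfsg.Agent.F3

open Subgroup H49 T3.Fr2

variable {G : Type*} [Group G] [Finite G] {z : G} {Q R : Subgroup G} {Qs : Fin 3 → Subgroup G}
  {r : Fin 3 → G}

namespace IIb

/-- the elements of `C(z)` fixed by `g` modulo `⟨z⟩` -/
def Fx (z g : G) : Subgroup G where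
  carrier := {q | q ∈ 𝒞[z] ∧ g * q * g⁻¹ * q⁻¹ ∈ zpowers z}
  one_mem' := ⟨one_mem _, by simp⟩
  mul_mem' := fun {p q} a b => ⟨mul_mem a.1 b.1, by
    rw [show g * (p * q) * g⁻¹ * (p * q)⁻¹ = (g * p * g⁻¹ * p⁻¹) * (p * (g * q * g⁻¹ * q⁻¹) * p⁻¹) by
      group, Z_conj a.1 b.2]
    exact mul_mem a.2 b.2⟩
  inv_mem' := fun {q} a => ⟨inv_mem a.1, by
    rw [show g * q⁻¹ * g⁻¹ * q⁻¹⁻¹ = q⁻¹ * (g * q * g⁻¹ * q⁻¹)⁻¹ * q⁻¹⁻¹ by group,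
      Z_conj (inv_mem a.1) (inv_mem a.2)]
    exact inv_mem a.2⟩

theorem relabel (h : B1 z Q Qs r R) (σ : Equiv.Perm (Fin 3)) : B1 z Q (Qs ∘ σ) (r ∘ σ) R where
  toE1 := h.toE1
  card := h.card
  zs i := h.zs _
  cards i := h.cards _
  sup := le_antisymm (sup_le (sup_le (h.toB2.le _) (h.toB2.le _)) (h.toB2.le _)) (by
    have k : ∀ i, Qs i ≤ (Qs ∘ σ) 0 ⊔ (Qs ∘ σ) 1 ⊔ (Qs ∘ σ) 2 := fun i => by
      obtain ⟨j, rfl⟩ := σ.surjective i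
      fin_cases j
      exacts [le_sup_left.trans le_sup_left, le_sup_right.trans le_sup_left, le_sup_right]
    rw [← h.sup]
    exact sup_le (sup_le (k 0) (k 1)) (k 2))
  QQ i j n := h.QQ _ _ (σ.injective.ne n)
  rr i := h.rr _
  rR i := h.rR _
  inv i := h.inv _
  rc i j n := h.rc _ _ (σ.injective.ne n)
  R2 := h.R2
  Rc := h.Rc
  RN i := h.RN _
  nR := h.nR
  cardR := h.cardR

omit [Finite G] in
theorem ncomm (h : E1 z Q) {W : Subgroup G} {ρ a b : G} (f : Fm z W ρ a b) : a * b ≠ b * a :=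
  fun e => by
    have := f.ba
    rw [← e, mul_inv_cancel_right, left_eq_mul] at this
    have h3 := h.z3
    rw [this, orderOf_one] at h3
    omega

omit [Finite G] in
theorem cent_fm {W : Subgroup G} {ρ a b q : G} (f : Fm z W ρ a b) (h0 : q ∈ 𝒞[z]) (h1 : q ∈ 𝒞[a])
    (h2 : q ∈ 𝒞[b]) : q ∈ 𝒞(W) := le_cent1_iff.1 fun u hu => by
  obtain ⟨i, j, k, rfl⟩ := f.nf u hu
  exact mul_mem (mul_mem (pow_mem (mem_cent1_comm.1 h0) _) (pow_mem (mem_cent1_comm.1 h1) _))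
    (pow_mem (mem_cent1_comm.1 h2) _)

theorem two_tv (h : B2 z Q Qs r R) {y : G} (hy : y ∈ 𝒞[z]) (hC : Nat.card ↥(Q ⊓ 𝒞[y]) ≤ 81)
    {i j k : Fin 3} (hj : j ≠ i) (hk : k ≠ i) (hjk : j ≠ k) {a b : G} (f : Fm z (Qs i) (r i) a b)
    (ha : y * a * y⁻¹ * a⁻¹ ∈ zpowers z) (tj : Tv z (Qs j) y) (tk : Tv z (Qs k) y) : False := by
  have h1 := card_sup_mul_card_inf (.inl (norm_of_cent (h.QQ j k hjk)))
  have h2 : Nat.card ↥(Qs j ⊓ Qs k) ≤ 3 := by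
    rw [← h.z3, ← Nat.card_zpowers]; exact card_le_of_le (h.inter hjk)
  rw [h.cards, h.cards] at h1
  have h3 : Qs j ⊔ Qs k < Q ⊓ Fx z y := lt_of_le_of_ne
    (sup_le (fun q hq => ⟨h.le j hq, h.Qc (h.le j hq), tj q hq⟩)
      fun q hq => ⟨h.le k hq, h.Qc (h.le k hq), tk q hq⟩) fun e =>
    ncomm h.toE1 f (sup_le (h.QQ j i hj) (h.QQ k i hk)
      (e.ge ⟨h.le i f.aW, h.Qc (h.le i f.aW), ha⟩) b f.bW).symm
  have h4 : Nat.card ↥(Qs j ⊔ Qs k) < Nat.card ↥(Q ⊓ Fx z y) :=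
    lt_of_le_of_ne (card_le_of_le h3.le) fun e => h3.ne (eq_of_le_of_card_eq h3.le e)
  have h5 := h.toE1.card_le_tv (X := Q ⊓ Fx z y) inf_le_left hy fun q hq => hq.2.2
  have h6 : Nat.card ↥(Q ⊓ Fx z y ⊓ 𝒞[y]) ≤ Nat.card ↥(Q ⊓ 𝒞[y]) :=
    card_le_of_le (inf_le_inf_right _ inf_le_left)
  nlinarith

theorem main (h1 : B1 z Q Qs r R) (w : WC z Q) {g : G} (hy : g * z * g⁻¹ ∈ 𝒞[z])
    (hn : g * z * g⁻¹ ∉ zpowers z) (t : Ba Qs (g * z * g⁻¹))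
    (tv : Tv z (Qs 2) (g * z * g⁻¹)) : False := by
  have h := h1.toB2
  have e1 := h.toE1
  have ab := h1.cab w hn
  have p1 := fun {u k} => h.p1 w hn (u := u) (k := k)
  have i27 := (h1.conj g).idx27 (T := Q ⊓ 𝒞[g * z * g⁻¹]) (e1.isP.to_le inf_le_left) inf_le_right
  have y3 : (g * z * g⁻¹) ^ 3 = 1 := by rw [conj_pow, Fa.z3' e1]; simp
  generalize g * z * g⁻¹ = y at *
  have hC := h.ab_le inf_le_left ab
  have zy : zpowers z ≤ 𝒞[y] := zpowers_le.2 (mem_cent1_comm.1 hy)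
  obtain ⟨a, b, f, ha, a2⟩ : ∃ a b : Fin 3 → G, (∀ i, Fm z (Qs i) (r i) (a i) (b i)) ∧
      (∀ i, y * a i * y⁻¹ * (a i)⁻¹ ∈ zpowers z) ∧ a 2 ∈ 𝒞[y] := by
    have : ∀ i, ∃ a b, Fm z (Qs i) (r i) a b ∧ y * a * y⁻¹ * a⁻¹ ∈ zpowers z ∧
        (i = 2 → a ∈ 𝒞[y]) := fun i => by
      by_cases hi : i = 2
      · subst hi
        obtain ⟨u, hu, hz⟩ : ∃ u ∈ Qs 2 ⊓ 𝒞[y], u ∉ zpowers z := by
          by_contra k
          push Not at k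
          have k1 := e1.card_le_tv (h.le 2) hy tv
          have k2 := card_le_of_le (show Qs 2 ⊓ 𝒞[y] ≤ zpowers z from k)
          rw [Nat.card_zpowers, h.z3] at k2
          rw [h.cards] at k1
          omega
        obtain ⟨a, b, f, e⟩ := h.basis 2 hu.1 hz
        exact ⟨a, b, f, tv a f.aW, fun _ => by simpa using mul_mem (zy e) hu.2⟩
      · obtain ⟨a, b, f, e⟩ := h.fixl ⟨hy, t i⟩ (y3 ▸ one_mem _)
        exact ⟨a, b, f, e, fun k => (hi k).elim⟩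
    choose a b f ha a2 using this
    exact ⟨a, b, f, ha, a2 2 rfl⟩
  have n0 : ¬ Tv z (Qs 0) y := fun k =>
    two_tv h hy hC (by decide) (by decide) (by decide) (f 1) (ha 1) k tv
  have n1 : ¬ Tv z (Qs 1) y := fun k =>
    two_tv h hy hC (by decide) (by decide) (by decide) (f 0) (ha 0) k tv
  obtain ⟨-, -, c1, c2⟩ := h.comm_A f hy ha
  have cA := h.card_A f
  have aA : ∀ i, a i ∈ Q ⊓ 𝒞[a 0] ⊓ 𝒞[a 1] ⊓ 𝒞[a 2] := fun i => (h.mem_A f).2 (by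
    fin_cases i
    exacts [⟨0, 1, 0, 0, by simp⟩, ⟨0, 0, 1, 0, by simp⟩, ⟨0, 0, 0, 1, by simp⟩])
  set A0 := Q ⊓ 𝒞[a 0] ⊓ 𝒞[a 1] ⊓ 𝒞[a 2] with hA0
  have f2 := f 2
  have aQ := h.le 2 f2.aW
  have bQ := h.le 2 f2.bW
  have cA' : Nat.card ↥(A0 ⊓ 𝒞(Qs 2)) ≤ 27 := by
    have k1 : Nat.card ↥(A0 ⊓ 𝒞(Qs 2)) ∣ 3 ^ 4 := (card_dvd_of_le inf_le_left).trans (by rw [cA]; norm_num)
    obtain ⟨k, k2, k3⟩ := (Nat.dvd_prime_pow Nat.prime_three).1 k1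
    have : k ≠ 4 := by
      rintro rfl
      exact ncomm e1 f2 (((eq_of_le_of_card_eq inf_le_left (k3.trans cA.symm)).ge (aA 2)).2 _
        f2.bW).symm
    rw [k3]
    exact Nat.pow_le_pow_right (by norm_num) (show k ≤ 3 by omega)
  obtain ⟨k1, k2⟩ := T3.conj_count (Q := Q) (A := A0 ⊓ 𝒞(Qs 2)) (y := y) fun q hq =>
    ⟨c1 q hq, by
      rw [show q * y * q⁻¹ * y⁻¹ = (y * q * y⁻¹ * q⁻¹)⁻¹ by group]
      exact (𝒞(Qs 2)).inv_mem fun u hu => ((Fa.bt_zero e1 (mul_mem (Fa.conjQ e1 hy hq) (inv_mem hq))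
        (h.le 2 hu)).1 (Fa.bt_dis e1 hy hq (h.le 2 hu)
          ((Fa.sc_one e1 hy (h.le 2 hu)).2 (tv u hu)))).symm⟩
  rw [h.card] at k1 k2
  have k3 := k2 (by nlinarith)
  have k4 : 81 ≤ Nat.card ↥(Q ⊓ 𝒞[y]) := by nlinarith
  have eC : Q ⊓ 𝒞[y] = A0 := eq_of_le_of_card_eq (fun q hq => by
    have : y * q * y⁻¹ * q⁻¹ ∈ zpowers z := by rw [← mem_cent1.1 hq.2]; simp
    exact ⟨⟨⟨hq.1, c2 q hq.1 this 0 n0⟩, c2 q hq.1 this 1 n1⟩,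
      mem_cent1.2 (ab hq _ ⟨aQ, a2⟩).symm⟩) (by omega)
  have ay : ∀ i, a i ∈ 𝒞[y] := fun i => (eC.ge (aA i)).2
  have rz := h.rz 2
  have r2 := h.rr 2
  have ri : (r 2)⁻¹ = r 2 := inv_eq_of_mul_eq_one_right r2
  have qQ := h.inv_comm rz (h.rB 2) (r2 ▸ one_mem _) hy t
  have ar : ∀ i, a i ∈ 𝒞[r 2 * y * (r 2)⁻¹ * y⁻¹] := fun i => by
    have k : (r 2)⁻¹ * a i * r 2 ∈ 𝒞[y] := by
      by_cases hi : i = 2
      · subst hi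
        have := f2.ρa
        rw [ri] at this ⊢
        exact this ▸ inv_mem a2
      · rw [mul_assoc, h.rc 2 i (Ne.symm hi) _ (f i).aW, inv_mul_cancel_left]
        exact ay i
    refine mem_cent1_comm.1 (mul_mem (mem_cent1_comm.1 ?_) (inv_mem (mem_cent1_comm.1 (ay i))))
    rw [← cj_cent1]
    exact mem_cj.2 k
  have qA : r 2 * y * (r 2)⁻¹ * y⁻¹ ∈ A0 := ⟨⟨⟨qQ, mem_cent1_comm.1 (ar 0)⟩,
    mem_cent1_comm.1 (ar 1)⟩, mem_cent1_comm.1 (ar 2)⟩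
  have qi : r 2 * (r 2 * y * (r 2)⁻¹ * y⁻¹) * (r 2)⁻¹ = (r 2 * y * (r 2)⁻¹ * y⁻¹)⁻¹ := by
    calc _ = (r 2 * r 2) * y * (r 2)⁻¹ * y⁻¹ * (r 2)⁻¹ := by group
      _ = y * (r 2)⁻¹ * y⁻¹ * (r 2)⁻¹ := by rw [r2, one_mul]
      _ = y * r 2 * y⁻¹ * (r 2)⁻¹ := by rw [ri]
      _ = _ := by group
  have ey : r 2 * y * (r 2)⁻¹ = r 2 * y * (r 2)⁻¹ * y⁻¹ * y := by group
  generalize r 2 * y * (r 2)⁻¹ * y⁻¹ = q at qQ qA qi ey ar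
  have mA : ∀ u ∈ A0, bt z (b 2) u = 0 → u ∈ A0 ⊓ 𝒞(Qs 2) := fun u hu e =>
    ⟨hu, cent_fm f2 (h.Qc hu.1.1.1) hu.2 (mem_cent1.2 ((Fa.bt_zero e1 bQ hu.1.1.1).1 e).symm)⟩
  have q0 : bt z (b 2) q ≠ 0 := fun e => by
    have k5 := (h.cent_r qQ 2).2 (mA q qA e).2
    rw [← k5.eq, mul_inv_cancel_right] at qi
    have k6 : q = 1 := by
      have := h.exp q qQ
      rw [pow_succ, pow_two] at this
      nth_rewrite 1 [qi] at this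
      simpa using this
    rw [k6, one_mul] at ey
    have hc := tv _ f2.bW
    have k7 : y * b 2 * y⁻¹ * (b 2)⁻¹ = y * (b 2)⁻¹ * y⁻¹ * (b 2)⁻¹⁻¹ := by
      calc _ = _ := (Z_conj rz hc).symm
        _ = (r 2 * y * (r 2)⁻¹) * (r 2 * b 2 * (r 2)⁻¹) * (r 2 * y * (r 2)⁻¹)⁻¹ *
            (r 2 * b 2 * (r 2)⁻¹)⁻¹ := by group
        _ = _ := by rw [ey, f2.ρb]
    have k8 : y * b 2 * y⁻¹ * (b 2)⁻¹ = 1 := Fa.Z_sq e1 hc (by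
      calc _ = ((b 2)⁻¹ * (y * b 2 * y⁻¹ * (b 2)⁻¹) * (b 2)⁻¹⁻¹) *
            (y * (b 2)⁻¹ * y⁻¹ * (b 2)⁻¹⁻¹) := by rw [Z_conj (inv_mem (h.Qc bQ)) hc, ← k7]
        _ = 1 := by group)
    rw [mul_inv_eq_one, mul_inv_eq_iff_eq_mul] at k8
    exact ncomm e1 f2 (ab ⟨bQ, mem_cent1.2 k8.symm⟩ _ ⟨aQ, a2⟩)
  have fin : ∀ u ∈ A0, u ∈ cj g Q → bt z (b 2) u = 0 ∨ bt z (b 2) u = bt z (b 2) q → u = 1 := by
    intro u hu hu' e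
    have uy := mem_cent1.1 (eC.ge hu).2
    rcases e with e | e
    · obtain ⟨k, -, e⟩ := k3 u (mA u hu e)
      exact p1 hu.1.1.1 hu' (e.trans uy)
    · have k5 := mA _ (mul_mem hu (inv_mem qA)) (by
        rw [Fa.bt_mul_right e1 bQ hu.1.1.1 (inv_mem qQ), Fa.bt_inv_right e1 bQ qQ, e,
          add_neg_cancel])
      obtain ⟨k, -, e⟩ := k3 _ k5
      have k6 := (h.cent_r k5.1.1.1.1 2).2 k5.2
      refine p1 (k := r 2 * k) hu.1.1.1 hu' ?_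
      calc _ = r 2 * (k * y * k⁻¹) * (r 2)⁻¹ := by group
        _ = (r 2 * (u * q⁻¹)) * (r 2)⁻¹ * (r 2 * y * (r 2)⁻¹) := by rw [e]; group
        _ = _ := by rw [← k6.eq, ey, ← uy]; group
  obtain ⟨u, hu, u1⟩ : ∃ u ∈ Q ⊓ 𝒞[y] ⊓ cj g Q, u ≠ 1 := ne_bot_iff_exists.1 fun e => by
    rw [e, card_bot] at i27
    omega
  have uA := eC.le hu.1
  have tri : ∀ s t : ZMod 3, t ≠ 0 → (s = 0 ∨ s = t) ∨ -s = t := by decide
  rcases tri (bt z (b 2) u) _ q0 with e | e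
  · exact u1 (fin u uA hu.2 e)
  · exact u1 (inv_eq_one.1 (fin u⁻¹ (inv_mem uA) (inv_mem hu.2) (.inr (by
      rw [Fa.bt_inv_right e1 bQ hu.1.1, e]))))

end IIb

theorem B1.iib (h : B1 z Q Qs r R) (w : WC z Q) {g : G} (hy : g * z * g⁻¹ ∈ 𝒞[z])
    (hn : g * z * g⁻¹ ∉ zpowers z) (t : Ba Qs (g * z * g⁻¹)) {i : Fin 3}
    (tv : Tv z (Qs i) (g * z * g⁻¹)) : False :=
  IIb.main (IIb.relabel h (Equiv.swap i 2)) w hy hn (fun _ => t _) (by simpa using tv)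

end Cfsg.Agent.F3
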