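import Cfsg.Agent.F3.W2

/-! Common lemmas for `F3/Quo` and `F3/Top`. -/

set_option autoImplicit false

namespace Cfsg.Agent.F3

open Subgroup H49 T3.Fr2 MC3

/-- the quaternion subgroup of `SL₂(3)` -/
def qaE : Subgroup S2 where
  carrier := {A | A ^ 4 = 1}
  one_mem' := one_pow 4
  mul_mem' := fun {A B} => by simp only [Set.mem_setOf_eq]; revert A B; decide +kernel
  inv_mem' := fun {A} h => by rw [Set.mem_setOf_eq, inv_pow, h, inv_one]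

theorem qa_cardE : Nat.card qaE = 8 := S2.card4

variable {G : Type*} [Group G] [Finite G] {z : G} {Q R : Subgroup G} {Qs : Fin 3 → Subgroup G}
  {r a b : Fin 3 → G} {x s : G}

/-- the elements of `C(z)` normalising all factors -/
def qaB (z : G) (Qs : Fin 3 → Subgroup G) : Subgroup G := 𝒞[z] ⊓ ⨅ i, 𝒩(Qs i)

omit [Finite G] in
theorem qa_memB {g : G} : g ∈ qaB z Qs ↔ g ∈ 𝒞[z] ∧ Ba Qs g := by rw [qaB, mem_inf, mem_iInf]; rfl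

omit [Finite G] in
theorem qa_le (i : Fin 3) : qaB z Qs ≤ 𝒞[z] ⊓ 𝒩(Qs i) := inf_le_inf_left _ (iInf_le _ i)

omit [Finite G] in
theorem B1.qa_R (h : B1 z Q Qs r R) : R ≤ qaB z Qs := le_inf h.Rc (le_iInf h.RN)

theorem B1.qa_Q (h : B1 z Q Qs r R) : Q ≤ qaB z Qs := le_inf h.Qc (le_iInf h.QN)

theorem B1.qa_ph (h : B1 z Q Qs r R) (f : ∀ i, Fm z (Qs i) (r i) (a i) (b i)) (i : Fin 3) :
    PH (qaB z Qs) (mat z (a i) (b i)) := (h.hp (f i)).ph.mono (qa_le i)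

theorem B1.qa_tv (h : B1 z Q Qs r R) (f : ∀ i, Fm z (Qs i) (r i) (a i) (b i)) {g : G} (hg : g ∈ qaB z Qs)
    (i : Fin 3) : Tv z (Qs i) g ↔ mat z (a i) (b i) g = 1 := h.tv_iff (f i) (qa_le i hg)

omit [Finite G] in
theorem qa_tvc {W : Subgroup G} {g : G} (hg : g ∈ 𝒞(W)) : Tv z W g := fun q hq => by
  rw [← hg q hq, mul_inv_cancel_right, mul_inv_cancel]; exact one_mem _

theorem B1.qa_c (h : B1 z Q Qs r R) (f : ∀ i, Fm z (Qs i) (r i) (a i) (b i)) {g : G} {i : Fin 3}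
    (hg : g ∈ 𝒞(Qs i)) : mat z (a i) (b i) g = 1 :=
  (h.hp (f i)).mat_one (qa_tvc hg _ (f i).aW) (qa_tvc hg _ (f i).bW)

theorem B1.qa_r (h : B1 z Q Qs r R) (f : ∀ i, Fm z (Qs i) (r i) (a i) (b i)) (i : Fin 3) :
    mat z (a i) (b i) (r i) = S2.nI := (h.hp (f i)).mat_neg (h.inv i _ (f i).aW) (h.inv i _ (f i).bW)

theorem B1.qa_ker (h : B1 z Q Qs r R) (f : ∀ i, Fm z (Qs i) (r i) (a i) (b i)) {g : G} (hg : g ∈ qaB z Qs)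
    (e : ∀ i, mat z (a i) (b i) g = 1) : g ∈ Q := h.ker hg.1 fun i => (h.qa_tv f hg i).2 (e i)

theorem B1.qa_n0 (h : B1 z Q Qs r R) {g : G} (hg : g ∈ 𝒞[z]) {i : Fin 3} (hr : g ∈ 𝒞[r i]) : g ∈ 𝒩(Qs i) := by
  obtain ⟨σ, hσ⟩ := h.perm hg
  obtain ⟨a, b, f⟩ := h.exists_fm
  by_cases e : σ i = i
  · rw [mem_norm_iff_cj, hσ, e]
  refine absurd ?_ (h.aZ (f i))
  have k1 := h.rc i _ (Ne.symm e) _ (hσ i ▸ conj_mem_cj.2 (f i).aW)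
  have k2 : r i * a i * (r i)⁻¹ = a i := by
    rw [mul_inv_eq_iff_eq_mul, ← mul_right_inj g, ← mul_left_inj g⁻¹]
    calc _ = g * r i * g⁻¹ * (g * a i * g⁻¹) := by group
      _ = g * a i * g⁻¹ * (g * r i * g⁻¹) := by rw [mem_cent1.1 hr, mul_inv_cancel_right, k1]
      _ = _ := by group
  have k3 := h.exp _ (h.le i (f i).aW)
  rw [pow_three, mul_eq_one_iff_eq_inv.2 (k2.symm.trans (f i).ρa), mul_one] at k3
  rw [k3]; exact one_mem _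

theorem B1.qa_rconj (h : B1 z Q Qs r R) {g : G} (hg : g ∈ 𝒞[z]) {i j : Fin 3} (e : cj g (Qs i) = Qs j) :
    g * r i * g⁻¹ * r j ∈ Q := by
  obtain ⟨σ, hσ⟩ := h.perm hg
  have h' := h.conj g
  rw [mem_cent1.1 hg, mul_inv_cancel_right] at h'
  refine h.as_r (h'.rz i) (e ▸ h'.inv i) fun k hk => qa_tvc ?_
  obtain ⟨l, rfl⟩ := σ.surjective k
  rw [← hσ]
  refine h'.rc i l fun m => hk ?_
  by_contra n
  obtain ⟨a, b, f⟩ := h.exists_fm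
  exact h.aZ (f j) (h.inter n ⟨by rw [← hσ, ← m, e]; exact (f j).aW, (f j).aW⟩)

theorem BX.qa_x (h : BX z Q Qs r R x s) : x ∈ qaB z Qs := qa_memB.2 ⟨h.xz, h.xB⟩

theorem BX.qa_X (h : BX z Q Qs r R x s) (f : ∀ i, Fm z (Qs i) (r i) (a i) (b i)) (i : Fin 3) :
    mat z (a i) (b i) x ^ 3 = 1 ∧ mat z (a i) (b i) x ≠ 1 :=
  ⟨by rw [← (h.qa_ph f i).pow h.qa_x, h.x3, (h.qa_ph f i).one], fun e =>
    h.xQ (h.wt h.sz h.sT h.xz h.xB (h.x3 ▸ one_mem _) ((h.qa_tv f h.qa_x i).2 e))⟩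

theorem BX.qa_four (h : BX z Q Qs r R x s) (f : ∀ i, Fm z (Qs i) (r i) (a i) (b i)) {g : G} (hg : g ∈ qaB z Qs)
    {i : Fin 3} (e : mat z (a i) (b i) g ^ 4 = 1) : g ^ 4 ∈ Q := by
  have m := pow_mem hg 4
  refine h.wt h.sz h.sT m.1 (qa_memB.1 m).2 (h.qa_ker f (pow_mem m 3) fun j => ?_)
    ((h.qa_tv f m i).2 (by rw [(h.qa_ph f i).pow hg, e]))
  rw [← pow_mul, (h.qa_ph f j).pow hg, S2.pow12]

theorem BX.qa_n2 (h : BX z Q Qs r R x s) {g : G} (hg : g ∈ qaB z Qs) {i : Fin 3}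
    (tv : ∀ j, j ≠ i → Tv z (Qs j) g) : g ∈ Q ∨ g * r i ∈ Q :=
  h.n2 h.sz h.sT h.xz h.xB (h.x3 ▸ one_mem _) h.xQ hg.1 (qa_memB.1 hg).2 tv

theorem BX.qa_kerR (h : BX z Q Qs r R x s) {ρ : G} (hρ : ρ ∈ R) {i : Fin 3}
    (tv : ∀ j, j ≠ i → Tv z (Qs j) ρ) : ρ = 1 ∨ ρ = r i :=
  (h.qa_n2 (h.qa_R hρ) tv).imp (fun k => mem_bot.1 (h.QR ▸ mem_inf.2 ⟨k, hρ⟩)) fun k => by
    have : ρ * r i = 1 := mem_bot.1 (h.QR ▸ mem_inf.2 ⟨k, mul_mem hρ (h.rR i)⟩)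
    exact mul_right_cancel (this.trans (h.rr i).symm)

theorem qa_third : ∀ i j k l : Fin 3, i ≠ j → i ≠ k → j ≠ k → l ≠ i → l = j ∨ l = k := by decide

theorem BX.qa_kerK (h : BX z Q Qs r R x s) (f : ∀ i, Fm z (Qs i) (r i) (a i) (b i)) {i j k : Fin 3} (ij : i ≠ j)
    (ik : i ≠ k) (jk : j ≠ k) {ρ : G} (hρ : ρ ∈ R ⊓ 𝒞(Qs k)) (e : mat z (a j) (b j) ρ = 1) : ρ = 1 ∨ ρ = r i :=
  h.qa_kerR hρ.1 fun l hl => by
    rcases qa_third i j k l ij ik jk hl with rfl | rfl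
    exacts [(h.qa_tv f (h.qa_R hρ.1) _).2 e, qa_tvc hρ.2]

theorem BX.qa_K (h : BX z Q Qs r R x s) (f : ∀ i, Fm z (Qs i) (r i) (a i) (b i)) {i j k : Fin 3} (ij : i ≠ j)
    (ik : i ≠ k) (jk : j ≠ k) : Nat.card ↥(R ⊓ 𝒞(Qs k)) = 16 ∧
      ∀ A : S2, A ^ 4 = 1 → ∃ u ∈ R ⊓ 𝒞(Qs k), mat z (a j) (b j) u = A := by
  have key : ∀ (l : Fin 3) {X : Subgroup G} (hX : X ≤ R), ((h.qa_ph f l).mono (hX.trans h.qa_R)).im ≤ qaE :=
    fun l X hX A hA => by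
      obtain ⟨m, hm, rfl⟩ := (PH.mem_im _).1 hA
      show _ ^ 4 = 1
      rw [← (h.qa_ph f l).pow (h.qa_R (hX hm)), h.R4 (hX hm), (h.qa_ph f l).one]
  have c1 := ((h.qa_ph f k).mono (le_rfl.trans h.qa_R)).card (J := 𝒞(Qs k)) fun m hm =>
    ⟨fun e => h.cent_of_tv hm ((h.qa_tv f (h.qa_R hm) k).2 e), h.qa_c f⟩
  have c2 := ((h.qa_ph f j).mono ((inf_le_left : R ⊓ 𝒞(Qs k) ≤ R).trans h.qa_R)).card (J := zpowers (r i))
    fun m hm => ⟨fun e => by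
      rcases h.qa_kerK f ij ik jk hm e with rfl | rfl
      exacts [one_mem _, mem_zpowers _], fun e => h.qa_c f (zpowers_le.2 (h.rc i j ij) e)⟩
  have c3 := card_le_of_le (key k le_rfl)
  have c4 := card_le_of_le (key j (inf_le_left : R ⊓ 𝒞(Qs k) ≤ R))
  have c5 : Nat.card ↥(zpowers (r i) ⊓ (R ⊓ 𝒞(Qs k))) ≤ 2 := (card_le_of_le inf_le_left).trans (by
    rw [Nat.card_zpowers]
    exact orderOf_le_of_pow_eq_one two_pos ((pow_two _).trans (h.rr i)))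
  rw [h.cardR, inf_comm] at c1
  rw [qa_cardE] at c3 c4
  have c6 : 16 ≤ Nat.card ↥(R ⊓ 𝒞(Qs k)) := by nlinarith
  refine ⟨by nlinarith, fun A hA => (PH.mem_im _).1 ((eq_of_le_of_card_ge (key j inf_le_left) ?_).ge hA)⟩
  rw [qa_cardE]
  nlinarith

end Cfsg.Agent.F3
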