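import Cfsg.Agent.F3.I1
import Cfsg.Agent.F3.Qa
import Cfsg.Agent.H22.Cov

set_option autoImplicit false

namespace Cfsg.Agent.F3

open Subgroup H49 T3.Fr2

section
variable {G Y : Type*} [Group G] [Group Y] {d : G} {f : 𝒞[d] →* Y} {S T : Subgroup G}

theorem quo_of {u : 𝒞[d]} (hu : (u : G) ∈ S) : f u ∈ (S.subgroupOf 𝒞[d]).map f := ⟨u, hu, rfl⟩

theorem quo_cj (u : 𝒞[d]) :
    cj (f u) ((S.subgroupOf 𝒞[d]).map f) = ((cj (u : G) S).subgroupOf 𝒞[d]).map f := by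
  have e : ∀ X : Subgroup 𝒞[d], cj (f u) (X.map f) = (cj u X).map f := fun X => by
    rw [cj_def, cj_def, map_map, map_map]; congr 1; ext; simp
  rw [e]; congr 1; ext v; simp [mem_subgroupOf]

theorem quo_norm {u : 𝒞[d]} (hu : (u : G) ∈ 𝒩(S)) : f u ∈ 𝒩((S.subgroupOf 𝒞[d]).map f) := by
  rw [mem_norm_iff_cj, quo_cj, mem_norm_iff_cj.1 hu]

theorem quo_cent (h : S ≤ 𝒞(T)) : (S.subgroupOf 𝒞[d]).map f ≤ 𝒞((T.subgroupOf 𝒞[d]).map f) := by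
  refine le_cent_iff.2 ?_
  rintro _ ⟨u, hu, rfl⟩ _ ⟨v, hv, rfl⟩
  rw [← map_mul, ← map_mul]; congr 1
  exact Subtype.ext (le_cent_iff.1 h _ hu _ hv)

theorem quo_Z1 {w u : 𝒞[d]} (hu : (u : G) ∈ zpowers (w : G)) : f u ∈ zpowers (f w) := by
  obtain ⟨k, hk⟩ := hu
  exact ⟨k, by rw [show u = w ^ k from Subtype.ext hk.symm, map_zpow]⟩

theorem quo_c3 {u w : G} (hw : w ^ 3 = 1) : (u * w * u⁻¹) ^ 3 = 1 := by rw [conj_pow, hw]; simp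

theorem quo_p : ∀ p : Equiv.Perm (Fin 3), p 0 = 0 → (p 1 = 1 ∧ p 2 = 2) ∨ (p 1 = 2 ∧ p 2 = 1) := by decide

variable (hf : H22.DC f ⟨d, self_mem_cent1 _⟩)
include hf

theorem quo_odd {u v : 𝒞[d]} (hu : (u : G) ^ 3 = 1) (hv : (v : G) ^ 3 = 1) (e : f u = f v) : u = v := by
  refine ((hf.eq_or e).resolve_right fun k => hf.ne ?_).symm
  have h1 : u ^ 3 = 1 := Subtype.ext hu
  have h2 : v ^ 3 = 1 := Subtype.ext hv
  rw [k, (hf.cen u).mul_pow, h1, one_mul, pow_three, hf.sq, mul_one] at h2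
  exact h2

theorem quo_Z2 {w u : 𝒞[d]} (hw : (w : G) ^ 3 = 1) (hu : (u : G) ^ 3 = 1) (e : f u ∈ zpowers (f w)) :
    (u : G) ∈ zpowers (w : G) := by
  obtain ⟨k, hk⟩ := e
  refine ⟨k, congrArg Subtype.val (quo_odd hf (u := w ^ k) ?_ hu ((map_zpow _ _ _).trans hk))⟩
  rw [coe_zpow, ← zpow_natCast, ← zpow_mul, mul_comm, zpow_mul, zpow_natCast, hw, one_zpow]

theorem quo_cz {w u : 𝒞[d]} (hw : (w : G) ^ 3 = 1) : f u ∈ 𝒞[f w] ↔ (u : G) ∈ 𝒞[(w : G)] := by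
  rw [mem_cent1, mem_cent1, ← map_mul, ← map_mul]
  refine ⟨fun e => mul_inv_eq_iff_eq_mul.1 (congrArg Subtype.val (quo_odd hf (u := u * w * u⁻¹) (quo_c3 hw) hw ?_)),
    fun e => congrArg f (Subtype.ext e)⟩
  rw [map_mul, e, ← map_mul, mul_inv_cancel_right]

theorem quo_one {u : 𝒞[d]} (e : (u : G) = 1 ∨ (u : G) = d) : f u = 1 :=
  (hf.ker u).2 (e.imp Subtype.ext Subtype.ext)

theorem quo_card (hS : S ≤ 𝒞[d]) (hd : d ∉ S) : Nat.card ((S.subgroupOf 𝒞[d]).map f) = Nat.card S :=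
  (hf.card_map hd).trans (Nat.card_congr (subgroupOfEquivOfLe hS).toEquiv)

theorem quo_card2 (hS : S ≤ 𝒞[d]) (hd : d ∈ S) : 2 * Nat.card ((S.subgroupOf 𝒞[d]).map f) = Nat.card S := by
  rw [← hf.card_comap, comap_map_eq_self, Nat.card_congr (subgroupOfEquivOfLe hS).toEquiv]
  intro u hu
  rcases (hf.ker u).1 hu with rfl | rfl
  exacts [one_mem _, hd]

end

variable {G : Type*} [Group G] [Finite G] {z : G} {Q R : Subgroup G} {Qs : Fin 3 → Subgroup G}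
  {r : Fin 3 → G}

theorem B1.quo_cen (h : B1 z Q Qs r R) {u : G} (hu : u ∈ Q) (c0 : u ∈ 𝒞(Qs 0)) (c1 : u ∈ 𝒞(Qs 1))
    (c2 : u ∈ 𝒞(Qs 2)) : u ∈ zpowers z :=
  h.cQ (by rw [← h.sup, cent_sup, cent_sup]; exact ⟨⟨c0, c1⟩, c2⟩)

theorem B1.quo_QC (h : B1 z Q Qs r R) : Q ⊓ 𝒞[r 0] = Qs 1 ⊔ Qs 2 := by
  refine le_antisymm (fun q hq => ?_) (sup_le (le_inf (h.le 1) (le_cent1_iff.2 (h.rc 0 1 (by decide))))
    (le_inf (h.le 2) (le_cent1_iff.2 (h.rc 0 2 (by decide)))))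
  have c := (h.cent_r hq.1 0).1 (mem_cent1.1 hq.2)
  obtain ⟨u, hu, rfl⟩ := h.dec hq.1
  have c0 := (mul_mem_cancel_right (h.QQ 1 0 (by decide) (hu 1))).1
    ((mul_mem_cancel_right (h.QQ 2 0 (by decide) (hu 2))).1 c)
  exact mul_mem_sup (mul_mem (zpowers_le.2 (h.zs 1) (h.quo_cen (h.le 0 (hu 0)) c0 (h.QQ 0 1 (by decide) (hu 0))
    (h.QQ 0 2 (by decide) (hu 0)))) (hu 1)) (hu 2)

theorem B1.quo_243 (h : B1 z Q Qs r R) : Nat.card ↥(Qs 1 ⊔ Qs 2) = 243 := by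
  have c := card_sup_mul_card_inf (.inl ((h.le 1).trans (h.QN 2)))
  rw [le_antisymm (h.inter (i := 1) (j := 2) (by decide)) (zpowers_le.2 ⟨h.zs 1, h.zs 2⟩), Nat.card_zpowers, h.z3,
    h.cards, h.cards] at c
  omega

theorem BX.quo_q8 {x s : G} (h : BX z Q Qs r R x s) {Y : Type*} [Group Y] {f : 𝒞[r 0] →* Y}
    (hf : H22.DC f ⟨r 0, self_mem_cent1 _⟩) {j k : Fin 3} (ij : 0 ≠ j) (ik : 0 ≠ k) (jk : j ≠ k)
    (hj : r j ∈ 𝒞[r 0]) : T3.Q8 (((R ⊓ 𝒞(Qs k)).subgroupOf 𝒞[r 0]).map f) (f ⟨r j, hj⟩) := by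
  obtain ⟨a, b, fm⟩ := h.exists_fm
  have p := h.qa_ph fm j
  have rj : r j ∈ R ⊓ 𝒞(Qs k) := ⟨h.rR j, h.rc j k jk⟩
  have sq : f ⟨r j, hj⟩ * f ⟨r j, hj⟩ = 1 := by rw [← map_mul]; exact quo_one hf (.inl (h.rr j))
  have k2 : ∀ u : 𝒞[r 0], (u : G) ∈ R ⊓ 𝒞(Qs k) → mat z (a j) (b j) u = S2.nI → f u = f ⟨r j, hj⟩ :=
    fun u hu e => by
      refine mul_right_cancel (Eq.trans ?_ sq.symm)
      rw [← map_mul]
      refine quo_one hf (h.qa_kerK fm ij ik jk (mul_mem hu rj) ?_)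
      rw [coe_mul, p.mul _ (h.qa_R hu.1) _ (h.qa_R rj.1), e, h.qa_r fm, S2.nI_sq]
  refine ⟨?_, quo_of rj, fun e => ?_, sq, ?_⟩
  · have c := quo_card2 hf (S := R ⊓ 𝒞(Qs k)) (inf_le_left.trans (h.Rr 0)) ⟨h.rR 0, h.rc 0 k ik⟩
    rw [(h.qa_K fm ij ik jk).1] at c
    omega
  · rcases (hf.ker _).1 e with e | e
    · exact h.rQ j ((show r j = 1 from congrArg Subtype.val e) ▸ one_mem _)
    · exact h.r_ne ij (by rw [show r j = r 0 from congrArg Subtype.val e, h.rr]; exact one_mem _)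
  · rintro _ ⟨u, hu, rfl⟩
    have hu' : (u : G) ∈ R ⊓ 𝒞(Qs k) := hu
    rcases S2.q8 (mat z (a j) (b j) u) (by rw [← p.pow (h.qa_R hu'.1), h.R4 hu'.1, p.one]) with e | e | e
    · exact .inl (quo_one hf (h.qa_kerK fm ij ik jk hu' e))
    · exact .inr (.inl (k2 u hu' e))
    · exact .inr (.inr ((map_mul f u u).symm.trans
        (k2 _ (mul_mem hu' hu') ((p.mul _ (h.qa_R hu'.1) _ (h.qa_R hu'.1)).trans e))))

theorem BX.ua {x s : G} (h : BX z Q Qs r R x s) {Y : Type*} [Group Y] [Finite Y] (f : 𝒞[r 0] →* Y)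
    (hf : H22.DC f ⟨r 0, self_mem_cent1 _⟩) (hz : z ∈ 𝒞[r 0]) (h1 : r 1 ∈ 𝒞[r 0]) (h2 : r 2 ∈ 𝒞[r 0]) :
    U6.UA (f ⟨z, hz⟩) (f ⟨r 1, h1⟩) (f ⟨r 2, h2⟩) ((Q.subgroupOf 𝒞[r 0]).map f)
      (((Qs 1).subgroupOf 𝒞[r 0]).map f) (((Qs 2).subgroupOf 𝒞[r 0]).map f)
      (((R ⊓ 𝒞(Qs 2)).subgroupOf 𝒞[r 0]).map f) (((R ⊓ 𝒞(Qs 1)).subgroupOf 𝒞[r 0]).map f) := by
  have z3 : ((⟨z, hz⟩ : 𝒞[r 0]) : G) ^ 3 = 1 := h.exp z h.zQ
  have qc : ∀ j, 0 ≠ j → Qs j ≤ 𝒞[r 0] := fun j hj => le_cent1_iff.2 (h.rc 0 j hj)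
  have cj' : ∀ u v : 𝒞[r 0], f u * f v * (f u)⁻¹ = f (u * v * u⁻¹) := fun u v => by simp
  have cm : ∀ u v : 𝒞[r 0], f u * f v * (f u)⁻¹ * (f v)⁻¹ = f (u * v * u⁻¹ * v⁻¹) := fun u v => by simp
  have eQ : Q.subgroupOf 𝒞[r 0] = (Qs 1 ⊔ Qs 2).subgroupOf 𝒞[r 0] := by rw [← h.quo_QC, inf_subgroupOf_right]
  have cd : ∀ j, 0 ≠ j → Nat.card (((Qs j).subgroupOf 𝒞[r 0]).map f) = 27 := fun j hj =>
    (quo_card hf (qc j hj) fun k => h.rQ 0 (h.le j k)).trans (h.cards j)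
  have iv : ∀ j (hj : r j ∈ 𝒞[r 0]), ∀ q ∈ ((Qs j).subgroupOf 𝒞[r 0]).map f,
      f ⟨r j, hj⟩ * q * (f ⟨r j, hj⟩)⁻¹ * q ∈ zpowers (f ⟨z, hz⟩) := by
    rintro j hj _ ⟨u, hu, rfl⟩
    rw [cj', ← map_mul]
    exact quo_Z1 (h.inv j _ hu)
  refine ⟨⟨?_, quo_of h.zQ, ?_, ?_, ?_, ?_, ?_, fun y hy => ?_, fun y hy e => ?_, fun y e => ?_⟩, quo_of (h.zs 1),
    quo_of (h.zs 2), cd 1 (by decide), cd 2 (by decide), ?_, h.quo_q8 hf (by decide) (by decide) (by decide) h1,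
    h.quo_q8 hf (by decide) (by decide) (by decide) h2, quo_cent (h.QQ 1 2 (by decide)), quo_cent inf_le_right,
    quo_cent inf_le_right, le_cent_iff.2 ?_, iv 1 h1, iv 2 h2, fun y hy => ?_, ?_⟩
  · haveI := Fact.mk Nat.prime_three
    refine orderOf_eq_prime (by rw [← map_pow]; exact quo_one hf (.inl z3)) fun e => ?_
    have := h.z3
    rw [show z = 1 from congrArg Subtype.val (quo_odd hf (v := 1) z3 (one_pow _) (e.trans (map_one f).symm)),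
      orderOf_one] at this
    omega
  · rintro _ ⟨u, hu, rfl⟩
    exact (quo_cz hf z3).2 (h.Qc hu)
  · rintro _ ⟨u, hu, rfl⟩ _ ⟨v, hv, rfl⟩
    rw [cm]
    exact quo_Z1 (h.comm _ hu _ hv)
  · rintro _ ⟨u, hu, rfl⟩ e
    have k : ∀ j, 0 ≠ j → (u : G) ∈ 𝒞(Qs j) := fun j hj v hv =>
      (mem_cent1.1 ((quo_cz hf (w := ⟨v, qc j hj hv⟩) (h.exp v (h.le j hv))).1
        (mem_cent1.2 (e _ (quo_of (h.le j hv)))))).symm
    exact quo_Z1 (h.quo_cen hu ((h.cent_r hu 0).1 (mem_cent1.1 u.2)) (k 1 (by decide)) (k 2 (by decide)))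
  · rintro _ ⟨u, hu, rfl⟩
    rw [← map_pow]
    exact quo_one hf (.inl (h.exp _ hu))
  · rw [eQ, quo_card hf (h.quo_QC ▸ inf_le_right) fun k => h.rQ 0 (h.quo_QC.ge k).1, h.quo_243]
  · obtain ⟨u, rfl⟩ := hf.surj y
    refine quo_norm (h.nQ (mem_norm_of_cj_le ?_))
    rw [cj_zpowers, zpowers_le]
    refine quo_Z2 hf (u := u * ⟨z, hz⟩ * u⁻¹) z3 (quo_c3 z3) ?_
    rw [← cj']
    exact conj_mem_of_norm le_rfl hy (mem_zpowers _)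
  · obtain ⟨u, rfl⟩ := hf.surj y
    have uz := (quo_cz hf z3).1 hy
    have tv : ∀ j, j ≠ 0 → Tv z (Qs j) u := fun j hj v hv => by
      have vQ := h.le j hv
      refine quo_Z2 hf (u := u * ⟨v, qc j hj.symm hv⟩ * u⁻¹ * ⟨v, qc j hj.symm hv⟩⁻¹) z3 (h.exp _ (mul_mem
        (conj_mem_of_norm h.nQ (cent_le_norm _ (cent_zpowers z ▸ uz)) vQ) (inv_mem vQ))) ?_
      rw [← cm]
      exact e _ (quo_of vQ)
    have n1 : (u : G) ∈ 𝒩(Qs 1) := mem_norm_of_cj_le fun w hw => by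
      obtain ⟨v, hv, rfl⟩ := mem_cj'.1 hw
      exact (mul_mem_cancel_right (inv_mem hv)).1 (zpowers_le.2 (h.zs 1) (tv 1 (by decide) v hv))
    rcases h.qa_n2 (qa_memB.2 ⟨uz, h.ba_of_two uz (by decide) (h.qa_n0 uz u.2) n1⟩) tv with k | k
    · exact quo_of k
    · rw [← hf.map_mul_d u]
      exact quo_of k
  · obtain ⟨u, rfl⟩ := hf.surj y
    rw [cj'] at e ⊢
    obtain ⟨v, hv, e⟩ := e
    rw [quo_odd hf (h.exp _ hv) (quo_c3 z3) e] at hv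
    have k : (u : G) * z * (u : G)⁻¹ ∈ Q := hv
    refine quo_Z1 (by_contra fun n => h.y3 k n 0 ?_)
    exact mem_cent1.1 (u * ⟨z, hz⟩ * u⁻¹).2
  · rw [eQ, subgroupOf_sup (qc 1 (by decide)) (qc 2 (by decide)), Subgroup.map_sup]
  · rintro _ ⟨u, hu, rfl⟩ _ ⟨v, hv, rfl⟩
    have hu' := mem_inf.1 (mem_subgroupOf.1 hu)
    have hv' := mem_inf.1 (mem_subgroupOf.1 hv)
    rw [eq_comm, ← mul_inv_eq_iff_eq_mul, ← mul_inv_eq_one, cm]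
    refine quo_one hf (h.qa_kerR (mul_mem (mul_mem (mul_mem hu'.1 hv'.1) (inv_mem hu'.1)) (inv_mem hv'.1))
      fun j hj => qa_tvc ?_)
    rcases qa_third 0 1 2 j (by decide) (by decide) (by decide) hj with rfl | rfl
    · exact mul_mem (conj_mem_of_norm (norm_cent (h.RN 1)) hu'.1 hv'.2) (inv_mem hv'.2)
    · rw [mul_assoc, mul_assoc, ← mul_assoc (v : G)]
      exact mul_mem hu'.2 (conj_mem_of_norm (norm_cent (h.RN 2)) hv'.1 (inv_mem hu'.2))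
  · obtain ⟨u, rfl⟩ := hf.surj y
    have uz := (quo_cz hf z3).1 hy
    obtain ⟨σ, s1, s2⟩ := h.permHom
    rcases quo_p _ ((s2 ⟨_, uz⟩ 0).1 (h.qa_n0 uz u.2)) with e | e
    · exact .inl ⟨quo_norm ((s2 ⟨_, uz⟩ 1).2 e.1), quo_norm ((s2 ⟨_, uz⟩ 2).2 e.2)⟩
    · exact .inr ⟨by rw [quo_cj, s1 ⟨_, uz⟩, e.1], by rw [quo_cj, s1 ⟨_, uz⟩, e.2]⟩
  · obtain ⟨g, hg, e⟩ := h.xc
    refine ⟨f ⟨g, hg⟩, ?_, fun k => h.xQ (zpowers_le.2 h.zQ ?_)⟩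
    · rw [cj']
      exact (quo_cz hf z3).2 (show g * z * g⁻¹ ∈ _ from e ▸ h.xz)
    · rw [cj'] at k
      exact e ▸ quo_Z2 hf z3 (quo_c3 z3) k

end Cfsg.Agent.F3
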