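import Cfsg.Agent.F3.RecA

set_option autoImplicit false

namespace Cfsg.Agent.F3

open H22 H22.U6 H96

namespace RecB

open H95

/-- the part of an embedding that is used for the neighbours of `j d` -/
structure Emb3 {H G : Type*} [Group H] [Group G] (j : H →* G) (d : H) : Prop where
  inj : Function.Injective j
  ran : ∀ y, IsConj (j d) y → Commute y (j d) → ∃ h, j h = y
  nsq : ∀ y, IsConj (j d) y → ¬ IsSquare y

theorem ex_two {K : Type*} [Group K] [Finite K] (h : 2 < Nat.card K) :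
    ∃ a b : K, a ≠ 1 ∧ b ≠ 1 ∧ a ≠ b := by
  have := Fintype.ofFinite K
  obtain ⟨a, b, c, h1, h2, h3⟩ := (Fintype.two_lt_card_iff (α := K)).1 (by rwa [← Nat.card_eq_fintype_card])
  by_cases ha : a = 1
  · exact ⟨b, c, ha ▸ h1.symm, ha ▸ h2.symm, h3⟩
  by_cases hb : b = 1
  · exact ⟨a, c, ha, hb ▸ h3.symm, h2⟩
  · exact ⟨a, b, ha, hb, h1⟩

variable {H L G : Type*} [Group H] [Group L] [Group G] {π : H →* L} {d : H} {E' : Set L}
  {t : Fin 6 → L} {E : Set H} {p : Fin 6 → H} {j : H →* G}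

theorem Emb3.cjh (h : Emb3 j d) (g : G) : Emb3 (cjh g j) d :=
  ⟨(cj_injective g).comp h.inj, fun y c hy => by
    obtain ⟨x, hx⟩ := h.ran (cj g⁻¹ y) (((isConj_cj g _).trans c).trans (isConj_cj g⁻¹ y))
      ((commute_cj_left g).1 hy.symm).symm
    exact ⟨x, by rw [cjh_apply, hx, cj_cj_inv]⟩,
    fun y c => h.nsq y ((isConj_cj g _).trans c)⟩

theorem Emb3.exists_cjh (h : Emb3 j d) {x : G} (hx : IsConj (j d) x) :
    ∃ j' : H →* G, Emb3 j' d ∧ j' d = x ∧ ∀ y, IsConj (j y) (j' y) := by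
  obtain ⟨g, rfl⟩ := exists_cj hx
  exact ⟨_, h.cjh g, rfl, fun y => isConj_cj g _⟩

variable (h : Cv π d E' t E p)
include h

omit h in
theorem nsq' (_ : Cv π d E' t E p) (hj : Emb3 j d) {y : H} (hx : IsConj (j d) (j y)) :
    ¬ IsSquare y := fun s => hj.nsq _ hx (s.map j)

theorem locA (inj : Function.Injective j) (nsq : ∀ y, IsConj (j d) y → ¬ IsSquare y) {y : H}
    (c : IsConj (j d) (j y)) (n : j y ≠ j d) :
    y ∈ E ∨ (∃ a ∈ E, y = d * a) ∨ IsConj (p 0 * p 1 * p 2) y := by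
  have h1 : ¬ IsSquare y := fun s => nsq _ c (s.map j)
  have h2 : y * y = 1 := inj (by
    obtain ⟨g, hg⟩ := exists_cj c
    rw [map_mul, ← hg, ← cj_mul_cj, ← map_mul, h.sq, map_one, cj_of_commute (Commute.one_right g)])
  rcases h.clsE h2 with e | e | e | e | ⟨a, ha, b, hb, n, c, e | e⟩ | e
  · exact absurd (e ▸ IsSquare.one) h1
  · exact absurd (congrArg j e) n
  · exact Or.inl e
  · exact Or.inr (Or.inl e)
  · exact absurd (e ▸ (h.sq_pair ha hb n c).1) h1
  · exact absurd (e ▸ (h.sq_pair ha hb n c).2) h1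
  · exact Or.inr (Or.inr e)

theorem loc0 (hj : Emb3 j d) {x : G} (hx : x ∈ nb (conjugatesOf (j d)) (j d)) : ∃ y, j y = x ∧
    (y ∈ E ∨ (∃ a ∈ E, y = d * a) ∨ IsConj (p 0 * p 1 * p 2) y) := by
  obtain ⟨y, rfl⟩ := hj.ran x hx.1 hx.2.2.symm
  exact ⟨y, rfl, locA h hj.inj hj.nsq hx.1 hx.2.1⟩

theorem no3 (hj : Emb3 j d) : ¬ IsConj (j d) (j (p 0 * p 1 * p 2)) := fun c => by
  obtain ⟨j', hj', e, hc⟩ := hj.exists_cjh c
  have n : ∀ {i k : Fin 6}, i ≠ k → p i ≠ p k := fun e1 e2 => e1 (h.pinj e2)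
  have k : ∀ (x : H) (i k : Fin 6), i ≠ k → IsConj (p 0 * p 1 * p 2) x →
      Commute (p 0 * p 1 * p 2) x → p 0 * p 1 * p 2 * x = p i * p k →
      ∃ a ∈ E, ∃ u, (u = a ∨ u = d * a) ∧ j' u = j x := fun x i k h1 h2 h3 h4 => by
    obtain ⟨y, e1, e2⟩ := loc0 h hj' (x := j x) ⟨e ▸ j.map_isConj h2, fun e' => by
      rw [e] at e'
      rw [hj.inj e', show p 0 * p 1 * p 2 * (p 0 * p 1 * p 2) = 1 by
        simp only [mul_assoc, h.lc, h.pc, h.cc, h.psq]] at h4
      exact n h1 (eq_of_mul_eq_one' (h.psq k) h4.symm), e ▸ h3.map j⟩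
    rcases e2 with e2 | ⟨a, ha, e2⟩ | e2
    · exact ⟨y, e2, y, Or.inl rfl, e1⟩
    · exact ⟨a, ha, y, Or.inr e2, e1⟩
    · refine absurd (h.sq_pair (h.pmem i) (h.pmem k) (n h1) (h.pcomm i k)).1 (nsq' h hj ?_)
      rw [← h4, map_mul, ← e, ← e1, ← map_mul]
      exact (hc d).trans (e ▸ (hc _).trans (j'.map_isConj (h.conj_d_of e2)))
  obtain ⟨a, ha, u, hu, e1⟩ := k (p 0 * p 1 * p 3) 2 3 (by decide)
    (h.triE (by decide) (by decide) (by decide))
    (by show _ = _; simp only [mul_assoc, h.lc, h.pc]) (by simp only [mul_assoc, h.lc, h.pc, h.cc])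
  obtain ⟨b, hb, v, hv, e2⟩ := k (p 0 * p 4 * p 2) 1 4 (by decide)
    (h.triE (by decide) (by decide) (by decide))
    (by show _ = _; simp only [mul_assoc, h.lc, h.pc]) (by simp only [mul_assoc, h.lc, h.pc, h.cc])
  have e3 : j' (d * (u * v)) = j (p 0 * p 3 * p 4) := by
    rw [map_mul, map_mul, e, e1, e2, ← map_mul, ← map_mul]
    simp only [mul_assoc, h.lc, h.pc, h.cc]
  have e4 : ¬ IsSquare (d * (u * v)) := nsq' h hj' (by
    rw [e3, e]; exact j.map_isConj (h.triE (by decide) (by decide) (by decide)))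
  have e5 : u * v = a * b ∨ u * v = d * (a * b) := h.toDC.eq_or' (by
    rcases hu with rfl | rfl <;> rcases hv with rfl | rfl <;>
      simp only [map_mul, h.toDC.map_d, one_mul])
  by_cases hab : a = b
  · rw [hab, TT.mul_self h.ttE hb, mul_one] at e5
    rcases e5 with e5 | e5
    · rw [e5, mul_one, e] at e3
      have e6 := hj.inj e3
      rw [mul_assoc, mul_assoc, mul_right_inj] at e6
      have e7 : p 0 * p 5 = d := by
        rw [← h.prod, mul_assoc (p 0), mul_assoc (p 0), mul_assoc (p 0), e6]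
        simp only [mul_assoc, h.lc, h.pc, h.cc]
      have e8 := congrArg π e7
      rw [map_mul, h.pmap, h.pmap, h.toDC.map_d] at e8
      exact absurd (h.inj (eq_of_mul_eq_one' (TT.mul_self h.tt (h.mem 5)) e8)) (by decide)
    · exact e4 (by rw [e5, h.sq]; exact IsSquare.one)
  · have c1 : Commute u v := Commute.of_map hj'.inj (by
      rw [e1, e2]; refine Commute.map ?_ j; show _ = _; simp only [mul_assoc, h.lc, h.pc])
    have c2 : Commute a b := (h.commute_iff ha hb).1 (by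
      have := c1.map π
      rcases hu with rfl | rfl <;> rcases hv with rfl | rfl <;>
        simpa only [map_mul, h.toDC.map_d, one_mul] using this)
    rcases e5 with e5 | e5 <;> rw [e5] at e4
    · exact e4 (h.sq_pair ha hb hab c2).2
    · exact e4 (by rw [h.toDC.d_d_mul]; exact (h.sq_pair ha hb hab c2).1)

theorem loc1 (hj : Emb3 j d) {x : G} (hx : x ∈ nb (conjugatesOf (j d)) (j d)) :
    ∃ a ∈ E, j a = x ∨ j (d * a) = x := by
  obtain ⟨y, rfl, e | ⟨a, ha, rfl⟩ | e⟩ := loc0 h hj hx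
  exacts [⟨y, e, Or.inl rfl⟩, ⟨a, ha, Or.inr rfl⟩,
    (no3 h hj (IsConj.trans hx.1 (j.map_isConj e).symm)).elim]

theorem not_both (hj : Emb3 j d) {a b : H} (ha : a ∈ E) (hb : b ∈ E) (h1 : IsConj (j d) (j a))
    (h2 : IsConj (j d) (j (d * b))) : False := by
  have k1 : ∀ c ∈ E, IsConj (j d) (j c) := fun c hc => h1.trans (j.map_isConj (h.isConjE ha hc).1)
  have k2 : ∀ c ∈ E, IsConj (j d) (j (d * c)) := fun c hc =>
    h2.trans (j.map_isConj (h.isConjE hb hc).2)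
  obtain ⟨j', hj', e, hc⟩ := hj.exists_cjh (k1 _ (h.pmem 0))
  have n : p 0 ≠ p 1 := fun e => absurd (h.pinj e) (by decide)
  refine nsq' h hj ?_ (h.sq_pair (h.pmem 0) (h.pmem 1) n (h.pcomm 0 1)).1
  obtain ⟨c, hc', e1⟩ := loc1 h hj' (x := j (p 1)) ⟨(hc d).symm.trans (k1 _ (h.pmem 1)),
    fun e' => n (hj.inj (e.symm.trans e'.symm)), e ▸ (h.pcomm 0 1).map j⟩
  rw [map_mul, ← e]
  rcases e1 with e1 | e1 <;> rw [← e1, ← map_mul]
  · exact (k2 c hc').trans (hc _)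
  · rw [h.toDC.d_d_mul]; exact (k1 c hc').trans (hc _)

theorem nb_eq (hj : Emb3 j d) {a : H} (ha : a ∈ E) (h1 : IsConj (j d) (j a)) :
    nb (conjugatesOf (j d)) (j d) = j '' E := by
  ext x
  constructor
  · intro hx
    obtain ⟨b, hb, e | e⟩ := loc1 h hj hx
    exacts [⟨b, hb, e⟩, (not_both h hj ha hb h1 (e ▸ hx.1)).elim]
  · rintro ⟨b, hb, rfl⟩
    exact ⟨h1.trans (j.map_isConj (h.isConjE ha hb).1), fun e => h.ne_d hb (hj.inj e),
      (h.cen b).symm.map j⟩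

theorem exists_nb_eq (hj : Emb3 j d) (hn : (nb (conjugatesOf (j d)) (j d)).Nonempty) :
    ∃ E p, Cv π d E' t E p ∧ nb (conjugatesOf (j d)) (j d) = j '' E := by
  obtain ⟨x, hx⟩ := hn
  obtain ⟨a, ha, e | e⟩ := loc1 h hj hx
  exacts [⟨_, _, h, nb_eq h hj ha (e ▸ hx.1)⟩,
    ⟨_, _, h.flip, nb_eq h.flip hj ⟨a, ha, rfl⟩ (e ▸ hx.1)⟩]

end RecB

variable {H G : Type*} [Group H] [Group G] [Finite H] [Group.IsPerfect H] {j : H →* G} {π : H →* L6} {d : H}

omit [Finite H] [Group.IsPerfect H] in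
theorem Emb2.cjh (h : Emb2 j π d) (g : G) : Emb2 (cjh g j) π d := by
  have c : ∀ {y : G}, Commute y (H22.cjh g j d) → Commute (H95.cj g⁻¹ y) (j d) := fun hy =>
    ((H95.commute_cj_left g).1 hy.symm).symm
  have r : ∀ y : G, y ∈ (H22.cjh g j).range ↔ H95.cj g⁻¹ y ∈ j.range := fun y =>
    ⟨fun ⟨x, hx⟩ => ⟨x, by rw [← hx, cjh_apply, H95.cj_inv_cj]⟩,
      fun ⟨x, hx⟩ => ⟨x, by rw [cjh_apply, hx, H95.cj_cj_inv]⟩⟩
  refine ⟨(H95.cj_injective g).comp h.inj, fun x hx y => ?_, fun a b ha hb na nb => ?_,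
    fun x hx hy => ?_, ?_⟩
  · obtain ⟨y', e⟩ := h.nrm _ (c hx) y
    refine ⟨y', ?_⟩
    rw [cjh_apply, cjh_apply, ← e]
    simp only [H95.cj_def]; group
  · rw [r] at na nb ⊢
    rw [H95.cj_mul_cj]
    exact h.idx _ _ (c ha) (c hb) na nb
  · rcases h.fa _ (c hx) (fun y => by
      obtain ⟨y', e1, e2⟩ := hy y
      refine ⟨y', e1, H95.cj_injective g ?_⟩
      rw [← cjh_apply g j y', ← e2, cjh_apply]
      simp only [H95.cj_def]; group) with e | e
    · left
      rw [← H95.cj_cj_inv g x, e, H95.cj_of_commute (Commute.one_right g)]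
    · right
      rw [← H95.cj_cj_inv g x, e, cjh_apply]
  · obtain ⟨s, h1, h2, h3⟩ := h.oi
    refine ⟨H95.cj g s, (H95.commute_cj g).2 h1, by rwa [r, H95.cj_inv_cj], ?_⟩
    rw [← H95.cj_mul_cj, h3, H95.cj_of_commute (Commute.one_right g)]

theorem Emb2.nsq (h : Emb2 j π d) (hd : DC π d) {x : G} (hx : IsConj (j d) x) : ¬ IsSquare x := by
  intro s
  obtain ⟨c, -, E, p, hC⟩ := U6.exists_cv hd
  obtain ⟨r, hr⟩ := isSquare_of_isConj hx.symm s
  by_cases hn : r ∈ j.range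
  · obtain ⟨y, rfl⟩ := hn
    exact hC.li.not_sq hd y (h.inj (by rw [map_mul, hr]))
  · exact h.out_sq hd (by rw [hr]; exact (Commute.refl r).mul_right (Commute.refl r)) hn hr.symm

theorem RecB.ranD (h : Emb2 j π d) (hd : DC π d) {t : G} (c : IsConj (j d) t)
    (ht : Commute t (j d)) : t ∈ j.range := by
  by_contra hn
  obtain ⟨_, -, E, p, hC⟩ := U6.exists_cv hd
  obtain ⟨g, hg⟩ := exists_cj c
  have tt : t * t = 1 := by
    rw [← hg, ← H95.cj_mul_cj, ← map_mul, hd.sq, map_one, H95.cj_of_commute (Commute.one_right g)]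
  obtain ⟨W, hW, hw⟩ := h.out_W hd ht hn tt
  have h' := h.cjh g
  have e : H22.cjh g j d = t := hg
  generalize H22.cjh g j = j' at h' e
  obtain ⟨⟨w, w1⟩, ⟨w', w1'⟩, n1, n2, n3⟩ := RecB.ex_two (K := (j'.range.comap j).subgroupOf W) (by
    have h2 : ((j'.range.comap j).subgroupOf W).index ∣ 2 := by
      rw [Subgroup.index_dvd_two_iff]
      by_cases hc : ∃ a : W, a ∉ (j'.range.comap j).subgroupOf W
      · obtain ⟨a, ha⟩ := hc
        refine ⟨a, fun b => or_iff_not_imp_right.2 fun hb => ?_⟩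
        have := h'.idx (j b) (j a) (e ▸ (hw _ b.2).2.2.1.symm) (e ▸ (hw _ a.2).2.2.1.symm) hb ha
        rwa [← map_mul] at this
      · push Not at hc
        exact ⟨1, fun b => Or.inr (hc b)⟩
    have h3 := ((j'.range.comap j).subgroupOf W).card_mul_index
    have h4 := Nat.le_of_dvd two_pos h2
    rw [hW] at h3
    by_contra h5
    have := Nat.mul_le_mul (Nat.le_of_not_lt h5) h4
    omega)
  have key : ∀ u : W, u ≠ 1 → ∀ x, j' x = j u → ∃ a ∈ E, π a = π x := by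
    intro u hu x hx
    have c1 : IsConj (j' d) (j' (d * x)) := by rw [map_mul, e, hx]; exact (hw _ u.2).2.2.2
    rcases RecB.locA hC h'.inj (fun y => h'.nsq hd) c1 (fun e' => hu (Subtype.ext (h.inj (by
      rw [map_mul, hx] at e'
      rw [mul_eq_left.1 e', OneMemClass.coe_one, map_one])))) with k | ⟨a, ha, k⟩ | k
    · exact ⟨_, k, by rw [map_mul, hd.map_d, one_mul]⟩
    · exact ⟨a, ha, by rw [mul_left_cancel k]⟩
    · have k' := hC.conj_d_of k
      rw [hd.d_d_mul] at k'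
      exact absurd (hx ▸ (hw _ u.2).2.1.map j)
        (h'.nsq hd (c1.trans (j'.map_isConj (k.symm.trans k'))))
  obtain ⟨x, hx⟩ : j w ∈ j'.range := w1
  obtain ⟨x', hx'⟩ : j w' ∈ j'.range := w1'
  obtain ⟨a, ha, ea⟩ := key w (fun e => n1 (Subtype.ext e)) x hx
  obtain ⟨a', ha', ea'⟩ := key w' (fun e => n2 (Subtype.ext e)) x' hx'
  have hww := hw _ (mul_mem w.2 w'.2)
  have e1 : j' (x * x') = j (w * w') := by rw [map_mul, hx, hx', map_mul]
  have e2 : x * x' = a * a' ∨ x * x' = d * (a * a') := hd.eq_or' (by rw [map_mul, map_mul, ea, ea'])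
  have e3 : ¬ IsSquare (d * (x * x')) := fun s =>
    h'.nsq hd (by rw [map_mul, e, e1]; exact hww.2.2.2) (s.map j')
  by_cases haa : a = a'
  · rw [haa, H95.TT.mul_self hC.ttE ha', mul_one] at e2
    rcases e2 with e2 | e2
    · rw [e2, map_one] at e1
      exact n3 (Subtype.ext (Subtype.ext (H95.eq_of_mul_eq_one' (hw _ w'.2).1
        (h.inj (by rw [← e1, map_one])))))
    · exact hn ⟨_, by rw [← e1, e2, e]⟩
  · have c1 : Commute (w : H) w' := by
      have := hww.1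
      rw [mul_eq_one_iff_eq_inv, mul_inv_rev, inv_eq_of_mul_eq_one_right (hw _ w.2).1,
        inv_eq_of_mul_eq_one_right (hw _ w'.2).1] at this
      exact this
    have c2 : Commute x x' := Commute.of_map h'.inj (by rw [hx, hx']; exact c1.map j)
    have c3 : Commute a a' := (hC.commute_iff ha ha').1 (by rw [ea, ea']; exact c2.map π)
    rcases e2 with e2 | e2 <;> rw [e2] at e3
    · exact e3 (hC.sq_pair ha ha' haa c3).2
    · exact e3 (by rw [hd.d_d_mul]; exact (hC.sq_pair ha ha' haa c3).1)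

theorem Emb2.nb_eq (h : Emb2 j π d) (hd : DC π d) (hn : (nb (conjugatesOf (j d)) (j d)).Nonempty) :
    ∃ t E p, Cv π d E6 t E p ∧ nb (conjugatesOf (j d)) (j d) = j '' E := by
  obtain ⟨_, -, E, p, hC⟩ := U6.exists_cv hd
  exact ⟨_, RecB.exists_nb_eq hC
    ⟨h.inj, fun _ c hy => RecB.ranD h hd c hy, fun _ => h.nsq hd⟩ hn⟩

end Cfsg.Agent.F3
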