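/-
Project F3: the centraliser of an involution contains a double cover of `U₆(2)` with index two.
-/
import Cfsg.Agent.H22.Main22

set_option autoImplicit false

namespace Cfsg.Agent.F3

open H22 H22.U6

/-- `j` identifies `H` with a subgroup of index two of the centraliser of `j d` -/
structure Emb2 {H G : Type*} [Group H] [Group G] (j : H →* G) (π : H →* L6) (d : H) : Prop where
  inj : Function.Injective j
  nrm : ∀ c, Commute c (j d) → ∀ y, ∃ y', c * j y * c⁻¹ = j y'
  idx : ∀ a b, Commute a (j d) → Commute b (j d) → a ∉ j.range → b ∉ j.range → a * b ∈ j.range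
  fa : ∀ c, Commute c (j d) → (∀ y, ∃ y', π y' = π y ∧ c * j y * c⁻¹ = j y') → c = 1 ∨ c = j d
  oi : ∃ s, Commute s (j d) ∧ s ∉ j.range ∧ s * s = 1

end Cfsg.Agent.F3
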