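/-
Project F3: local data of a class of involutions whose centralisers need not be generated by the class.
-/
import Cfsg.Agent.F3.RecD

set_option autoImplicit false

namespace Cfsg.Agent.F3

open Cfsg.Agent.H95 Cfsg.Agent.H96 Subgroup

variable {G G' : Type*} [Group G] [Group G']

/-- the local data at every member of `D` -/
structure Glob2 (D : Set G) (E' : Set G') : Prop where
  conj : ∀ g, ∀ x ∈ D, cj g x ∈ D
  inv : ∀ x ∈ D, x * x = 1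
  nsq : ∀ x ∈ D, ¬ IsSquare x
  tt : ∀ x ∈ D, IsThreeTranspositionSet (nb D x)
  chart : ∀ x ∈ D, ∃ f : G → G', IsChart (nb D x) E' f
  sq : ∀ x ∈ D, ∀ a ∈ nb D x, ∀ b ∈ nb D x, a ≠ b → Commute a b →
    IsSquare (a * b) ∧ IsSquare (x * (a * b))
  hept : ∀ a ∈ D, ∀ b ∈ nb D a, ∀ K : Subgroup G, (∀ c ∈ nb D a, Commute c b → a * c ∈ K) → a ∈ K
  gen : ∀ x ∈ D, x ∈ closure (nb D x)
  cc : ∀ x ∈ D, ∀ z, Commute z x → (∀ y ∈ nb D x, Commute z y) → z = 1 ∨ z = x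
  one : ∀ x ∈ D, ∀ a ∈ nb D x, ∀ b ∈ nb D x, ∃ g ∈ closure (nb D x), cj g a = b
  third : ∀ a ∈ D, ∀ b ∈ nb D a, ∃ c ∈ nb D a, c ≠ b ∧ Commute c b
  four : ∀ a ∈ D, ∀ b ∈ nb D a, ∀ c ∈ nb D a, b ≠ c → Commute b c → ∃ y ∈ nb D a, Commute y b ∧
    Commute y c ∧ ∀ u ∈ D, ∀ v ∈ D, Commute a u → Commute a v → Commute u v → u * v ≠ a * (b * c * y)

end Cfsg.Agent.F3
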