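/-
Project F3: a class of involutions that is locally the class of transpositions of `U₆(2)` generates `Fi₂₂`.
-/
import Cfsg.Agent.F3.RecG
import Cfsg.Agent.H52.Fi22Cls

set_option autoImplicit false

namespace Cfsg.Agent.F3

open Cfsg.Agent.H95 Cfsg.Agent.H96 Subgroup H22

section
variable {G G' : Type*} [Group G] [Group G']

/-- involutions that keep a component fix a member of the component -/
def Fix2 (D : Set G) : Prop :=
  ∀ x ∈ D, ∀ g, (∀ y ∈ cp D x, cj g y ∈ cp D x) → g * g = 1 → ∃ w ∈ cp D x, Commute g w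

namespace Glob2

section
variable {D : Set G} {E' : Set G'} {p q : G'} (h : Glob2 D E')
include h

theorem ne_one {x : G} (hx : x ∈ D) : x ≠ 1 := fun e => h.nsq x hx (e ▸ IsSquare.one)

theorem cl_nb (x : G) : Cl (nb D x) := fun a ha b hb => by
  have := cj_mem_nb h.conj ha.2.2.symm hb
  rwa [cj_def, inv_eq_of_mul_self (h.inv a ha.1)] at this

theorem near3 (hN : Base E' p q) (hC : Cover E' p q) {d a b c : G} (hd : d ∈ D) (ha : a ∈ D)
    (hb : b ∈ D) (hc : c ∈ D) (h1 : Commute d a) (h2 : Commute a b) (h3 : Commute b c) :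
    Near D d c := by
  by_cases e1 : Commute d b
  · exact ⟨b, hb, e1, h3⟩
  by_cases e2 : Commute a c
  · exact ⟨a, ha, h1, e2⟩
  have n : a ≠ b := fun e => e1 (e ▸ h1)
  have m1 : d ∈ nb D a := ⟨hd, fun e => e1 (e ▸ h2), h1.symm⟩
  have m2 : b ∈ nb D a := ⟨hb, n.symm, h2⟩
  have m3 : a ∈ nb D b := ⟨ha, n, h2.symm⟩
  have m4 : c ∈ nb D b := ⟨hc, fun e => e2 (e ▸ h2), h3⟩
  obtain ⟨f, hf⟩ := h.chart b hb
  obtain ⟨f', hf'⟩ := h.chart a ha
  have hT := h.tt b hb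
  have hCl := h.cl_nb b
  obtain ⟨k, hk, k1, k2⟩ := hN.pair _ (hf.mem m3) _ (hf.mem m4)
    (by rwa [hf.commute_iff hT hN.tt hCl m3 m4])
  have c1 := hf.comp hk
  have c2 := c1.restrict (A := nb (nb D b) a ∩ nb (nb D b) c) fun y hy => hy.1.1
  rw [c1.image_inter (nb_subset _ _) (nb_subset _ _), c1.image_nb hT hN.tt hCl subset_rfl m3,
    c1.image_nb hT hN.tt hCl subset_rfl m4, c1.image] at c2
  simp only [Function.comp, k1, k2] at c2
  obtain ⟨l, hl, -⟩ := c2.exists_symm ((hCl.nb hT a).inter (hCl.nb hT c))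
  have s : nb (nb D b) a ∩ nb (nb D b) c ⊆ nb (nb D a) b := fun y hy =>
    ⟨⟨hy.1.1.1, hy.1.2⟩, hy.1.1.2⟩
  obtain ⟨_, ⟨s, hs, rfl⟩, e⟩ := hC _ _ (hl.comp (hf'.restrict (s.trans (nb_subset _ _)))) _
    (hf'.mem m2) (by
      rw [← hf'.image, ← hf'.image_nb (h.tt a ha) hN.tt (h.cl_nb a) subset_rfl m2]
      exact Set.image_mono s) _ (hf'.mem m1)
  exact ⟨s, hs.1.1.1, ((hf'.commute_iff (h.tt a ha) hN.tt (h.cl_nb a) ⟨hs.1.1.1, hs.1.2⟩ m1).1 e).symm,
    hs.2.2.2.symm⟩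

theorem near_trans (hN : Base E' p q) (hC : Cover E' p q) {x y z : G} (hx : x ∈ D) (hy : y ∈ D)
    (hz : z ∈ D) (h1 : Near D x y) (h2 : Near D y z) : Near D x z := by
  obtain ⟨w, hw, a1, a2⟩ := h1
  obtain ⟨w', hw', a3, a4⟩ := h2
  obtain ⟨s, hs, a5, a6⟩ := h.near3 hN hC hx hw hy hw' a1 a2 a3
  exact h.near3 hN hC hx hs hw' hz a5 a6 a4

theorem sq2 {a b : G} (ha : a ∈ D) (hb : b ∈ D) (n : a ≠ b) (c : Commute a b) : IsSquare (a * b) := by
  obtain ⟨y, hy, h1, h2⟩ := h.third a ha b ⟨hb, n.symm, c⟩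
  exact (h.sq y hy.1 a (mem_nb_symm ha hy) b ⟨hb, h1.symm, h2⟩ n c).1

end

variable {D : Set G} {E' : Set G'} {p q : G'} (h : Glob2 D E') (hT : NT D)
include h hT

theorem tt_cp {x : G} (hx : x ∈ D) : IsThreeTranspositionSet (cp D x) := by
  refine ⟨fun a ha => orderOf_eq_two_of (h.inv a ha.1) (h.ne_one ha.1), fun a ha b hb => ?_⟩
  by_cases e : Commute a b
  · exact Or.inl ((commute_iff_sq (h.inv a ha.1) (h.inv b hb.1)).1 e)
  obtain ⟨w, hw, h1, h2⟩ := hT.near hx ha hb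
  exact (h.tt w hw).2 a ⟨ha.1, fun e' => e (e' ▸ h2), h1.symm⟩ b ⟨hb.1, fun e' => e (e' ▸ h1), h2⟩

theorem cl_cp {x : G} (hx : x ∈ D) : Cl (cp D x) := fun a ha b hb => by
  obtain ⟨w, hw, h1, h2⟩ := hT.near hx ha hb
  have := h.conj a b hb.1
  rw [cj_def, inv_eq_of_mul_self (h.inv a ha.1)] at this
  exact hT.mem hx (hT.mem hx ha hw h1) this ((h1.symm.mul_right h2).mul_right h1.symm)

theorem exists_loc [Finite G] (hN : Nice E' p q) {x : G} (hx : x ∈ D) :
    ∃ (d c : closure (cp D x)) (f : closure (cp D x) → G'),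
      IsThreeTranspositionClass {y : closure (cp D x) | (y : G) ∈ cp D x} ∧
      f '' (nb {y : closure (cp D x) | (y : G) ∈ cp D x} d ∩
        nb {y : closure (cp D x) | (y : G) ∈ cp D x} c) ⊆ E' ∧
      Good (nb E' p ∩ nb E' q) (f '' (nb {y : closure (cp D x) | (y : G) ∈ cp D x} d ∩
        nb {y : closure (cp D x) | (y : G) ∈ cp D x} c)) ∧
      ∀ (κ : G' → G') (S : Set G'), IsChart E' E' κ →
        κ '' (f '' (nb {y : closure (cp D x) | (y : G) ∈ cp D x} d ∩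
          nb {y : closure (cp D x) | (y : G) ∈ cp D x} c)) = S →
        ∃ k, Loc {y : closure (cp D x) | (y : G) ∈ cp D x} d c E' S k := by
  have nc : ∀ a ∈ D, ∀ y ∈ nb D a, ∃ c ∈ nb D a, ¬ Commute y c := fun a ha y hy => by
    obtain ⟨f, hf⟩ := h.chart a ha
    obtain ⟨z, hz, e⟩ := hN.exists_not_commute (hf.mem hy)
    obtain ⟨c, hc, rfl⟩ := hf.surj hz
    exact ⟨c, hc, by rwa [hf.commute_iff (h.tt a ha) hN.tt (h.cl_nb a) hy hc] at e⟩
  obtain ⟨f, hf⟩ := h.chart x hx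
  obtain ⟨a, ha, -⟩ := hf.surj hN.hp
  obtain ⟨c, hc, hxc⟩ := nc a ha.1 x (mem_nb_symm hx ha)
  have x0 := self_mem_cp hx
  have s := Glob.nb_sub hT hx x0
  have c0 := Glob.nb_sub hT hx (s ha) hc
  set D1 := {y : closure (cp D x) | (y : G) ∈ cp D x}
  let d : closure (cp D x) := ⟨x, subset_closure x0⟩
  have m : ∀ (u y : closure (cp D x)), (u : G) ∈ cp D x → (y ∈ nb D1 u ↔ (y : G) ∈ nb D u) :=
    fun u y hu => ⟨fun e => ⟨e.1.1, fun e' => e.2.1 (Subtype.ext e'), congrArg Subtype.val e.2.2⟩,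
      fun e => ⟨Glob.nb_sub hT hx hu e, fun e' => e.2.1 (congrArg Subtype.val e'), Subtype.ext e.2.2⟩⟩
  have hD : IsThreeTranspositionGroup D1 := ⟨TT.subgroup (h.tt_cp hT hx) _, fun g y hy =>
    conj_mem_of_cl (h.tt_cp hT hx) (h.cl_cp hT hx) g.2 _ hy, closure_closure_coe_preimage⟩
  have hZ : center (closure (cp D x)) = ⊥ := by
    rw [eq_bot_iff]
    intro z hz
    rw [mem_center_closure] at hz
    rcases h.cc x hx z (hz x x0) fun y hy => hz y (s hy) with e | e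
    exacts [Subtype.ext e, absurd (e ▸ hz c c0) hxc]
  have h1 : Subtype.val '' nb D1 d = nb D x := Set.ext fun y =>
    ⟨by rintro ⟨y, hy, rfl⟩; exact (m d y x0).1 hy,
      fun hy => ⟨⟨y, subset_closure (s hy)⟩, (m d _ x0).2 hy, rfl⟩⟩
  have h2 : IsChart (nb D1 d) (nb D x) Subtype.val :=
    h1 ▸ isChart_hom (closure (cp D x)).subtype Subtype.val_injective.injOn
  have h3 : ncen (nb D1 d) = nb D1 d := Set.Subset.antisymm (fun _ e => e.1) fun y hy => by
    obtain ⟨z, hz, e⟩ := nc x hx y ((m d y x0).1 hy)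
    exact ⟨hy, ⟨z, subset_closure (s hz)⟩, (m d _ x0).2 hz, fun e' => e (congrArg Subtype.val e')⟩
  obtain ⟨k1, k2, -, k3, k4⟩ := step hD hZ (d := d) (c := ⟨c, subset_closure c0⟩) x0 c0
    (fun e => hxc (congrArg Subtype.val e)) hN (f := f ∘ Subtype.val) (h3.symm ▸ h2.comp hf)
    (fun e => by
      rw [h3] at e
      refine hxc (mem_centralizer_singleton_iff.1 ((closure_le (centralizer {c})).2
        (fun y hy => mem_centralizer_singleton_iff.2 ?_) (h.gen x hx)))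
      exact ((m _ _ c0).1 (e ((m d ⟨y, subset_closure (s hy)⟩ x0).2 hy)).2).2.2.symm)
    ⟨⟨a, subset_closure (s ha)⟩, (m d _ x0).2 ha, (m _ _ c0).2 (mem_nb_symm ha.1 hc)⟩
  exact ⟨_, _, _, k1, by rintro _ ⟨y, hy, rfl⟩; exact k2.mem hy.1, k3, k4⟩

theorem trans {x a b : G} (hx : x ∈ D) (ha : a ∈ cp D x) (hb : b ∈ cp D x) :
    ∃ g ∈ closure (cp D x), cj g a = b := by
  have k : ∀ a ∈ cp D x, ∀ b ∈ D, Commute a b → ∃ g ∈ closure (cp D x), cj g a = b :=
    fun a ha b hb c => by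
      by_cases n : b = a
      · exact ⟨1, one_mem _, n ▸ cj_one _⟩
      obtain ⟨y, hy, h1, h2⟩ := h.third a ha.1 b ⟨hb, n, c⟩
      obtain ⟨g, h3, h4⟩ := h.one y hy.1 a (mem_nb_symm ha.1 hy) b ⟨hb, h1.symm, h2⟩
      exact ⟨g, closure_mono (Glob.nb_sub hT hx (Glob.nb_sub hT hx ha hy)) h3, h4⟩
  obtain ⟨w, hw, h1, h2⟩ := hT.near hx ha hb
  obtain ⟨g, hg, rfl⟩ := k a ha w hw h1
  obtain ⟨g', hg', rfl⟩ := k _ (hT.mem hx ha hw h1) b hb.1 h2
  exact ⟨g' * g, mul_mem hg' hg, cj_mul ..⟩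

theorem eq_or_eq {x a b y : G} (hx : x ∈ D) (ha : a ∈ cp D x) (hb : b ∈ cp D x) (hy : y ∈ cp D x)
    (n : a ≠ b) (c : Commute a b) (h1 : Commute (a * b) y) (h2 : y * (a * b) ∈ D) :
    y = a ∨ y = b := by
  obtain ⟨h3, h4⟩ := H51.Fi.comm2 (h.tt_cp hT hx) ha hb hy n h1
  by_contra hn
  push Not at hn
  exact h.nsq _ h2 (h.sq y hy.1 a ⟨ha.1, hn.1.symm, h3.symm⟩ b ⟨hb.1, hn.2.symm, h4.symm⟩ n c).2

variable (hF : Fix2 D)
include hF

theorem mem_cp {x y : G} (hx : x ∈ D) (hy : y ∈ D) (h2 : y * y = 1) (e : y ∈ closure (cp D x)) :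
    y ∈ cp D x := by
  obtain ⟨w, hw, c⟩ := hF x hx y (conj_mem_of_cl (h.tt_cp hT hx) (h.cl_cp hT hx) e) h2
  exact hT.mem hx hw hy c.symm

theorem near_of_eq [Finite G] {a b a' b' : G} (ha : a ∈ D) (hb : b ∈ D) (ha' : a' ∈ D)
    (hb' : b' ∈ D) (n : a ≠ b) (c : Commute a b) (c' : Commute a' b') (e : a * b = a' * b') :
    Near D a' a := by
  have a0 := self_mem_cp ha
  have b0 := hT.mem ha a0 hb c
  have a1 := self_mem_cp ha'
  have b1 := hT.mem ha' a1 hb' c'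
  have n' : a' ≠ b' := fun e' => n (eq_of_mul_eq_one' (h.inv b hb) (by rw [e, e', h.inv b' hb']))
  have z1 : a * b ∈ closure (cp D a') := e ▸ mul_mem (subset_closure a1) (subset_closure b1)
  refine (h.mem_cp hT hF ha' ha (h.inv a ha) (h.hept a ha b ⟨hb, n.symm, c⟩ _ fun y hy hyb => ?_)).2
  by_cases e1 : y = b
  · exact e1 ▸ z1
  have s1 : y * (a * b) ∉ D := fun m => h.nsq _ m
    (h.sq y hy.1 a (mem_nb_symm ha hy) b ⟨hb, Ne.symm e1, hyb⟩ n c).2
  have s2 : a' * (a * b) ∈ D := by rwa [e, mul_self_cancel_left (h.inv a' ha')]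
  have k : ∀ g ∈ centralizer {a * b}, ∀ s, s * (a * b) ∈ D → cj g s * (a * b) ∈ D := fun g hg s m => by
    have := h.conj g _ m
    rwa [cj_mul_cj, cj_of_commute (a := a * b) (mem_centralizer_singleton_iff.1 hg)] at this
  have cy : Commute y (a * b) := hy.2.2.symm.mul_right hyb
  have ca : Commute a' (a * b) := e ▸ (Commute.refl a').mul_right c'
  rcases dih (h.inv y hy.1) (h.inv a' ha') (K := centralizer {a * b})
    (mem_centralizer_singleton_iff.2 cy) (mem_centralizer_singleton_iff.2 ca) with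
    ⟨g, hg, e2⟩ | ⟨w, hw, w1, -, w3, w4, g, hg, g', hg', ⟨e2, e3⟩ | ⟨e2, e3⟩⟩
  · exact absurd (by simpa only [← e2, cj_inv_cj] using k _ (inv_mem hg) _ s2) s1
  · have hw' : Commute w (a * b) := mem_centralizer_singleton_iff.1 hw
    have m : w * a' ∈ D := e3 ▸ h.conj g' a' ha'
    rcases h.eq_or_eq hT ha' a1 b1 (hT.mem ha' a1 m (w4.symm.mul_right (Commute.refl _))) n' c'
      (e ▸ (hw'.mul_left ca).symm) (by rw [← e, ← e3]; exact k g' hg' _ s2) with e4 | e4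
    · exact absurd (mul_eq_right.1 e4) w1
    · refine absurd ?_ s1
      rw [cy.eq, e, c'.eq, ← e4, mul_assoc w, h.inv a' ha', mul_one, ← e2]
      exact h.conj g y hy.1
  · have hw' : Commute w (a * b) := mem_centralizer_singleton_iff.1 hw
    have m : w * y ∈ D := e2 ▸ h.conj g a' ha'
    have m' : w * a' ∈ D := e3 ▸ h.conj g' y hy.1
    have w5 : w ∈ closure (cp D a') := (mul_mem_cancel_right (subset_closure a1)).1
      (subset_closure (hT.mem ha' a1 m' (w4.symm.mul_right (Commute.refl _))))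
    rcases h.eq_or_eq hT ha a0 b0 (hT.mem ha (Glob.nb_sub hT ha a0 hy) m
      (w3.symm.mul_right (Commute.refl _))) n c (hw'.mul_left cy).symm
      (by rw [← e2]; exact k g hg _ s2) with e4 | e4
    · rwa [← e4, mul_assoc, h.inv y hy.1, mul_one]
    · have := mul_mem z1 w5
      rwa [show w = b * y by rw [← e4, mul_assoc, h.inv y hy.1, mul_one], mul_assoc,
        mul_self_cancel_left (h.inv b hb)] at this

theorem stab_of_commute [Finite G] {a b g : G} (ha : a ∈ D) (hb : b ∈ D) (n : a ≠ b)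
    (c : Commute a b) (hg : Commute g (a * b)) : ∀ y ∈ cp D a, cj g y ∈ cp D a := fun y hy => by
  have h1 := h.near_of_eq hT hF (h.conj g a ha) (h.conj g b hb) ha hb (fun e => n ((cj_inj g).1 e))
    ((commute_cj g).2 c) c (by rw [← cj_mul_cj, cj_of_commute hg])
  obtain ⟨hy, w, hw, c1, c2⟩ := hy
  exact ⟨h.conj g y hy, hT a ha _ (h.conj g a ha) _ (h.conj g y hy) h1
    ⟨_, h.conj g w hw, (commute_cj g).2 c1, (commute_cj g).2 c2⟩⟩

theorem mem_cp_of_commute [Finite G] {a b y : G} (ha : a ∈ D) (hb : b ∈ D) (n : a ≠ b)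
    (c : Commute a b) (hy : y ∈ D) (hg : Commute y (a * b)) : y ∈ cp D a := by
  obtain ⟨w, hw, c⟩ := hF a ha y (h.stab_of_commute hT hF ha hb n c hg) (h.inv y hy)
  exact hT.mem ha hw hy c.symm

theorem exists_cj_of_far [Finite G] {e y : G} (he : e ∈ D) (hy : y ∈ D) {K : Subgroup G}
    (h1 : e ∈ K) (h2 : y ∈ K) (hn : ¬ Near D y e) : ∃ g ∈ K, cj g e = y := by
  refine (dih (h.inv e he) (h.inv y hy) h1 h2).resolve_right ?_
  rintro ⟨w, -, w1, -, w3, w4, g, -, g', -, e1⟩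
  have m : w * e ∈ D ∧ w * y ∈ D := by
    rcases e1 with ⟨e1, e2⟩ | ⟨e1, e2⟩
    exacts [⟨e1 ▸ h.conj g e he, e2 ▸ h.conj g' y hy⟩, ⟨e1 ▸ h.conj g y hy, e2 ▸ h.conj g' e he⟩]
  exact hn (h.near_of_eq hT hF he m.1 hy m.2 (fun e' => w1 (mul_eq_right.1 e'.symm))
    (w3.symm.mul_right (Commute.refl _)) (w4.symm.mul_right (Commute.refl _)) (by
      rw [w3.eq, w4.eq, mul_self_cancel_left (h.inv e he), mul_self_cancel_left (h.inv y hy)]))

theorem near_all [Finite G] {a b e : G} (ha : a ∈ D) (hb : b ∈ nb D a) (he : e ∈ D) :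
    Near D a e := by
  by_contra hn
  have far : ∀ x ∈ cp D a, ¬ Near D x e := fun x hx e' => hn (hT a ha x hx.1 e he hx.2 e')
  have n := hb.2.1.symm
  have c := hb.2.2
  have a0 := self_mem_cp ha
  have b0 := Glob.nb_sub hT ha a0 hb
  have t2 : a * b * (a * b) = 1 := by
    rw [mul_assoc, c.symm.left_comm, h.inv b hb.1, mul_one, h.inv a ha]
  rcases dih t2 (h.inv e he) (K := ⊤) trivial trivial with
    ⟨g, -, e1⟩ | ⟨w, -, w1, w2, w3, w4, g, -, g', -, ⟨-, e2⟩ | ⟨e1, e2⟩⟩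
  · exact h.nsq e he (e1 ▸ isSquare_cj g (h.sq2 ha hb.1 n c))
  · obtain ⟨x, hx, c1⟩ := hF e he _ (h.stab_of_commute hT hF he (e2 ▸ h.conj g' e he : w * e ∈ D)
      (fun e' => w1 (mul_eq_right.1 e'.symm)) (w4.symm.mul_right (Commute.refl _))
      (by rw [w4.eq, mul_self_cancel_left (h.inv e he)]; exact w3.symm)) t2
    exact far x (h.mem_cp_of_commute hT hF ha hb.1 n c hx.1 c1.symm) hx.2.symm
  have m : w * (a * b) ∈ D := e1 ▸ h.conj g e he
  have c1 : Commute (w * (a * b)) (a * b) := w3.mul_left (Commute.refl _)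
  have e3 : w = a * b * (w * (a * b)) := by rw [w3.eq, mul_self_cancel_left t2]
  have m0 := h.mem_cp_of_commute hT hF ha hb.1 n c m c1
  generalize w * (a * b) = s at *
  obtain ⟨c2, c3⟩ := H51.Fi.comm2 (h.tt_cp hT ha) a0 b0 m0 n c1.symm
  by_cases n1 : s = a
  · refine far b b0 (near_of_commute he ?_)
    rwa [e3, n1, c.eq, mul_assoc, h.inv a ha, mul_one] at w4
  by_cases n2 : b = s
  · refine far a a0 (near_of_commute he ?_)
    rwa [e3, ← n2, mul_assoc, h.inv b hb.1, mul_one] at w4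
  obtain ⟨y, hy, c4, c5, h4⟩ := h.four a ha b hb s ⟨m, n1, c2⟩ n2 c3
  have c6 : Commute y w := e3 ▸ (hy.2.2.symm.mul_right c4).mul_right c5
  obtain ⟨k, hk, e4⟩ := h.exists_cj_of_far hT hF he hy.1 (K := centralizer {w})
    (mem_centralizer_singleton_iff.2 w4.symm) (mem_centralizer_singleton_iff.2 c6)
    (far y (Glob.nb_sub hT ha a0 hy))
  have e5 : cj (k * g') a * cj (k * g') b = a * (b * s * y) := by
    rw [← cj_mul_cj, cj_mul, e2, cj_mul_cj, e4, cj_of_commute (mem_centralizer_singleton_iff.1 hk), e3]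
    simp only [mul_assoc]
  have m1 := h.conj (k * g') a ha
  have m2 := h.conj (k * g') b hb.1
  have n3 : cj (k * g') a ≠ cj (k * g') b := fun e => n ((cj_inj _).1 e)
  have c7 := (commute_cj (k * g')).2 c
  have c8 : Commute a (cj (k * g') a * cj (k * g') b) :=
    e5 ▸ (Commute.refl a).mul_right ((c.mul_right c2).mul_right hy.2.2)
  obtain ⟨c9, c10⟩ := H51.Fi.comm2 (h.tt_cp hT m1) (self_mem_cp m1)
    (hT.mem m1 (self_mem_cp m1) m2 c7) (h.mem_cp_of_commute hT hF m1 m2 n3 c7 ha c8) n3 c8.symm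
  exact h4 _ m1 _ m2 c9.symm c10.symm c7 e5

end Glob2

theorem fix2_of_iso {C : Set G} (e : closure C ≃* Spor.Fi22) (he : e '' {y : closure C | (y : G) ∈ C} = D22)
    {g : G} (h1 : ∀ y ∈ C, cj g y ∈ C) (h2 : g * g = 1) : ∃ w ∈ C, Commute g w := by
  have k : ∀ y ∈ closure C, cj g y ∈ closure C := fun y hy => by
    have := mem_map_of_mem (MulAut.conj g).toMonoidHom hy
    rw [MonoidHom.map_closure] at this
    exact closure_mono (by rintro _ ⟨y, hy, rfl⟩; exact h1 y hy) this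
  have k2 : ∀ y, cj g (cj g y) = y := fun y => by rw [← cj_mul, h2, cj_one]
  let φ : MulAut (closure C) := ⟨⟨fun y => ⟨_, k _ y.2⟩, fun y => ⟨_, k _ y.2⟩,
    fun y => Subtype.ext (k2 _), fun y => Subtype.ext (k2 _)⟩, fun y y' => Subtype.ext (cj_mul_cj ..)⟩
  obtain ⟨w, hw, e1⟩ := H52.Fi.is22_T22.fix_of_aut (e.symm.trans (φ.trans e))
    (fun x => by
      simp only [MulEquiv.trans_apply, e.symm_apply_apply]
      exact e.eq_symm_apply.1 (Subtype.ext (k2 _)))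
    (by rw [← he]; rintro _ ⟨y, hy, rfl⟩; exact ⟨φ y, h1 _ hy, by simp⟩)
  rw [← he] at hw
  obtain ⟨y, hy, rfl⟩ := hw
  simp only [MulEquiv.trans_apply, e.symm_apply_apply] at e1
  exact ⟨y, hy, cj_eq_self_iff.1 (congrArg Subtype.val (e.injective e1))⟩

end

theorem Glob2.iso22 {G : Type*} [Group G] [Finite G] {D : Set G} (h : Glob2 D (nb D22 a22)) {a b : G}
    (ha : a ∈ D) (hb : b ∈ nb D a) : Nonempty (Subgroup.closure D ≃* Spor.Fi22) := by
  have hT : NT D := fun x hx y hy z hz => h.near_trans nice22.toBase cover22 hx hy hz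
  have k : ∀ x ∈ D, ∃ e : closure (cp D x) ≃* Spor.Fi22,
      e '' {y : closure (cp D x) | (y : G) ∈ cp D x} = D22 := fun x hx => by
    obtain ⟨d, c, f, k1, k2, k3, k4⟩ := h.exists_loc hT nice22 hx
    obtain ⟨g, hg, n, hn, e1⟩ := classify22 k2 k3
    obtain ⟨k, hk⟩ := k4 (cj g) _
      (by simpa only [F22.image_nb hg] using isChart_cj g (nb D22 a22)) e1
    exact core22 k1 hn hk
  have hF : Fix2 D := fun x hx g h1 h2 => let ⟨e, he⟩ := k x hx; fix2_of_iso e he h1 h2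
  obtain ⟨e, -⟩ := k a ha
  rw [show cp D a = D from Set.Subset.antisymm (fun _ e => e.1) fun e he =>
    ⟨he, h.near_all hT hF ha hb he⟩] at e
  exact ⟨e⟩

end Cfsg.Agent.F3
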