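/-
Project F3: `Fi₂₂` or its automorphism group from the centraliser of a transposition.
-/
import Cfsg.Agent.F3.RecB
import Cfsg.Agent.F3.RecC
import Cfsg.Agent.S2079

set_option autoImplicit false

namespace Cfsg.Agent.F3

open H22 H22.U6

section
open H95 H96 Subgroup

theorem iso_or_aut {G F : Type*} [Group G] [Group F] {K : Subgroup G} [K.Normal] (e : K ≃* F)
    (hF : Nat.card (Out F) = 2) (hc : ∀ z, (∀ k ∈ K, Commute z k) → z = 1) :
    Nonempty (G ≃* F) ∨ Nonempty (G ≃* MulAut F) := by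
  let f : G →* MulAut F := (MulAut.congr e).toMonoidHom.comp (MulAut.conjNormal : G →* MulAut K)
  have hf : Function.Injective f := (injective_iff_map_eq_one _).2 fun z hz => hc z fun g hg =>
    mul_inv_eq_iff_eq_mul.1 (congrArg (fun φ : MulAut K => (φ ⟨g, hg⟩ : G))
      ((MulAut.congr e).map_eq_one_iff.1 hz))
  have fk : ∀ y : F, f (e.symm y) = MulAut.conj y := fun y => by
    ext x
    show e (MulAut.conjNormal _ (e.symm x)) = y * x * y⁻¹
    rw [← e.eq_symm_apply, map_mul, map_mul, map_inv]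
    rfl
  have h1 : Inn F ≤ f.range := by rintro _ ⟨y, rfl⟩; exact ⟨_, fk y⟩
  have h2 : f.range.index ∣ 2 := hF ▸ index_dvd_of_le h1
  rcases (Nat.dvd_prime Nat.prime_two).1 h2 with h3 | h3
  · exact .inr ⟨MulEquiv.ofBijective f ⟨hf, MonoidHom.range_eq_top.1 (index_eq_one.1 h3)⟩⟩
  · have h4 := relIndex_mul_index h1
    rw [h3, show (Inn F).index = 2 from hF] at h4
    have h5 : f.range ≤ Inn F := relIndex_eq_one.1 (by omega)
    have h6 : K = ⊤ := (eq_top_iff' _).2 fun g => by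
      obtain ⟨y, hy⟩ := h5 ⟨g, rfl⟩
      exact hf ((fk y).trans hy) ▸ (e.symm y).2
    exact .inl ⟨(topEquiv.symm.trans (MulEquiv.subgroupCongr h6.symm)).trans e⟩

theorem Emb2.glob {H G G' : Type*} [Group H] [Group G] [Group G'] [Finite H] [Group.IsPerfect H]
    {π : H →* L6} {d : H} {t : Fin 6 → L6} {E : Set H} {p : Fin 6 → H} {j : H →* G}
    (hj : Emb2 j π d) (h : Cv π d E6 t E p) (hn : nb (conjugatesOf (j d)) (j d) = j '' E) {C : Set G'}
    {f : L6 → G'} (hf : IsChart E6 C f) : Glob2 (conjugatesOf (j d)) C := by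
  set D := conjugatesOf (j d)
  have hc : ∀ g, ∀ x ∈ D, cj g x ∈ D := fun g x hx => IsConj.trans hx (isConj_cj g x)
  have key : ∀ x ∈ D, ∃ i : H →* G, Emb2 i π d ∧ i d = x ∧ nb D x = i '' E := fun x hx => by
    obtain ⟨g, rfl⟩ := exists_cj hx
    refine ⟨H22.cjh g j, hj.cjh g, rfl, ?_⟩
    rw [← image_cj_eq hc g, ← image_cj_nb, hn, Set.image_image]; rfl
  have mc : ∀ (i : H →* G) y, i y ∈ closure (i '' E) := fun i y => by
    rw [← MonoidHom.map_closure, h.closureE]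
    exact ⟨y, trivial, rfl⟩
  have n : ∀ {i k : Fin 6}, i ≠ k → p i ≠ p k := fun e1 e2 => e1 (h.pinj e2)
  refine ⟨hc, fun x hx => ?_, fun x hx => hj.nsq h.toDC hx, fun x hx => ?_, fun x hx => ?_,
    fun x hx => ?_, fun x hx => ?_, fun x hx => ?_, fun x hx => ?_, fun x hx => ?_, fun x hx => ?_,
    fun x hx => ?_⟩ <;> obtain ⟨i, hi, rfl, e⟩ := key x hx <;> try rw [e]
  · rw [← map_mul, h.sq, map_one]
  · exact TT.image h.ttE i fun a ha e' => TT.ne_one h.ttE ha (hi.inj (e'.trans (map_one i).symm))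
  · obtain ⟨k, hk, -⟩ := (isChart_hom i hi.inj.injOn).exists_symm
      (cl_of_conj h.ttE fun g a ha => h.cl.conj g a ha)
    exact ⟨_, (hk.comp h.cl.isChart).comp hf⟩
  · rintro _ ⟨a, ha, rfl⟩ _ ⟨b, hb, rfl⟩ h1 h2
    obtain ⟨s1, s2⟩ := h.sq_pair ha hb (fun e => h1 (congrArg i e)) (h2.of_map hi.inj)
    exact ⟨map_mul i a b ▸ s1.map i, by simpa only [map_mul] using s2.map i⟩
  · rintro _ ⟨b, hb, rfl⟩ K hK
    obtain ⟨g, rfl⟩ := h.oneE hb
    have h1 : ∀ k, cj g (d * p k) ∈ K.comap i := fun k => by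
      rw [cj_mul_cj, h.toDC.cj_d, mem_comap, map_mul]
      exact hK _ ⟨_, h.cl.conj g _ (h.pmem k), rfl⟩ (((commute_cj g).2 (h.pcomm k 0)).map i)
    have h2 := mul_mem (mul_mem (mul_mem (mul_mem (mul_mem (h1 0) (h1 1)) (h1 2)) (h1 3)) (h1 4)) (h1 5)
    simp only [← cj_mul_cj] at h2
    rwa [h.flip.prod, h.toDC.cj_d] at h2
  · exact mc i d
  · intro z h1 h2
    refine hi.fa z h1 fun y => ⟨y, rfl, mul_inv_eq_iff_eq_mul.2 (mem_centralizer_singleton_iff.1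
      ((closure_le (centralizer {z})).2 (fun x hx => mem_centralizer_singleton_iff.2 ?_) (mc i y))).symm⟩
    exact (h2 x hx).symm
  · rintro _ ⟨a, ha, rfl⟩ _ ⟨b, hb, rfl⟩
    obtain ⟨g, rfl⟩ := exists_cj (h.isConjE ha hb).1
    exact ⟨i g, mc i g, (map_cj ..).symm⟩
  · rintro _ ⟨b, hb, rfl⟩
    obtain ⟨g, rfl⟩ := h.oneE hb
    exact ⟨_, ⟨_, h.cl.conj g _ (h.pmem 1), rfl⟩,
      fun e => n (by decide) ((cj_inj g).1 (hi.inj e)), ((commute_cj g).2 (h.pcomm 1 0)).map i⟩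
  · rintro _ ⟨a, ha, rfl⟩ _ ⟨b, hb, rfl⟩ h1 h2
    obtain ⟨c, hc', c1, c2, c3⟩ := h.exists_third ha hb (fun e => h1 (congrArg i e)) (h2.of_map hi.inj)
    refine ⟨_, ⟨c, hc', rfl⟩, c1.map i, c2.map i, fun u hu v hv c4 c5 c6 e' => ?_⟩
    have k : ∀ u ∈ D, Commute (i d) u → ∃ y, (y = d ∨ y ∈ E) ∧ i y = u := fun u hu c => by
      by_cases e1 : u = i d
      · exact ⟨d, Or.inl rfl, e1.symm⟩
      · obtain ⟨y, hy, e2⟩ := e.le ⟨hu, e1, c⟩
        exact ⟨y, Or.inr hy, e2⟩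
    obtain ⟨u, hu', rfl⟩ := k u hu c4
    obtain ⟨v, hv', rfl⟩ := k v hv c5
    exact h.not_two (h.conj_d_of c3) hu' hv' (c6.of_map hi.inj)
      (hi.inj (by simpa only [map_mul] using e'))

end

theorem Emb2.aut {H G : Type*} [Group H] [Group G] [Finite G] [Group.IsPerfect H] {j : H →* G}
    {π : H →* L6} {d : H} (h : Emb2 j π d) (hd : DC π d)
    (hn : ∃ g : G, g * j d * g⁻¹ ≠ j d ∧ Commute (g * j d * g⁻¹) (j d)) :
    Spor.IsoFi22 G ∨ Nonempty (G ≃* MulAut Spor.Fi22) := by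
  have := Finite.of_injective j h.inj
  obtain ⟨g, g1, g2⟩ := hn
  have hb : g * j d * g⁻¹ ∈ H96.nb (conjugatesOf (j d)) (j d) := ⟨isConj_iff.2 ⟨g, rfl⟩, g1, g2.symm⟩
  obtain ⟨t, E, p, hC, h1⟩ := h.nb_eq hd ⟨_, hb⟩
  obtain ⟨f, hf⟩ := U6.chart_E6
  have hG := h.glob hC h1 hf
  have ha : j d ∈ conjugatesOf (j d) := IsConj.refl _
  obtain ⟨e⟩ := hG.iso22 ha hb
  have : (Subgroup.closure (conjugatesOf (j d))).Normal := ⟨fun x hx g => by
    have := Subgroup.mem_map_of_mem (MulAut.conj g).toMonoidHom hx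
    rw [MonoidHom.map_closure] at this
    exact Subgroup.closure_mono (by rintro _ ⟨y, hy, rfl⟩; exact hG.conj g y hy) this⟩
  refine iso_or_aut e S2079.result fun z hz => ?_
  have k : ∀ x ∈ conjugatesOf (j d), z = 1 ∨ z = x := fun x hx =>
    hG.cc x hx z (hz x (Subgroup.subset_closure hx)) fun y hy => hz y (Subgroup.subset_closure hy.1)
  exact (k _ ha).elim id fun e1 => (k _ hb.1).resolve_right fun e2 => g1 (e2.symm.trans e1)

end Cfsg.Agent.F3
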