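import Cfsg.Agent.F3.W2
import Cfsg.Agent.F3.Qa
import Cfsg.Agent.T3.Fr0

set_option autoImplicit false

namespace Cfsg.Agent.F3

open Subgroup H49 T3.Fr2

variable {G : Type*} [Group G] [Finite G] {z : G} {Q R : Subgroup G} {Qs : Fin 3 → Subgroup G}
  {r : Fin 3 → G}

theorem top_s1 : ∀ X : S2, X ^ 3 = 1 → X ≠ 1 → ∀ A : S2, A ^ 4 = 1 →
    A * (X * A * X⁻¹) * (X * (X * A * X⁻¹) * X⁻¹) = 1 ∨ A * (X * A * X⁻¹) * (X * (X * A * X⁻¹) * X⁻¹) = S2.nI := by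
  decide +kernel
theorem top_s2 : ∀ X : S2, X ^ 3 = 1 → X ≠ 1 → X ^ 4 ≠ 1 := by decide +kernel
theorem top_s3 : ∃ A B : S2, A ^ 4 = 1 ∧ B ^ 4 = 1 ∧ A * B * A⁻¹ * B⁻¹ ≠ 1 := by decide +kernel
theorem top_s4 : ∀ X : S2, X ^ 3 = 1 → X ≠ 1 → ∀ Y : S2, Y ^ 3 = 1 → (Y * X⁻¹) ^ 4 = 1 →
    ∃ A : S2, A ^ 4 = 1 ∧ A * Y * A⁻¹ * X⁻¹ = 1 := by decide +kernel
theorem top_s5 : ∀ X : S2, X ^ 3 = 1 → ∀ Y : S2, Y ^ 3 = 1 → Y * X⁻¹ * S2.nI ≠ 1 := by decide +kernel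
theorem top_s6 : ∀ X : S2, X ^ 3 = 1 → X ≠ 1 → ∀ A : S2, A ^ 4 = 1 → A * X * A⁻¹ * X⁻¹ = 1 →
    A = 1 ∨ A = S2.nI := by decide +kernel
theorem top_p1 : ∀ p q : Equiv.Perm (Fin 3), p 0 = 0 → q 0 = 0 → (∀ i, p i = i) ∨ (∀ i, q i = i) ∨
    ∀ i, (p * q) i = i := by decide
theorem top_p2 : ∀ p : Equiv.Perm (Fin 3), p 0 = 0 → (∀ i, p i = i) ∨ (p 1 = 2 ∧ p 2 = 1) := by decide

variable {a b : Fin 3 → G} {x s : G} {L : Subgroup G}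

theorem B1.top_step (h : B1 z Q Qs r R) (f : ∀ i, Fm z (Qs i) (r i) (a i) (b i)) {g : G} (hg : g ∈ qaB z Qs)
    (i : Fin 3) (e : mat z (a i) (b i) g = 1 ∨ mat z (a i) (b i) g = S2.nI) : ∃ p ∈ zpowers (r i),
      mat z (a i) (b i) (g * p) = 1 ∧ ∀ j, j ≠ i → mat z (a j) (b j) (g * p) = mat z (a j) (b j) g := by
  rcases e with e | e
  · exact ⟨1, one_mem _, by rwa [mul_one], fun _ _ => by rw [mul_one]⟩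
  · refine ⟨r i, mem_zpowers _, ?_, fun j hj => ?_⟩
    · rw [(h.qa_ph f i).mul _ hg _ (h.qa_R (h.rR i)), e, h.qa_r f, S2.nI_sq]
    · rw [(h.qa_ph f j).mul _ hg _ (h.qa_R (h.rR i)), h.qa_c f (h.rc i j hj.symm), mul_one]

theorem B1.top_pm (h : B1 z Q Qs r R) (f : ∀ i, Fm z (Qs i) (r i) (a i) (b i)) {g : G} (hg : g ∈ qaB z Qs)
    (e : ∀ i, mat z (a i) (b i) g = 1 ∨ mat z (a i) (b i) g = S2.nI) {K : Subgroup G} (hK : ∀ i, r i ∈ K) :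
    ∃ p ∈ K, g * p ∈ Q := by
  have m : ∀ i, zpowers (r i) ≤ qaB z Qs := fun i => zpowers_le.2 (h.qa_R (h.rR i))
  obtain ⟨p0, m0, a0, b0⟩ := h.top_step f hg 0 (e 0)
  have g0 := mul_mem hg (m 0 m0)
  obtain ⟨p1, m1, a1, b1⟩ := h.top_step f g0 1 (by rw [b0 1 (by decide)]; exact e 1)
  have g1 := mul_mem g0 (m 1 m1)
  obtain ⟨p2, m2, a2, b2⟩ := h.top_step f g1 2 (by rw [b1 2 (by decide), b0 2 (by decide)]; exact e 2)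
  refine ⟨p0 * p1 * p2, mul_mem (mul_mem (zpowers_le.2 (hK 0) m0) (zpowers_le.2 (hK 1) m1))
    (zpowers_le.2 (hK 2) m2), ?_⟩
  rw [← mul_assoc, ← mul_assoc]
  refine h.qa_ker f (mul_mem g1 (m 2 m2)) fun i => ?_
  fin_cases i
  · exact (b2 0 (by decide)).trans ((b1 0 (by decide)).trans a0)
  · exact (b2 1 (by decide)).trans a1
  · exact a2

theorem BX.top_R (h : BX z Q Qs r R x s) (hn : 𝒞[r 0] ≤ 𝒩(L)) (hr : ∀ i, r i ∈ L) (hQ : Q ⊓ 𝒞[r 0] ≤ L) :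
    x ∈ L ∧ R ≤ L := by
  obtain ⟨a, b, f⟩ := h.exists_fm
  have xL : x ∈ L := by
    obtain ⟨g, hg, rfl⟩ := h.xc
    exact conj_mem_of_norm hn hg (hQ ⟨h.zQ, mem_cent1_comm.1 (h.rz 0)⟩)
  refine ⟨xL, fun ρ hρ => ?_⟩
  have xc : x ∈ 𝒞[r 0] := mem_cent1.2 (h.xr 0)
  have c := h.Rr 0 hρ
  have key : ∀ K : Subgroup G, x ∈ K → ρ ∈ K → ρ * (x * ρ * x⁻¹) * (x * (x * ρ * x⁻¹) * x⁻¹) ∈ K := fun K k1 k2 => by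
    have := mul_mem (mul_mem k1 k2) (inv_mem k1)
    exact mul_mem (mul_mem k2 this) (mul_mem (mul_mem k1 this) (inv_mem k1))
  have ρB := h.qa_R hρ
  have m1 := mul_mem (mul_mem h.qa_x ρB) (inv_mem h.qa_x)
  obtain ⟨p, hp, k⟩ := h.top_pm f (key _ h.qa_x ρB) (K := L ⊓ 𝒞[r 0]) (fun i => by
    rw [(h.qa_ph f i).mul _ (mul_mem ρB m1) _ (mul_mem (mul_mem h.qa_x m1) (inv_mem h.qa_x)),
      (h.qa_ph f i).mul _ ρB _ m1, (h.qa_ph f i).conj h.qa_x m1, (h.qa_ph f i).conj h.qa_x ρB]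
    exact top_s1 _ (h.qa_X f i).1 (h.qa_X f i).2 _ (by rw [← (h.qa_ph f i).pow ρB, h.R4 hρ, (h.qa_ph f i).one]))
    fun i => ⟨hr i, h.Rr 0 (h.rR i)⟩
  have k1 := (L.mul_mem_cancel_right hp.1).1 (hQ ⟨k, mul_mem (key _ xc c) hp.2⟩)
  have k2 := mul_mem (conj_mem_of_norm hn c xL) (conj_mem_of_norm hn (mul_mem c c) xL)
  have k3 := mul_mem (mul_mem (inv_mem k2) k1) (mul_mem xL xL)
  rw [show (ρ * x * ρ⁻¹ * (ρ * ρ * x * (ρ * ρ)⁻¹))⁻¹ * (ρ * (x * ρ * x⁻¹) * (x * (x * ρ * x⁻¹) * x⁻¹)) * (x * x) =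
    ρ * (ρ * ρ) by simp only [mul_inv_rev, inv_inv, mul_assoc, inv_mul_cancel_left, inv_mul_cancel, mul_one],
    ← pow_three, eq_inv_of_mul_eq_one_left ((pow_succ ρ 3).symm.trans (h.R4 hρ))] at k3
  exact inv_mem_iff.1 k3

theorem BX.top_B (h : BX z Q Qs r R x s) (hn : 𝒞[r 0] ≤ 𝒩(L)) (hr : ∀ i, r i ∈ L) (hQ : Q ⊓ 𝒞[r 0] ≤ L) {g : G}
    (hg : g ∈ qaB z Qs) (c : g ∈ 𝒞[r 0]) : g ∈ L := by
  obtain ⟨a, b, f⟩ := h.exists_fm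
  obtain ⟨xL, RL⟩ := h.top_R hn hr hQ
  obtain ⟨k, hk⟩ := S2.coset _ (mat z (a 0) (b 0) g) (top_s2 _ (h.qa_X f 0).1 (h.qa_X f 0).2)
  have m := mul_mem hg (inv_mem (pow_mem h.qa_x k))
  obtain ⟨q, hq, ρ, hρ, e⟩ := h.mem_QR (h.max _ m.1 (qa_memB.1 m).2 (h.qa_four f m (i := 0) (by
    rwa [(h.qa_ph f 0).div hg (pow_mem h.qa_x k), (h.qa_ph f 0).pow h.qa_x])))
  refine (L.mul_mem_cancel_right (inv_mem (pow_mem xL k))).1 (e ▸ mul_mem (hQ (mem_inf.2 ⟨hq, ?_⟩)) (RL hρ))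
  rw [eq_mul_inv_of_mul_eq e.symm]
  exact mul_mem (mul_mem c (inv_mem (pow_mem (mem_cent1.2 (h.xr 0)) k))) (inv_mem (h.Rr 0 hρ))

theorem BX.top_inv (h : BX z Q Qs r R x s) (hn : 𝒞[r 0] ≤ 𝒩(L)) (hr : ∀ i, r i ∈ L) (hQ : Q ⊓ 𝒞[r 0] ≤ L) {τ : G}
    (hz : τ ∈ 𝒞[z]) (c : τ ∈ 𝒞[r 0]) (hL : τ ∉ L) : ∃ t ∈ 𝒞[r 0], t ∉ L ∧ t * t = 1 := by
  obtain ⟨a, b, f⟩ := h.exists_fm
  obtain ⟨xL, RL⟩ := h.top_R hn hr hQ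
  obtain ⟨σ, h1, h2⟩ := h.permHom
  have p0 := (h.hp (f 0)).ph
  have xc : x ∈ 𝒞[r 0] := mem_cent1.2 (h.xr 0)
  have X := h.qa_X f
  have sq : ∀ {τ}, τ ∈ 𝒞[z] → τ ∈ 𝒞[r 0] → τ * τ ∈ qaB z Qs := fun {τ} hz c =>
    qa_memB.2 ⟨mul_mem hz hz, fun i => (h2 (⟨τ, hz⟩ * ⟨τ, hz⟩) i).2 (by
      have := (h2 ⟨τ, hz⟩ 0).1 (h.qa_n0 hz c)
      rw [map_mul]
      rcases top_p1 _ _ this this with k | k | k
      · rw [Equiv.Perm.mul_apply, k, k]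
      · rw [Equiv.Perm.mul_apply, k, k]
      · exact k i)⟩
  have cB : ∀ {τ g}, τ ∈ 𝒞[z] → g ∈ qaB z Qs → τ * g * τ⁻¹ ∈ qaB z Qs := fun {τ g} hz hg =>
    qa_memB.2 ⟨mul_mem (mul_mem hz hg.1) (inv_mem hz), fun i => (h2 (⟨τ, hz⟩ * ⟨g, hg.1⟩ * ⟨τ, hz⟩⁻¹) i).2 (by
      rw [map_mul, map_mul, Equiv.Perm.mul_apply, Equiv.Perm.mul_apply, (h2 ⟨g, hg.1⟩ _).1 ((qa_memB.1 hg).2 _),
        ← Equiv.Perm.mul_apply, ← map_mul, mul_inv_cancel, map_one, Equiv.Perm.one_apply])⟩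
  -- step 1: trivial on the first factor
  obtain ⟨τ, hz, c, hL, e0⟩ : ∃ τ ∈ 𝒞[z], τ ∈ 𝒞[r 0] ∧ τ ∉ L ∧ mat z (a 0) (b 0) τ = 1 := by
    have n : τ ∈ 𝒞[z] ⊓ 𝒩(Qs 0) := ⟨hz, h.qa_n0 hz c⟩
    obtain ⟨k, hk⟩ := S2.coset _ (mat z (a 0) (b 0) τ) (top_s2 _ (X 0).1 (X 0).2)
    obtain ⟨u, hu, e⟩ := (h.qa_K f (i := 1) (j := 0) (k := 2) (by decide) (by decide) (by decide)).2 _ hk
    have m := qa_le 0 (pow_mem h.qa_x k)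
    refine ⟨τ * (x ^ k.val)⁻¹ * u⁻¹, mul_mem (mul_mem hz (inv_mem m.1)) (inv_mem (h.Rc hu.1)),
      mul_mem (mul_mem c (inv_mem (pow_mem xc k))) (inv_mem (h.Rr 0 hu.1)), ?_, ?_⟩
    · rwa [L.mul_mem_cancel_right (inv_mem (RL hu.1)), L.mul_mem_cancel_right (inv_mem (pow_mem xL k))]
    · rw [p0.div (mul_mem n (inv_mem m)) (qa_le 0 (h.qa_R hu.1)), p0.div n m, p0.pow (qa_le 0 h.qa_x), e,
        mul_inv_cancel]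
  -- step 2: commuting with `x` modulo `Q`
  obtain ⟨τ, hz, c, hL, e0, e1⟩ : ∃ τ ∈ 𝒞[z], τ ∈ 𝒞[r 0] ∧ τ ∉ L ∧ mat z (a 0) (b 0) τ = 1 ∧
      τ * x * τ⁻¹ * x⁻¹ ∈ Q := by
    have n : τ ∈ 𝒞[z] ⊓ 𝒩(Qs 0) := ⟨hz, h.qa_n0 hz c⟩
    have y3 : ∀ τ ∈ 𝒞[z], ∀ i, mat z (a i) (b i) (τ * x * τ⁻¹) ^ 3 = 1 := fun τ hz i => by
      rw [← (h.qa_ph f i).pow (cB hz h.qa_x), conj_pow, h.x3, mul_one, mul_inv_cancel, (h.qa_ph f i).one]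
    have y0 : ∀ τ ∈ 𝒞[z] ⊓ 𝒩(Qs 0), mat z (a 0) (b 0) τ = 1 → mat z (a 0) (b 0) (τ * x * τ⁻¹ * x⁻¹) = 1 :=
      fun τ n e0 => by
        rw [(h.qa_ph f 0).div (cB n.1 h.qa_x) h.qa_x, p0.conj n (qa_le 0 h.qa_x), e0]; group
    have m := mul_mem (cB hz h.qa_x) (inv_mem h.qa_x)
    obtain ⟨A, a4, e⟩ := top_s4 _ (X 1).1 (X 1).2 _ (y3 τ hz 1) (by
      rw [← (h.qa_ph f 1).div (cB hz h.qa_x) h.qa_x, ← (h.qa_ph f 1).pow m]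
      exact (h.hp (f 1)).mat_Q (h.qa_four f m (i := 0) (by rw [y0 τ n e0, one_pow])))
    obtain ⟨u, hu, rfl⟩ := (h.qa_K f (i := 2) (j := 1) (k := 0) (by decide) (by decide) (by decide)).2 _ a4
    have uB := h.qa_R hu.1
    have n' := mul_mem (qa_le 0 uB) n
    have e0' : mat z (a 0) (b 0) (u * τ) = 1 := by rw [p0.mul _ (qa_le 0 uB) _ n, e0, h.qa_c f hu.2, mul_one]
    refine ⟨u * τ, n'.1, mul_mem (h.Rr 0 hu.1) c, by rwa [L.mul_mem_cancel_left (RL hu.1)], e0', ?_⟩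
    have m' := mul_mem (cB n'.1 h.qa_x) (inv_mem h.qa_x)
    refine (h.qa_n2 m' (i := 2) fun j hj => (h.qa_tv f m' j).2 ?_).resolve_right fun k =>
      top_s5 _ (X 2).1 _ (y3 _ n'.1 2) ?_
    · rcases qa_third 2 0 1 j (by decide) (by decide) (by decide) hj with rfl | rfl
      · exact y0 _ n' e0'
      · rw [(h.qa_ph f 1).div (cB n'.1 h.qa_x) h.qa_x, show u * τ * x * (u * τ)⁻¹ = u * (τ * x * τ⁻¹) * u⁻¹ by group,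
          (h.qa_ph f 1).conj uB (cB hz h.qa_x), e]
    · rw [← (h.qa_ph f 2).div (cB n'.1 h.qa_x) h.qa_x, ← h.qa_r f 2, ← (h.qa_ph f 2).mul _ m' _ (h.qa_R (h.rR 2))]
      exact (h.hp (f 2)).mat_Q k
  -- step 3
  have fin : ∀ τ ∈ 𝒞[r 0], τ ∉ L → τ * τ ∈ Q → ∃ t ∈ 𝒞[r 0], t ∉ L ∧ t * t = 1 := fun τ c hL k =>
    ⟨τ * τ * τ, mul_mem (mul_mem c c) c, by rwa [L.mul_mem_cancel_left (hQ ⟨k, mul_mem c c⟩)], by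
      rw [← h.exp _ k, pow_three]; group⟩
  have n : τ ∈ 𝒞[z] ⊓ 𝒩(Qs 0) := ⟨hz, h.qa_n0 hz c⟩
  obtain ⟨s1, s2⟩ := (top_p2 _ ((h2 ⟨τ, hz⟩ 0).1 n.2)).resolve_left fun k =>
    hL (h.top_B hn hr hQ (qa_memB.2 ⟨hz, fun i => (h2 ⟨τ, hz⟩ i).2 (k i)⟩) c)
  have t1 : cj τ (Qs 1) = Qs 2 := s1 ▸ h1 ⟨τ, hz⟩ 1
  have t2 : cj τ (Qs 2) = Qs 1 := s2 ▸ h1 ⟨τ, hz⟩ 2
  have w := sq hz c
  have w0 : mat z (a 0) (b 0) (τ * τ) = 1 := by rw [p0.mul _ n _ n, e0, mul_one]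
  have w4 := h.qa_four f w (i := 0) (by rw [w0, one_pow])
  have pm : ∀ i, mat z (a i) (b i) (τ * τ) = 1 ∨ mat z (a i) (b i) (τ * τ) = S2.nI := fun i =>
    top_s6 _ (X i).1 (X i).2 _ (by rw [← (h.qa_ph f i).pow w]; exact (h.hp (f i)).mat_Q w4) (by
      rw [← (h.qa_ph f i).conj w h.qa_x, ← (h.qa_ph f i).div (cB w.1 h.qa_x) h.qa_x,
        show τ * τ * x * (τ * τ)⁻¹ * x⁻¹ = τ * (τ * x * τ⁻¹ * x⁻¹) * τ⁻¹ * (τ * x * τ⁻¹ * x⁻¹) by group]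
      exact (h.hp (f i)).mat_Q (mul_mem (Fa.conjQ h.toE1 hz e1) e1))
  have tv : ∀ i j, cj τ (Qs i) = Qs j → mat z (a i) (b i) (τ * τ) = 1 → mat z (a j) (b j) (τ * τ) = 1 :=
    fun i j e k => (h.qa_tv f w j).1 fun q hq => by
      obtain ⟨y, hy, rfl⟩ := mem_cj'.1 (e ▸ hq : q ∈ cj τ (Qs i))
      have k1 := (h.qa_tv f w i).2 k y hy
      rwa [show τ * τ * (τ * y * τ⁻¹) * (τ * τ)⁻¹ * (τ * y * τ⁻¹)⁻¹ = τ * (τ * τ * y * (τ * τ)⁻¹ * y⁻¹) * τ⁻¹ by group,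
        T3.conj_Z k1 hz]
  by_cases k1 : mat z (a 1) (b 1) (τ * τ) = 1
  · refine fin τ c hL (h.qa_ker f w fun i => ?_)
    fin_cases i
    exacts [w0, k1, tv 1 2 t1 k1]
  have k2 := (pm 2).resolve_left fun k => k1 (tv 2 1 t2 k)
  replace k1 := (pm 1).resolve_left k1
  refine fin (τ * r 2) (mul_mem c (h.Rr 0 (h.rR 2))) (by rwa [L.mul_mem_cancel_right (hr 2)]) ?_
  rw [show τ * r 2 * (τ * r 2) = τ * r 2 * τ⁻¹ * r 1 * ((r 1)⁻¹ * (τ * τ) * r 2) by group]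
  have r1 := h.qa_R (h.rR 1)
  have r2 := h.qa_R (h.rR 2)
  refine mul_mem (h.qa_rconj hz t2) (h.qa_ker f (mul_mem (mul_mem (inv_mem r1) w) r2) fun i => ?_)
  rw [(h.qa_ph f i).mul _ (mul_mem (inv_mem r1) w) _ r2, (h.qa_ph f i).mul _ (inv_mem r1) _ w, (h.qa_ph f i).inv r1]
  fin_cases i
  · exact (congrArg₂ _ (congrArg₂ _ (congrArg _ (h.qa_c f (h.rc 1 0 (by decide)))) w0)
      (h.qa_c f (h.rc 2 0 (by decide)))).trans (by decide +kernel)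
  · exact (congrArg₂ _ (congrArg₂ _ (congrArg _ (h.qa_r f 1)) k1)
      (h.qa_c f (h.rc 2 1 (by decide)))).trans (by decide +kernel)
  · exact (congrArg₂ _ (congrArg₂ _ (congrArg _ (h.qa_c f (h.rc 1 2 (by decide)))) k2)
      (h.qa_r f 2)).trans (by decide +kernel)

theorem BX.top {x s : G} (h : BX z Q Qs r R x s) {L : Subgroup G} (hn : 𝒞[r 0] ≤ 𝒩(L))
    (hr : ∀ i, r i ∈ L) (hQ : Q ⊓ 𝒞[r 0] ≤ L) (fr : ∀ g ∈ 𝒞[r 0], ∃ k ∈ L ⊓ 𝒞[r 0], k * g ∈ 𝒞[z]) :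
    (∃ u ∈ L, ∃ v ∈ L, r 0 = u * v * u⁻¹ * v⁻¹) ∧
    (∀ u ∈ 𝒞[r 0], ∀ v ∈ 𝒞[r 0], u ∉ L → v ∉ L → u * v ∈ L) ∧
    (𝒞[r 0] ≤ L ∨ ∃ t ∈ 𝒞[r 0], t ∉ L ∧ t * t = 1) ∧
    ((∀ g ∈ 𝒞[z], g ∈ 𝒩(Qs 0) → Ba Qs g) → 𝒞[r 0] ≤ L) ∧
    ∃ g : G, g * r 0 * g⁻¹ ≠ r 0 ∧ Commute (g * r 0 * g⁻¹) (r 0) := by
  obtain ⟨a, b, f⟩ := h.exists_fm
  obtain ⟨xL, RL⟩ := h.top_R hn hr hQ
  obtain ⟨σ, h1, h2⟩ := h.permHom
  refine ⟨?_, fun u hu v hv uL vL => ?_, ?_, fun hb g hg => ?_, ?_⟩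
  · obtain ⟨A, B, a4, b4, n⟩ := top_s3
    obtain ⟨u, hu, rfl⟩ := (h.qa_K f (i := 1) (j := 0) (k := 2) (by decide) (by decide) (by decide)).2 _ a4
    obtain ⟨v, hv, rfl⟩ := (h.qa_K f (i := 2) (j := 0) (k := 1) (by decide) (by decide) (by decide)).2 _ b4
    rw [mem_inf] at hu hv
    have m := mul_mem (mul_mem hu.1 hv.1) (inv_mem hu.1)
    refine ⟨u, RL hu.1, v, RL hv.1, ((h.qa_kerR (mul_mem m (inv_mem hv.1)) fun j hj => qa_tvc ?_).resolve_left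
      fun k => n ?_).symm⟩
    · rcases qa_third 0 1 2 j (by decide) (by decide) (by decide) hj with rfl | rfl
      · exact mul_mem (conj_mem_of_norm (norm_cent (h.RN 1)) hu.1 hv.2) (inv_mem hv.2)
      · rw [mul_assoc, mul_assoc, ← mul_assoc v]
        exact mul_mem hu.2 (conj_mem_of_norm (norm_cent (h.RN 2)) hv.1 (inv_mem hu.2))
    · rw [← (h.qa_ph f 0).conj (h.qa_R hu.1) (h.qa_R hv.1), ← (h.qa_ph f 0).div (h.qa_R m) (h.qa_R hv.1), k,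
        (h.qa_ph f 0).one]
  · obtain ⟨k, hk, ku⟩ := fr u hu
    obtain ⟨l, hl, lv⟩ := fr v hv
    have c1 := mul_mem hk.2 hu
    have c2 := mul_mem hl.2 hv
    rcases top_p1 _ _ ((h2 ⟨_, ku⟩ 0).1 (h.qa_n0 ku c1)) ((h2 ⟨_, lv⟩ 0).1 (h.qa_n0 lv c2)) with e | e | e
    · exact absurd ((L.mul_mem_cancel_left hk.1).1
        (h.top_B hn hr hQ (qa_memB.2 ⟨ku, fun i => (h2 ⟨_, ku⟩ i).2 (e i)⟩) c1)) uL
    · exact absurd ((L.mul_mem_cancel_left hl.1).1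
        (h.top_B hn hr hQ (qa_memB.2 ⟨lv, fun i => (h2 ⟨_, lv⟩ i).2 (e i)⟩) c2)) vL
    · have := h.top_B hn hr hQ (qa_memB.2 ⟨mul_mem ku lv, fun i => (h2 (⟨_, ku⟩ * ⟨_, lv⟩) i).2
        (by rw [map_mul]; exact e i)⟩) (mul_mem c1 c2)
      rwa [show k * u * (l * v) = k * (u * l * u⁻¹) * (u * v) by group,
        L.mul_mem_cancel_left (mul_mem hk.1 (conj_mem_of_norm hn hu hl.1))] at this
  · refine or_iff_not_imp_left.2 fun n => ?_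
    obtain ⟨g, hg, gL⟩ := SetLike.not_le_iff_exists.1 n
    obtain ⟨k, hk, e⟩ := fr g hg
    exact h.top_inv hn hr hQ e (mul_mem hk.2 hg) (by rwa [L.mul_mem_cancel_left hk.1])
  · obtain ⟨k, hk, e⟩ := fr g hg
    have c := mul_mem hk.2 hg
    exact (L.mul_mem_cancel_left hk.1).1 (h.top_B hn hr hQ (qa_memB.2 ⟨e, hb _ e (h.qa_n0 e c)⟩) c)
  · obtain ⟨q, -, e⟩ := h.conj_inv (by rw [_root_.conj_mul, h.rr, mul_one, mul_inv_cancel]) (h.rr _)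
      (h.qa_rconj h.sz (h1 ⟨s, h.sz⟩ 0))
    refine ⟨q * s, ?_⟩
    rw [show q * s * r 0 * (q * s)⁻¹ = q * (s * r 0 * s⁻¹) * q⁻¹ by group, e]
    exact ⟨fun k => h.r_ne (mt (h2 ⟨s, h.sz⟩ 0).2 (h.sT 0)) (by rw [k, h.rr]; exact one_mem _),
      mem_cent1.1 (h.Rr 0 (h.rR _))⟩

end Cfsg.Agent.F3
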