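import Cfsg.Agent.F3.Fa

set_option autoImplicit false

namespace Cfsg.Agent.F3

open Subgroup H49 T3.Fr2

variable {G : Type*} [Group G] [Finite G] {z : G} {Q R : Subgroup G} {Qs : Fin 3 → Subgroup G}
  {r : Fin 3 → G}

namespace Bas1a

omit [Finite G]

theorem mz {g c : G} : g * c * g⁻¹ ∈ zpowers (g * z * g⁻¹) ↔ c ∈ zpowers z := by rw [← cj_zpowers, conj_mem_cj]

theorem mc {g c : G} : g * c * g⁻¹ ∈ 𝒞[g * z * g⁻¹] ↔ c ∈ 𝒞[z] := by rw [← cj_cent1, conj_mem_cj]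

theorem exc (g x : G) : ∃ y, x = g * y * g⁻¹ := ⟨g⁻¹ * x * g, by group⟩

theorem tv_mul (h : E1 z Q) {g q q' : G} (hq : q ∈ Q) (e : g * q' * g⁻¹ * q'⁻¹ ∈ zpowers z) :
    g * (q * q') * g⁻¹ * (q * q')⁻¹ = g * q * g⁻¹ * q⁻¹ * (g * q' * g⁻¹ * q'⁻¹) := by
  rw [← Z_conj (h.Qc hq) e]; group

theorem sqZ (h : E1 z Q) {q : G} (hq : q ∈ Q) (e : q * q ∈ zpowers z) : q ∈ zpowers z := by
  have k := h.exp q hq
  rw [pow_three'] at k
  rw [eq_inv_of_mul_eq_one_right k]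
  exact inv_mem e

theorem canc {H : Subgroup G} {u : Fin 3 → G} (i : Fin 3) (h : u 0 * u 1 * u 2 ∈ H) (hj : ∀ j, j ≠ i → u j ∈ H) :
    u i ∈ H := by
  fin_cases i
  · exact (mul_mem_cancel_right (hj 1 (by decide))).1 ((mul_mem_cancel_right (hj 2 (by decide))).1 h)
  · exact (mul_mem_cancel_left (hj 0 (by decide))).1 ((mul_mem_cancel_right (hj 2 (by decide))).1 h)
  · exact (mul_mem_cancel_left (mul_mem (hj 0 (by decide)) (hj 1 (by decide)))).1 h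

theorem fill {H : Subgroup G} {u : Fin 3 → G} (i : Fin 3) (h : u i ∈ H) (hj : ∀ j, j ≠ i → u j ∈ H) :
    u 0 * u 1 * u 2 ∈ H := by
  have k : ∀ j, u j ∈ H := fun j => if e : j = i then e ▸ h else hj j e
  exact mul_mem (mul_mem (k 0) (k 1)) (k 2)

theorem cenQ (h : B2 z Q Qs r R) {a : G} (ha : a ∈ Q) (hc : ∀ j, a ∈ 𝒞(Qs j)) : a ∈ zpowers z := by
  have k : a ∈ 𝒞(Q) := by
    rw [← h.sup, cent_sup, cent_sup]
    exact ⟨⟨hc 0, hc 1⟩, hc 2⟩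
  exact h.cen a ha fun b hb => (mem_centralizer_iff.1 k b hb).symm

theorem cardZ (h : E1 z Q) : Nat.card (zpowers z) = 3 := by rw [Nat.card_zpowers, h.z3]

end Bas1a

open Bas1a

omit [Finite G] in
theorem E1.conj (h : E1 z Q) (g : G) : E1 (g * z * g⁻¹) (cj g Q) where
  z3 := by rw [← h.z3]; exact (MulAut.conj g).orderOf_eq z
  zQ := conj_mem_cj.2 h.zQ
  Qc := by rw [← cj_cent1]; exact cj_mono g h.Qc
  comm := fun a ha b hb => by
    obtain ⟨a, rfl⟩ := exc g a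
    obtain ⟨b, rfl⟩ := exc g b
    rw [conj_mem_cj] at ha hb
    rw [show g * a * g⁻¹ * (g * b * g⁻¹) * (g * a * g⁻¹)⁻¹ * (g * b * g⁻¹)⁻¹ = g * (a * b * a⁻¹ * b⁻¹) * g⁻¹ by group]
    exact mz.2 (h.comm a ha b hb)
  cen := fun a ha hc => by
    obtain ⟨a, rfl⟩ := exc g a
    rw [conj_mem_cj] at ha
    exact mz.2 (h.cen a ha fun b hb => mem_cent1.1 (mc.1 (mem_cent1.2 (hc _ (conj_mem_cj.2 hb)))))
  exp := fun a ha => by
    obtain ⟨a, rfl⟩ := exc g a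
    rw [conj_mem_cj] at ha
    rw [conj_pow, h.exp a ha, mul_one, mul_inv_cancel]
  nQ := by rw [← cj_zpowers, ← cj_normalizer, ← cj_normalizer]; exact cj_mono g h.nQ
  faith := fun x hx hc => by
    obtain ⟨x, rfl⟩ := exc g x
    refine conj_mem_cj.2 (h.faith x (mc.1 hx) fun q hq => (mz (g := g)).1 ?_)
    rw [show g * (x * q * x⁻¹ * q⁻¹) * g⁻¹ =
      g * x * g⁻¹ * (g * q * g⁻¹) * (g * x * g⁻¹)⁻¹ * (g * q * g⁻¹)⁻¹ by group]
    exact hc _ (conj_mem_cj.2 hq)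

omit [Finite G] in
theorem B2.conj (h : B2 z Q Qs r R) (g : G) :
    B2 (g * z * g⁻¹) (cj g Q) (fun i => cj g (Qs i)) (fun i => g * r i * g⁻¹) (cj g R) where
  toE1 := h.toE1.conj g
  card := by rw [card_cj, h.card]
  zs := fun i => conj_mem_cj.2 (h.zs i)
  cards := fun i => by rw [card_cj, h.cards]
  sup := by rw [← cj_sup, ← cj_sup, h.sup]
  QQ := fun i j n => by rw [← H49.cj_centralizer]; exact cj_mono g (h.QQ i j n)
  rr := fun i => by rw [conj_mul, h.rr, mul_one, mul_inv_cancel]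
  rR := fun i => conj_mem_cj.2 (h.rR i)
  inv := fun i q hq => by
    obtain ⟨q, rfl⟩ := exc g q
    rw [conj_mem_cj] at hq
    rw [show g * r i * g⁻¹ * (g * q * g⁻¹) * (g * r i * g⁻¹)⁻¹ * (g * q * g⁻¹) = g * (r i * q * (r i)⁻¹ * q) * g⁻¹ by
      group]
    exact mz.2 (h.inv i q hq)
  rc := fun i j n => by rw [← H49.cj_centralizer]; exact conj_mem_cj.2 (h.rc i j n)
  R2 := isPGroup_cj.2 h.R2
  Rc := by rw [← cj_cent1]; exact cj_mono g h.Rc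
  RN := fun i => by rw [← cj_normalizer]; exact cj_mono g (h.RN i)
  nR := by rw [← cj_cent1, ← cj_sup, ← cj_normalizer]; exact cj_mono g h.nR

omit [Finite G] in
theorem B1.conj (h : B1 z Q Qs r R) (g : G) :
    B1 (g * z * g⁻¹) (cj g Q) (fun i => cj g (Qs i)) (fun i => g * r i * g⁻¹) (cj g R) where
  toB2 := h.toB2.conj g
  cardR := by rw [card_cj, h.cardR]

omit [Finite G] in
theorem B0.conj (h : B0 z Q Qs r R) (g : G) :
    B0 (g * z * g⁻¹) (cj g Q) (fun i => cj g (Qs i)) (fun i => g * r i * g⁻¹) (cj g R) where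
  toB1 := h.toB1.conj g
  max := fun x hx hb h4 => by
    obtain ⟨x, rfl⟩ := exc g x
    rw [← cj_sup]
    refine conj_mem_cj.2 (h.max x (mc.1 hx) (fun i => ?_) (conj_mem_cj.1 (by rwa [conj_pow] at h4)))
    have := hb i
    rwa [← cj_normalizer, conj_mem_cj] at this

omit [Finite G] in
theorem WC.conj (w : WC z Q) (g : G) : WC (g * z * g⁻¹) (cj g Q) := fun x hx => by
  rw [show x * (g * z * g⁻¹) * x⁻¹ = g * (g⁻¹ * x * g * z * (g⁻¹ * x * g)⁻¹) * g⁻¹ by group] at hx ⊢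
  exact mz.2 (w _ (conj_mem_cj.1 hx))

theorem E1.isP (h : E1 z Q) : IsPGroup 3 Q := fun x => ⟨1, Subtype.ext (by simpa using h.exp x x.2)⟩

/-- the centraliser of `Q` -/
theorem E1.cQ (h : E1 z Q) : 𝒞(Q) ≤ zpowers z := fun g hg =>
  h.cen g (h.faith g (cent_le_cent1 h.zQ hg) fun q hq => by
    rw [← mem_centralizer_iff.1 hg q hq]; simp) fun b hb => (mem_centralizer_iff.1 hg b hb).symm

/-- `g` trivial on `X/Z`: the centraliser has index at most three -/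
theorem E1.card_le_tv (h : E1 z Q) {X : Subgroup G} (hX : X ≤ Q) {g : G} (hg : g ∈ 𝒞[z])
    (tv : Tv z X g) : Nat.card X ≤ 3 * Nat.card ↥(X ⊓ 𝒞[g]) := by
  let f : X →* G := MonoidHom.mk' (fun q => g * q * g⁻¹ * (q : G)⁻¹) fun a b => tv_mul h (hX a.2) (tv _ b.2)
  have k1 : Nat.card f.range ≤ 3 := (card_le_of_le (by rintro _ ⟨q, rfl⟩; exact tv _ q.2)).trans (cardZ h).le
  have k2 : f.ker = (X ⊓ 𝒞[g]).subgroupOf X := by
    ext q
    rw [MonoidHom.mem_ker, mem_subgroupOf, mem_inf, mem_cent1, and_iff_right q.2, eq_comm (a := (q : G) * g),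
      ← mul_inv_eq_iff_eq_mul, ← mul_inv_eq_one (a := g * q * g⁻¹)]
    rfl
  rw [← f.ker.card_mul_index, index_ker, k2, Nat.card_congr (subgroupOfEquivOfLe inf_le_left).toEquiv, mul_comm]
  exact Nat.mul_le_mul_right _ k1

theorem E1.card_le_cent (h : E1 z Q) {X : Subgroup G} (hX : X ≤ Q) {q : G} (hq : q ∈ Q) :
    Nat.card X ≤ 3 * Nat.card ↥(X ⊓ 𝒞[q]) :=
  h.card_le_tv hX (h.Qc hq) fun x hx => h.comm q hq x (hX hx)

/-- the centre of `C_Q(u)` -/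
theorem E1.perp2 (h : E1 z Q) {u a : G} (hu : u ∈ Q) (ha : a ∈ Q)
    (hc : ∀ k ∈ Q ⊓ 𝒞[u], Commute a k) : a ∈ closure {z, u} := by
  have hz : zpowers z ≤ closure {z, u} := zpowers_le.2 (subset_closure (by simp))
  by_cases h0 : ∀ w ∈ Q, bt z w u = 0
  · exact hz (h.cen a ha fun b hb => hc b ⟨hb, mem_cent1.2 ((Fa.bt_zero h hb hu).1 (h0 b hb))⟩)
  obtain ⟨w, hw, e⟩ : ∃ w ∈ Q, bt z w u = 1 := by
    push Not at h0
    obtain ⟨w, hw, e⟩ := h0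
    rcases (by decide : ∀ i : ZMod 3, i ≠ 0 → i = 1 ∨ -i = 1) _ e with k | k
    · exact ⟨w, hw, k⟩
    · exact ⟨w⁻¹, inv_mem hw, by rw [Fa.bt_inv_left h hw hu, k]⟩
  have h1 := zp_mem hu (bt z w a)
  have k : a * (zp u (bt z w a))⁻¹ ∈ zpowers z := Fa.div_mem_Z h ha h1 fun q hq => by
    have h2 := zp_mem hw (bt z q u)
    have h3 := mul_mem hq (inv_mem h2)
    have k1 : bt z (q * (zp w (bt z q u))⁻¹) u = 0 := by
      rw [Fa.bt_mul_left h hq (inv_mem h2) hu, Fa.bt_inv_left h h2 hu, Fa.bt_zp_left h hw hu, e]; ring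
    have k2 := (Fa.bt_zero h h3 ha).2 (hc _ ⟨h3, mem_cent1.2 ((Fa.bt_zero h h3 hu).1 k1)⟩).eq.symm
    rw [Fa.bt_mul_left h hq (inv_mem h2) ha, Fa.bt_inv_left h h2 ha, Fa.bt_zp_left h hw ha] at k2
    rw [Fa.bt_zp_right h hq hu]
    linear_combination k2
  exact (mul_mem_cancel_right (inv_mem (zp_mem (subset_closure (by simp)) _))).1 (hz k)

/-- involutions congruent modulo `Q` are conjugate -/
theorem E1.conj_inv (h : E1 z Q) {s t : G} (ss : s * s = 1) (tt : t * t = 1) (e : s * t ∈ Q) :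
    ∃ q ∈ Q, q * s * q⁻¹ = t := by
  refine ⟨s * t, e, ?_⟩
  have k := h.exp _ e
  rw [pow_three'] at k
  rw [mul_inv_rev, inv_eq_of_mul_eq_one_right ss, inv_eq_of_mul_eq_one_right tt]
  calc s * t * s * (t * s) = s * t * (s * t) * (s * t) * t⁻¹ := by group
    _ = t := by rw [k, one_mul, inv_eq_of_mul_eq_one_right tt]

theorem B2.le (h : B2 z Q Qs r R) (i : Fin 3) : Qs i ≤ Q := by
  rw [← h.sup]
  fin_cases i
  · exact le_sup_of_le_left le_sup_left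
  · exact le_sup_of_le_left le_sup_right
  · exact le_sup_right

theorem B2.QN (h : B2 z Q Qs r R) (i : Fin 3) : Q ≤ 𝒩(Qs i) := le_norm_iff.2 fun q hq x hx =>
  (mul_mem_cancel_right (inv_mem hx)).1 (zpowers_le.2 (h.zs i) (h.comm q hq x (h.le i hx)))

theorem B2.dec (h : B2 z Q Qs r R) {q : G} (hq : q ∈ Q) :
    ∃ u : Fin 3 → G, (∀ i, u i ∈ Qs i) ∧ q = u 0 * u 1 * u 2 := by
  rw [← h.sup] at hq
  obtain ⟨a, ha, c, hc, rfl⟩ := (mem_sup_of_norm_right ((sup_le (h.le 0) (h.le 1)).trans (h.QN 2))).1 hq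
  obtain ⟨a, ha, b, hb, rfl⟩ := (mem_sup_of_norm_right ((h.le 0).trans (h.QN 1))).1 ha
  exact ⟨![a, b, c], fun i => by fin_cases i <;> assumption, rfl⟩

theorem B2.uniq (h : B2 z Q Qs r R) {u : Fin 3 → G} (hu : ∀ i, u i ∈ Qs i)
    (e : u 0 * u 1 * u 2 ∈ zpowers z) (i : Fin 3) : u i ∈ zpowers z := cenQ h (h.le i (hu i)) fun j => by
  by_cases n : i = j
  · subst n
    exact canc i (mem_centralizer_iff.2 fun w hw => (Z_comm (h.Qc (h.le i hw)) e).symm) fun k n => h.QQ k i n (hu k)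
  · exact h.QQ i j n (hu i)

theorem B2.inter (h : B2 z Q Qs r R) {i j : Fin 3} (n : i ≠ j) : Qs i ⊓ Qs j ≤ zpowers z := fun _ ha =>
  cenQ h (h.le i ha.1) fun k => if e : i = k then h.QQ j k (e ▸ n.symm) ha.2 else h.QQ i k e ha.1

theorem B2.ker (h : B2 z Q Qs r R) {g : G} (hg : g ∈ 𝒞[z]) (tv : ∀ i, Tv z (Qs i) g) : g ∈ Q :=
  h.faith g hg fun q hq => by
    obtain ⟨u, hu, rfl⟩ := h.dec hq
    rw [tv_mul h.toE1 (mul_mem (h.le 0 (hu 0)) (h.le 1 (hu 1))) (tv 2 _ (hu 2)),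
      tv_mul h.toE1 (h.le 0 (hu 0)) (tv 1 _ (hu 1))]
    exact mul_mem (mul_mem (tv 0 _ (hu 0)) (tv 1 _ (hu 1))) (tv 2 _ (hu 2))

theorem B2.rz (h : B2 z Q Qs r R) (i : Fin 3) : r i ∈ 𝒞[z] := h.Rc (h.rR i)

theorem B2.rB (h : B2 z Q Qs r R) (i : Fin 3) : Ba Qs (r i) := fun j => h.RN j (h.rR i)

theorem Bas1a.ntv (h : B2 z Q Qs r R) (i : Fin 3) : ¬ Tv z (Qs i) (r i) := fun tv => by
  have k : Qs i ≤ zpowers z := fun q hq => sqZ h.toE1 (h.le i hq) (by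
    simpa [mul_assoc] using mul_mem (inv_mem (tv q hq)) (h.inv i q hq))
  have := card_le_of_le k
  rw [h.cards, cardZ h.toE1] at this
  omega

theorem B2.rQ (h : B2 z Q Qs r R) (i : Fin 3) : r i ∉ Q := fun k =>
  ntv h i fun q hq => h.comm _ k q (h.le i hq)

theorem B2.r_ne (h : B2 z Q Qs r R) {i j : Fin 3} (n : i ≠ j) : r i * r j ∉ Q := fun k =>
  ntv h i fun q hq => by
    have := h.comm _ k q (h.le i hq)
    rwa [mul_assoc (r i), ← mem_centralizer_iff.1 (h.rc j i n.symm) q hq, mul_inv_rev, ← mul_assoc, ← mul_assoc,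
      mul_inv_cancel_right] at this

theorem B2.QR (h : B2 z Q Qs r R) : Q ⊓ R = ⊥ :=
  haveI : Fact (Nat.Prime 3) := ⟨Nat.prime_three⟩
  disjoint_iff.1 (IsPGroup.disjoint_of_ne 3 2 (by norm_num) Q R h.toE1.isP h.R2)

theorem B2.mem_QR (h : B2 z Q Qs r R) {g : G} (hg : g ∈ Q ⊔ R) : ∃ q ∈ Q, ∃ ρ ∈ R, g = q * ρ :=
  (mem_sup_of_norm_left (h.Rc.trans (Fa.cQ h.toE1))).1 hg

/-- an element of `C(z)` that acts as `r i` -/
theorem B2.as_r (h : B2 z Q Qs r R) {g : G} (hg : g ∈ 𝒞[z]) {i : Fin 3}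
    (h1 : ∀ q ∈ Qs i, g * q * g⁻¹ * q ∈ zpowers z) (h2 : ∀ j, j ≠ i → Tv z (Qs j) g) :
    g * r i ∈ Q := h.ker (mul_mem hg (h.rz i)) fun j q hq => by
  by_cases n : j = i
  · subst n
    rw [show g * r j * q * (g * r j)⁻¹ * q⁻¹ = g * (r j * q * (r j)⁻¹ * q) * g⁻¹ * (g * q⁻¹ * g⁻¹ * q⁻¹) by group,
      Z_conj hg (h.inv j q hq)]
    exact mul_mem (h.inv j q hq) (h1 _ (inv_mem hq))
  · rw [mul_assoc g, ← mem_centralizer_iff.1 (h.rc i j (Ne.symm n)) q hq, mul_inv_rev, ← mul_assoc, ← mul_assoc,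
      mul_inv_cancel_right]
    exact h2 j n q hq

theorem B2.Rr (h : B2 z Q Qs r R) (i : Fin 3) : R ≤ 𝒞[r i] := fun ρ hρ => by
  have hz := h.Rc hρ
  have k : ρ * r i * ρ⁻¹ * r i ∈ Q ⊓ R := ⟨h.as_r (mul_mem (mul_mem hz (h.rz i)) (inv_mem hz)) (fun q hq => by
      have k := h.inv i _ (conj_mem_of_norm' (h.RN i) hρ hq)
      rw [← Z_conj hz k] at k
      simpa [mul_assoc] using k) fun j n q hq => by
      have k := mem_centralizer_iff.1 (h.rc i j (Ne.symm n)) _ (conj_mem_of_norm' (h.RN j) hρ hq)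
      rw [show ρ * r i * ρ⁻¹ * q * (ρ * r i * ρ⁻¹)⁻¹ * q⁻¹ = ρ * (r i * (ρ⁻¹ * q * ρ)) * (r i)⁻¹ * ρ⁻¹ * q⁻¹ by group,
        ← k]
      simpa [mul_assoc] using one_mem _, R.mul_mem (R.mul_mem (R.mul_mem hρ (h.rR i)) (R.inv_mem hρ)) (h.rR i)⟩
  rw [h.QR, mem_bot, ← h.rr i, mul_left_inj, mul_inv_eq_iff_eq_mul] at k
  exact mem_cent1.2 k

theorem B2.cent_r (h : B2 z Q Qs r R) {q : G} (hq : q ∈ Q) (i : Fin 3) :
    Commute q (r i) ↔ q ∈ 𝒞(Qs i) := by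
  obtain ⟨u, hu, rfl⟩ := h.dec hq
  have k1 : ∀ j, j ≠ i → u j ∈ 𝒞[r i] := fun j n => mem_cent1.2 (mem_centralizer_iff.1 (h.rc i j n.symm) _ (hu j))
  have k2 : ∀ j, j ≠ i → u j ∈ 𝒞(Qs i) := fun j n => h.QQ j i n (hu j)
  constructor
  · intro k
    have k3 := h.inv i _ (hu i)
    rw [← mem_cent1.1 (canc i (mem_cent1.2 k) k1), mul_inv_cancel_right] at k3
    exact fill i (mem_centralizer_iff.2 fun w hw =>
      (Z_comm (h.Qc (h.le i hw)) (sqZ h.toE1 (h.le i (hu i)) k3)).symm) k2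
  · intro k
    exact mem_cent1.1 (fill i (mem_cent1.2 (Z_comm (h.rz i) (cenQ h (h.le i (hu i)) fun j =>
      if e : i = j then e ▸ canc i k k2 else h.QQ i j e (hu i)))) k1)

/-- an element of `R` that is trivial on `Qᵢ/Z` centralises `Qᵢ` -/
theorem B2.cent_of_tv (h : B2 z Q Qs r R) {ρ : G} (hρ : ρ ∈ R) {i : Fin 3} (tv : Tv z (Qs i) ρ) :
    ρ ∈ 𝒞(Qs i) := mem_centralizer_iff.2 fun q hq => by
  have hc := tv q hq
  have key : ∀ n : ℕ, ρ ^ n * q * (ρ ^ n)⁻¹ * q⁻¹ = (ρ * q * ρ⁻¹ * q⁻¹) ^ n := fun n => by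
    induction n with
    | zero => simp
    | succ n ih =>
      rw [pow_succ (ρ * q * ρ⁻¹ * q⁻¹), ← Z_conj (h.Rc hρ) (pow_mem hc n), ← ih, pow_succ']
      group
  obtain ⟨n, k1⟩ := h.R2 ⟨ρ, hρ⟩
  have k2 := key (2 ^ n)
  rw [show ρ ^ 2 ^ n = 1 from congrArg Subtype.val k1, one_mul, inv_one, mul_one, mul_inv_cancel] at k2
  have k3 := orderOf_eq_one_iff.1 (Nat.eq_one_of_dvd_coprimes (Nat.Coprime.pow_left n (by norm_num : Nat.Coprime 2 3))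
    (orderOf_dvd_of_pow_eq_one k2.symm) (orderOf_dvd_of_pow_eq_one (h.exp _ (Fa.ZQ h.toE1 hc))))
  rw [mul_inv_eq_one, mul_inv_eq_iff_eq_mul] at k3
  exact k3.symm

end Cfsg.Agent.F3
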