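/-
Project F3 (3-local recognition of `Fi₂₂` and `Fi₂₃`): the interfaces between the parts of the proof.
-/
import Cfsg.Agent.U6.Defs

set_option autoImplicit false

namespace Cfsg.Agent.F3

open Subgroup H49

variable {G : Type*} [Group G]

/-- `Q` is extraspecial of exponent three with centre `⟨z⟩`, normal in `N(⟨z⟩)`, and it is the kernel of
`C(z)` on `Q/⟨z⟩`. -/
structure E1 (z : G) (Q : Subgroup G) : Prop where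
  z3 : orderOf z = 3
  zQ : z ∈ Q
  Qc : Q ≤ 𝒞[z]
  comm : ∀ a ∈ Q, ∀ b ∈ Q, a * b * a⁻¹ * b⁻¹ ∈ zpowers z
  cen : ∀ a ∈ Q, (∀ b ∈ Q, a * b = b * a) → a ∈ zpowers z
  exp : ∀ a ∈ Q, a ^ 3 = 1
  nQ : 𝒩(zpowers z) ≤ 𝒩(Q)
  faith : ∀ g ∈ 𝒞[z], (∀ q ∈ Q, g * q * g⁻¹ * q⁻¹ ∈ zpowers z) → g ∈ Q

/-- `g` acts trivially on `W/⟨z⟩` -/
def Tv (z : G) (W : Subgroup G) (g : G) : Prop := ∀ q ∈ W, g * q * g⁻¹ * q⁻¹ ∈ zpowers z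

/-- `g` normalises each factor -/
def Ba (Qs : Fin 3 → Subgroup G) (g : G) : Prop := ∀ i, g ∈ 𝒩(Qs i)

/-- `g` moves each factor -/
def Tr (Qs : Fin 3 → Subgroup G) (g : G) : Prop := ∀ i, g ∉ 𝒩(Qs i)

/-- `⟨z⟩` is weakly closed in `Q` -/
def WC (z : G) (Q : Subgroup G) : Prop := ∀ g : G, g * z * g⁻¹ ∈ Q → g * z * g⁻¹ ∈ zpowers z

/-- `Q = Q₀ ∘ Q₁ ∘ Q₂` has order `3^7` and `QR/Q` is a normal 2-subgroup of `C(z)/Q`. -/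
structure B2 (z : G) (Q : Subgroup G) (Qs : Fin 3 → Subgroup G) (r : Fin 3 → G) (R : Subgroup G) :
    Prop extends E1 z Q where
  card : Nat.card Q = 2187
  zs : ∀ i, z ∈ Qs i
  cards : ∀ i, Nat.card (Qs i) = 27
  sup : Qs 0 ⊔ Qs 1 ⊔ Qs 2 = Q
  QQ : ∀ i j, i ≠ j → Qs i ≤ 𝒞(Qs j)
  rr : ∀ i, r i * r i = 1
  rR : ∀ i, r i ∈ R
  inv : ∀ i, ∀ q ∈ Qs i, r i * q * (r i)⁻¹ * q ∈ zpowers z
  rc : ∀ i j, i ≠ j → r i ∈ 𝒞(Qs j)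
  R2 : IsPGroup 2 R
  Rc : R ≤ 𝒞[z]
  RN : ∀ i, R ≤ 𝒩(Qs i)
  nR : 𝒞[z] ≤ 𝒩(Q ⊔ R)

/-- `R` has order `2^7` -/
structure B1 (z : G) (Q : Subgroup G) (Qs : Fin 3 → Subgroup G) (r : Fin 3 → G) (R : Subgroup G) :
    Prop extends B2 z Q Qs r R where
  cardR : Nat.card R = 128

/-- `QR/Q = O₂(C(z)/Q)` -/
structure B0 (z : G) (Q : Subgroup G) (Qs : Fin 3 → Subgroup G) (r : Fin 3 → G) (R : Subgroup G) :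
    Prop extends B1 z Q Qs r R where
  max : ∀ g ∈ 𝒞[z], Ba Qs g → g ^ 4 ∈ Q → g ∈ Q ⊔ R

/-- generators of a factor that are inverted by `ρ` -/
structure Fm (z : G) (W : Subgroup G) (ρ a b : G) : Prop where
  aW : a ∈ W
  bW : b ∈ W
  ρa : ρ * a * ρ⁻¹ = a⁻¹
  ρb : ρ * b * ρ⁻¹ = b⁻¹
  ba : b * a * b⁻¹ = a * z
  nf : ∀ q ∈ W, ∃ i j k : ℕ, q = z ^ i * a ^ j * b ^ k

/-- Output of `I2`: `J = C(z, a₀, a₁, a₂) = ⟨z, a₀, a₁, a₂, x⟩` and its normaliser controls fusion. -/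
structure BJ (z : G) (Q : Subgroup G) (Qs : Fin 3 → Subgroup G) (r : Fin 3 → G) (R : Subgroup G)
    (a b : Fin 3 → G) (x s : G) (J : Subgroup G) : Prop extends B0 z Q Qs r R where
  fm : ∀ i, Fm z (Qs i) (r i) (a i) (b i)
  sz : s ∈ 𝒞[z]
  sT : Tr Qs s
  Jdef : J = 𝒞[z] ⊓ 𝒞[a 0] ⊓ 𝒞[a 1] ⊓ 𝒞[a 2]
  xJ : x ∈ J
  xQ : x ∉ Q
  x3 : x ^ 3 = 1
  memJ : ∀ j ∈ J, ∃ i k l m n : ℕ, j = z ^ i * a 0 ^ k * a 1 ^ l * a 2 ^ m * x ^ n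
  yx : ∃ g : G, g * z * g⁻¹ = a 0 * a 1 * a 2 ∧ x ∈ cj g Q
  fus : ∀ g : G, ∀ u ∈ J, g * u * g⁻¹ ∈ J → ∃ n ∈ 𝒩(J), n * u * n⁻¹ = g * u * g⁻¹

/-- Output of `I3`: everything that is used about the 3-local structure. -/
structure BX (z : G) (Q : Subgroup G) (Qs : Fin 3 → Subgroup G) (r : Fin 3 → G) (R : Subgroup G)
    (x s : G) : Prop extends B0 z Q Qs r R where
  sz : s ∈ 𝒞[z]
  sT : Tr Qs s
  xz : x ∈ 𝒞[z]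
  xQ : x ∉ Q
  x3 : x ^ 3 = 1
  xB : Ba Qs x
  xr : ∀ i, Commute x (r i)
  xc : ∃ g ∈ 𝒞[r 0], g * z * g⁻¹ = x

end Cfsg.Agent.F3
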