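import Cfsg.Agent.F3.Defs
import Cfsg.Agent.T3.Fr2d

/-! Project F3: the commutator form on `Q` and hyperbolic pairs (port of `U6/Fa` from `G0` to `E1`). -/

set_option autoImplicit false

namespace Cfsg.Agent.F3.Fa

open Subgroup H49 MC3 T3 T3.Fr2

variable {G : Type*} [Group G]

section

variable {z : G} {Q : Subgroup G}

theorem z3' (h : E1 z Q) : z ^ 3 = 1 := h.exp z h.zQ

theorem ZQ (h : E1 z Q) : zpowers z ≤ Q := zpowers_le.2 h.zQ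

theorem cQ (h : E1 z Q) : 𝒞[z] ≤ 𝒩(Q) :=
  le_trans (by rw [← cent_zpowers]; exact cent_le_norm _) h.nQ

theorem conjQ (h : E1 z Q) {g q : G} (hg : g ∈ 𝒞[z]) (hq : q ∈ Q) : g * q * g⁻¹ ∈ Q :=
  conj_mem_of_norm (cQ h) hg hq

theorem Z_sq (h : E1 z Q) {c : G} (hc : c ∈ zpowers z) (e : c * c = 1) : c = 1 := by
  have := h.exp c (ZQ h hc)
  rwa [pow_succ, pow_two, e, one_mul] at this

theorem bt_spec (h : E1 z Q) {u w : G} (hu : u ∈ Q) (hw : w ∈ Q) :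
    zp z (bt z u w) = u * w * u⁻¹ * w⁻¹ := zp_lg h.z3 (h.comm u hu w hw)

theorem bt_eq (h : E1 z Q) {u w : G} (hu : u ∈ Q) (hw : w ∈ Q) {i : ZMod 3}
    (e : u * w * u⁻¹ * w⁻¹ = zp z i) : bt z u w = i :=
  zp_inj h.z3 ((bt_spec h hu hw).trans e)

theorem bt_zero (h : E1 z Q) {u w : G} (hu : u ∈ Q) (hw : w ∈ Q) :
    bt z u w = 0 ↔ u * w = w * u := by
  constructor
  · intro e
    have := bt_spec h hu hw
    rw [e, zp_zero, eq_comm, mul_inv_eq_one, mul_inv_eq_iff_eq_mul] at this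
    exact this
  · intro e
    exact bt_eq h hu hw (by rw [e, zp_zero]; group)

theorem bt_self (h : E1 z Q) {u : G} (hu : u ∈ Q) : bt z u u = 0 := (bt_zero h hu hu).2 rfl

theorem bt_mul_right (h : E1 z Q) {u w w' : G} (hu : u ∈ Q) (hw : w ∈ Q) (hw' : w' ∈ Q) :
    bt z u (w * w') = bt z u w + bt z u w' := by
  refine bt_eq h hu (mul_mem hw hw') ?_
  rw [zp_add (z3' h), bt_spec h hu hw, bt_spec h hu hw',
    ← Z_conj (h.Qc hw) (h.comm u hu w' hw')]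
  group

theorem bt_swap (h : E1 z Q) {u w : G} (hu : u ∈ Q) (hw : w ∈ Q) : bt z u w = -bt z w u := by
  rw [eq_neg_iff_add_eq_zero]
  apply zp_inj h.z3
  rw [zp_add (z3' h), bt_spec h hu hw, bt_spec h hw hu, zp_zero]
  group

theorem bt_mul_left (h : E1 z Q) {u u' w : G} (hu : u ∈ Q) (hu' : u' ∈ Q) (hw : w ∈ Q) :
    bt z (u * u') w = bt z u w + bt z u' w := by
  rw [bt_swap h (mul_mem hu hu') hw, bt_mul_right h hw hu hu', bt_swap h hu hw, bt_swap h hu' hw]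
  ring

theorem bt_Z_right (h : E1 z Q) {u c : G} (hu : u ∈ Q) (hc : c ∈ zpowers z) : bt z u c = 0 :=
  (bt_zero h hu (ZQ h hc)).2 (Z_comm (h.Qc hu) hc).symm

theorem bt_Z_left (h : E1 z Q) {u c : G} (hu : u ∈ Q) (hc : c ∈ zpowers z) : bt z c u = 0 :=
  (bt_zero h (ZQ h hc) hu).2 (Z_comm (h.Qc hu) hc)

theorem bt_inv_right (h : E1 z Q) {u w : G} (hu : u ∈ Q) (hw : w ∈ Q) :
    bt z u w⁻¹ = -bt z u w := by
  have := bt_mul_right h hu hw (inv_mem hw)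
  rw [mul_inv_cancel, bt_Z_right h hu (one_mem _)] at this
  linear_combination -this

theorem bt_inv_left (h : E1 z Q) {u w : G} (hu : u ∈ Q) (hw : w ∈ Q) :
    bt z u⁻¹ w = -bt z u w := by
  rw [bt_swap h (inv_mem hu) hw, bt_inv_right h hw hu, bt_swap h hu hw]

theorem bt_pow_right (h : E1 z Q) {u w : G} (hu : u ∈ Q) (hw : w ∈ Q) (n : ℕ) :
    bt z u (w ^ n) = n * bt z u w := by
  induction n with
  | zero => rw [pow_zero, bt_Z_right h hu (one_mem _)]; simp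
  | succ n ih => rw [pow_succ, bt_mul_right h hu (pow_mem hw n) hw, ih]; push_cast; ring

theorem bt_zp_right (h : E1 z Q) {u w : G} (hu : u ∈ Q) (hw : w ∈ Q) (i : ZMod 3) :
    bt z u (zp w i) = i * bt z u w := by
  rw [zp, bt_pow_right h hu hw, ZMod.natCast_zmod_val]

theorem bt_zp_left (h : E1 z Q) {u w : G} (hu : u ∈ Q) (hw : w ∈ Q) (i : ZMod 3) :
    bt z (zp u i) w = i * bt z u w := by
  rw [bt_swap h (zp_mem hu i) hw, bt_zp_right h hw hu, bt_swap h hu hw]; ring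

theorem bt_conj (h : E1 z Q) {g u w : G} (hg : g ∈ 𝒞[z]) (hu : u ∈ Q) (hw : w ∈ Q) :
    bt z (g * u * g⁻¹) (g * w * g⁻¹) = bt z u w := by
  unfold bt
  rw [← Z_conj hg (h.comm u hu w hw)]
  congr 1
  group

theorem bt_conj' (h : E1 z Q) {g u w : G} (hg : g ∈ 𝒞[z]) (hu : u ∈ Q) (hw : w ∈ Q) :
    bt z u (g * w * g⁻¹) = bt z (g⁻¹ * u * g⁻¹⁻¹) w := by
  rw [← bt_conj h hg (conjQ h (inv_mem hg) hu) hw]
  congr 1
  group

theorem mem_Z_of_bt (h : E1 z Q) {w : G} (hw : w ∈ Q) (e : ∀ u ∈ Q, bt z u w = 0) :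
    w ∈ zpowers z :=
  h.cen w hw (fun u hu => ((bt_zero h hu hw).1 (e u hu)).symm)

theorem div_mem_Z (h : E1 z Q) {w w' : G} (hw : w ∈ Q) (hw' : w' ∈ Q)
    (e : ∀ u ∈ Q, bt z u w = bt z u w') : w * w'⁻¹ ∈ zpowers z :=
  mem_Z_of_bt h (mul_mem hw (inv_mem hw')) (fun u hu => by
    rw [bt_mul_right h hu hw (inv_mem hw'), bt_inv_right h hu hw', e u hu, add_neg_cancel])

theorem bt_congr_right (h : E1 z Q) {u w w' : G} (hu : u ∈ Q) (hw' : w' ∈ Q)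
    (e : w * w'⁻¹ ∈ zpowers z) : bt z u w = bt z u w' := by
  rw [show w = w * w'⁻¹ * w' by group, bt_mul_right h hu (ZQ h e) hw', bt_Z_right h hu e, zero_add]

theorem bt_congr_left (h : E1 z Q) {u w w' : G} (hu : u ∈ Q) (hw' : w' ∈ Q)
    (e : w * w'⁻¹ ∈ zpowers z) : bt z w u = bt z w' u := by
  rw [show w = w * w'⁻¹ * w' by group, bt_mul_left h (ZQ h e) hw' hu, bt_Z_left h hu e, zero_add]

theorem conj_eq_of_bt (h : E1 z Q) {a b : G} (ha : a ∈ Q) (hb : b ∈ Q) (e : bt z b a = 1) :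
    b * a * b⁻¹ = a * z := by
  have := bt_spec h hb ha
  rw [e, zp_one] at this
  rw [mem_cent1.1 (h.Qc ha), this]; group

/-- An element fixed modulo `Z` and inverted by an involution commuting with `g` is fixed. -/
theorem fix_of_inv (h : E1 z Q) {g ρ w : G} (hρ : ρ ∈ 𝒞[z]) (hc : g * ρ = ρ * g) (hw : w ∈ Q)
    (hi : ρ * w * ρ⁻¹ = w⁻¹) (e : g * w * g⁻¹ * w⁻¹ ∈ zpowers z) : g * w * g⁻¹ = w := by
  set c := g * w * g⁻¹ * w⁻¹ with hcd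
  have e1 : g * w * g⁻¹ = c * w := by rw [hcd]; group
  have e2 : ρ * (g * w * g⁻¹) * ρ⁻¹ = (g * w * g⁻¹)⁻¹ := by
    calc ρ * (g * w * g⁻¹) * ρ⁻¹ = (ρ * g) * w * (ρ * g)⁻¹ := by group
      _ = g * (ρ * w * ρ⁻¹) * g⁻¹ := by rw [← hc]; group
      _ = _ := by rw [hi]; group
  have e3 : c * c = 1 := by
    rw [e1, show ρ * (c * w) * ρ⁻¹ = ρ * c * ρ⁻¹ * (ρ * w * ρ⁻¹) by group, Z_conj hρ e, hi,
      Z_comm (inv_mem (h.Qc hw)) e, mul_inv_rev] at e2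
    rw [mul_eq_one_iff_eq_inv]
    exact mul_left_cancel e2
  rw [e1, Z_sq h e e3, one_mul]

/-- An element fixed modulo `Z` by an involution is fixed. -/
theorem fix_of_invol (h : E1 z Q) {ρ w : G} (hρ : ρ ∈ 𝒞[z]) (h2 : ρ * ρ = 1)
    (e : ρ * w * ρ⁻¹ * w⁻¹ ∈ zpowers z) : ρ * w * ρ⁻¹ = w := by
  set c := ρ * w * ρ⁻¹ * w⁻¹ with hcd
  have e1 : ρ * w * ρ⁻¹ = c * w := by rw [hcd]; group
  have e2 : w = c * c * w := by
    calc w = (ρ * ρ) * w * (ρ * ρ)⁻¹ := by rw [h2]; group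
      _ = ρ * (ρ * w * ρ⁻¹) * ρ⁻¹ := by group
      _ = ρ * (c * w) * ρ⁻¹ := by rw [e1]
      _ = (ρ * c * ρ⁻¹) * (ρ * w * ρ⁻¹) := by group
      _ = c * (c * w) := by rw [Z_conj hρ e, e1]
      _ = _ := (mul_assoc _ _ _).symm
  rw [e1, Z_sq h e (mul_eq_right.1 e2.symm), one_mul]

variable {a b : G}

theorem vec_mul (h : E1 z Q) (ha : a ∈ Q) (hb : b ∈ Q) {u w : G} (hu : u ∈ Q) (hw : w ∈ Q) :
    vec z a b (u * w) = vec z a b u + vec z a b w :=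
  Prod.ext (bt_mul_right h hb hu hw) (bt_mul_left h hu hw ha)

theorem vec_inv (h : E1 z Q) (ha : a ∈ Q) (hb : b ∈ Q) {u : G} (hu : u ∈ Q) :
    vec z a b u⁻¹ = -vec z a b u :=
  Prod.ext (bt_inv_right h hb hu) (bt_inv_left h hu ha)

theorem vec_congr (h : E1 z Q) (ha : a ∈ Q) (hb : b ∈ Q) {w w' : G} (hw' : w' ∈ Q)
    (e : w * w'⁻¹ ∈ zpowers z) : vec z a b w = vec z a b w' :=
  Prod.ext (bt_congr_right h hb hw' e) (bt_congr_left h ha hw' e)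

end

/-- `a`, `b` is a hyperbolic pair spanning `W` modulo the radical. -/
structure HP (z : G) (Q W : Subgroup G) (a b : G) : Prop where
  f0 : E1 z Q
  WQ : W ≤ Q
  aW : a ∈ W
  bW : b ∈ W
  ba : bt z b a = 1
  ex : ∀ u ∈ W, ∀ w ∈ W, bt z u w = bt z b w * bt z u a + bt z w a * bt z u b

namespace HP

variable {z a b : G} {Q W : Subgroup G}

theorem aQ (h : HP z Q W a b) : a ∈ Q := h.WQ h.aW
theorem bQ (h : HP z Q W a b) : b ∈ Q := h.WQ h.bW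

theorem vec_a (h : HP z Q W a b) : vec z a b a = (1, 0) := Prod.ext h.ba (bt_self h.f0 h.aQ)
theorem vec_b (h : HP z Q W a b) : vec z a b b = (0, 1) := Prod.ext (bt_self h.f0 h.bQ) h.ba

theorem form (h : HP z Q W a b) {u w : G} (hu : u ∈ W) (hw : w ∈ W) :
    bt z u w = (vec z a b w).1 * (vec z a b u).2 - (vec z a b w).2 * (vec z a b u).1 := by
  rw [h.ex u hu w hw, bt_swap h.f0 (h.WQ hu) h.bQ]
  simp only [vec]
  ring

theorem mat_val (h : HP z Q W a b) {g : G} (hg : g ∈ 𝒞[z] ⊓ 𝒩(W)) :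
    (mat z a b g).1 = ⟨(vec z a b (g * a * g⁻¹)).1, (vec z a b (g * b * g⁻¹)).1,
      (vec z a b (g * a * g⁻¹)).2, (vec z a b (g * b * g⁻¹)).2⟩ := by
  have h1 := h.form (conj_mem_of_norm le_rfl hg.2 h.bW) (conj_mem_of_norm le_rfl hg.2 h.aW)
  rw [bt_conj h.f0 hg.1 h.bQ h.aQ, h.ba] at h1
  exact S2.mk2_val _ _ (by linear_combination -h1)

theorem vec_conj (h : HP z Q W a b) {g w : G} (hg : g ∈ 𝒞[z] ⊓ 𝒩(W)) (hw : w ∈ W) :
    vec z a b (g * w * g⁻¹) = (mat z a b g).ap (vec z a b w) := by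
  have f := h.f0
  have hw' := h.WQ hw
  have ha := conj_mem_of_norm le_rfl (inv_mem hg.2) h.aW
  have hb := conj_mem_of_norm le_rfl (inv_mem hg.2) h.bW
  simp only [S2.ap, h.mat_val hg, vec]
  refine Prod.ext ?_ ?_
  · simp only
    rw [bt_conj' f hg.1 h.bQ hw', bt_conj' f hg.1 h.bQ h.aQ, bt_conj' f hg.1 h.bQ h.bQ,
      h.ex _ hb w hw]
    ring
  · simp only
    rw [bt_swap f (conjQ f hg.1 hw') h.aQ, bt_swap f (conjQ f hg.1 h.aQ) h.aQ,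
      bt_swap f (conjQ f hg.1 h.bQ) h.aQ, bt_conj' f hg.1 h.aQ hw', bt_conj' f hg.1 h.aQ h.aQ,
      bt_conj' f hg.1 h.aQ h.bQ, h.ex _ ha w hw]
    ring

theorem ph (h : HP z Q W a b) : PH (𝒞[z] ⊓ 𝒩(W)) (mat z a b) := ⟨fun g hg k hk => by
  apply Subtype.ext
  have e : ∀ w, g * k * w * (g * k)⁻¹ = g * (k * w * k⁻¹) * g⁻¹ := fun w => by group
  rw [h.mat_val (mul_mem hg hk), S2.mul_val, h.mat_val hk, e, e,
    h.vec_conj hg (conj_mem_of_norm le_rfl hk.2 h.aW),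
    h.vec_conj hg (conj_mem_of_norm le_rfl hk.2 h.bW)]
  rfl⟩

theorem mat_eq (h : HP z Q W a b) {g : G} (hg : g ∈ 𝒞[z] ⊓ 𝒩(W)) {A : S2}
    (h1 : vec z a b (g * a * g⁻¹) = (A.1.a, A.1.c)) (h2 : vec z a b (g * b * g⁻¹) = (A.1.b, A.1.d)) :
    mat z a b g = A := Subtype.ext (by rw [h.mat_val hg, h1, h2])

theorem mat_one (h : HP z Q W a b) {g : G} (h1 : g * a * g⁻¹ * a⁻¹ ∈ zpowers z)
    (h2 : g * b * g⁻¹ * b⁻¹ ∈ zpowers z) : mat z a b g = 1 := by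
  rw [mat, vec_congr h.f0 h.aQ h.bQ h.aQ h1, vec_congr h.f0 h.aQ h.bQ h.bQ h2, h.vec_a, h.vec_b]
  decide +kernel

theorem mat_Q (h : HP z Q W a b) {g : G} (hg : g ∈ Q) : mat z a b g = 1 :=
  h.mat_one (h.f0.comm g hg a h.aQ) (h.f0.comm g hg b h.bQ)

theorem mat_cent (h : HP z Q W a b) {g : G} (h1 : g ∈ 𝒞[a]) (h2 : g ∈ 𝒞[b]) : mat z a b g = 1 :=
  h.mat_one (by rw [mem_cent1.1 h1]; simp) (by rw [mem_cent1.1 h2]; simp)

theorem mat_neg (h : HP z Q W a b) {g : G} (h1 : g * a * g⁻¹ * a ∈ zpowers z)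
    (h2 : g * b * g⁻¹ * b ∈ zpowers z) : mat z a b g = S2.nI := by
  rw [mat, vec_congr h.f0 h.aQ h.bQ (w := g * a * g⁻¹) (inv_mem h.aQ) (by rwa [inv_inv]),
    vec_congr h.f0 h.aQ h.bQ (w := g * b * g⁻¹) (inv_mem h.bQ) (by rwa [inv_inv]),
    vec_inv h.f0 h.aQ h.bQ h.aQ, vec_inv h.f0 h.aQ h.bQ h.bQ, h.vec_a, h.vec_b]
  decide +kernel

theorem vec_zp (h : HP z Q W a b) (i j : ZMod 3) : vec z a b (zp a i * zp b j) = (i, j) := by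
  have f := h.f0
  rw [vec_mul f h.aQ h.bQ (zp_mem h.aQ i) (zp_mem h.bQ j)]
  simp only [vec, bt_zp_right f h.bQ h.aQ, bt_zp_right f h.bQ h.bQ, bt_zp_left f h.aQ h.aQ,
    bt_zp_left f h.bQ h.aQ, h.ba, bt_self f h.aQ, bt_self f h.bQ]
  simp

/-- Every vector is represented by an element inverted by an involution acting as `-1`. -/
theorem exists_inv (h : HP z Q W a b) {ρ : G} (hρ : ρ ∈ 𝒞[z] ⊓ 𝒩(W)) (h2 : ρ * ρ = 1)
    (hm : mat z a b ρ = S2.nI) (v : ZMod 3 × ZMod 3) :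
    ∃ w ∈ W, ρ * w * ρ⁻¹ = w⁻¹ ∧ vec z a b w = v := by
  have hw : zp a (-v.1) * zp b (-v.2) ∈ W := mul_mem (zp_mem h.aW _) (zp_mem h.bW _)
  have hv := h.vec_zp (-v.1) (-v.2)
  generalize zp a (-v.1) * zp b (-v.2) = w at hw hv
  have hw' := conj_mem_of_norm le_rfl hρ.2 (inv_mem hw)
  refine ⟨w * (ρ * w⁻¹ * ρ⁻¹), mul_mem hw hw', ?_, ?_⟩
  · calc ρ * (w * (ρ * w⁻¹ * ρ⁻¹)) * ρ⁻¹ = ρ * w * ρ⁻¹ * ((ρ * ρ) * w⁻¹ * (ρ * ρ)⁻¹) := by group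
      _ = _ := by rw [h2]; group
  · rw [vec_mul h.f0 h.aQ h.bQ (h.WQ hw) (h.WQ hw'), h.vec_conj hρ (inv_mem hw), hm, S2.ap_nI,
      vec_inv h.f0 h.aQ h.bQ (h.WQ hw), hv]
    exact (by decide : ∀ v : ZMod 3 × ZMod 3, (-v.1, -v.2) + - -(-v.1, -v.2) = v) v

end HP

section

variable {z : G} {Q : Subgroup G} {g k w : G} {e e' : ZMod 3}

theorem sc_mul (h : E1 z Q) (hg : g ∈ 𝒞[z]) (hk : k ∈ 𝒞[z]) (hw : w ∈ Q) (h1 : Sc z Q g w e)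
    (h2 : Sc z Q k w e') : Sc z Q (g * k) w (e * e') := fun u hu => by
  rw [show g * k * w * (g * k)⁻¹ = g * (k * w * k⁻¹) * g⁻¹ by group,
    bt_conj' h hg hu (conjQ h hk hw), h2 _ (conjQ h (inv_mem hg) hu), ← bt_conj' h hg hu hw, h1 u hu]
  ring

theorem sc_conj (h : E1 z Q) (hg : g ∈ 𝒞[z]) (hk : k ∈ 𝒞[z]) (hw : w ∈ Q) (h2 : Sc z Q k w e) :
    Sc z Q (g * k * g⁻¹) (g * w * g⁻¹) e := fun u hu => by
  rw [show g * k * g⁻¹ * (g * w * g⁻¹) * (g * k * g⁻¹)⁻¹ = g * (k * w * k⁻¹) * g⁻¹ by group,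
    bt_conj' h hg hu (conjQ h hk hw), h2 _ (conjQ h (inv_mem hg) hu), ← bt_conj' h hg hu hw]

theorem sc_one (h : E1 z Q) (hg : g ∈ 𝒞[z]) (hw : w ∈ Q) :
    Sc z Q g w 1 ↔ g * w * g⁻¹ * w⁻¹ ∈ zpowers z :=
  ⟨fun h1 => div_mem_Z h (conjQ h hg hw) hw (fun u hu => by rw [h1 u hu, one_mul]),
    fun h1 u hu => by rw [one_mul]; exact bt_congr_right h hu hw h1⟩

theorem sc_neg (h : E1 z Q) (hg : g ∈ 𝒞[z]) (hw : w ∈ Q) :
    Sc z Q g w (-1) ↔ g * w * g⁻¹ * w ∈ zpowers z :=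
  ⟨fun h1 => by
    simpa using div_mem_Z h (conjQ h hg hw) (inv_mem hw) (fun u hu => by
      rw [h1 u hu, bt_inv_right h hu hw, neg_one_mul]),
    fun h1 u hu => by
      rw [neg_one_mul, ← bt_inv_right h hu hw]
      exact bt_congr_right h hu (inv_mem hw) (by rwa [inv_inv])⟩

theorem sc_Q (h : E1 z Q) (hg : g ∈ Q) (hw : w ∈ Q) : Sc z Q g w 1 :=
  (sc_one h (h.Qc hg) hw).2 (h.comm g hg w hw)

theorem sc_of_inv (h : E1 z Q) (hw : w ∈ Q) (e1 : g * w * g⁻¹ = w⁻¹) : Sc z Q g w (-1) :=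
  fun u hu => by rw [e1, bt_inv_right h hu hw, neg_one_mul]

theorem mem_Q_of_sc (h : E1 z Q) (hg : g ∈ 𝒞[z]) (h1 : ∀ q ∈ Q, Sc z Q g q 1) : g ∈ Q :=
  h.faith g hg (fun q hq => (sc_one h hg hq).1 (h1 q hq))

theorem orth (h : E1 z Q) (hg : g ∈ 𝒞[z]) {p : G} (hp : p ∈ Q) (hw : w ∈ Q)
    (h1 : g * p * g⁻¹ = p) (h2 : Sc z Q g w (-1)) : bt z p w = 0 := by
  have := bt_conj h hg hp hw
  rw [h1, h2 p hp] at this
  revert this
  generalize bt z p w = i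
  revert i; decide

theorem odd_Q (h : E1 z Q) (hg : g ∈ Q) : Odd (orderOf g) :=
  odd_orderOf_of_pow (k := 1) (by simpa using h.exp g hg)

/-- lifting centralisers of involutions modulo `Q` -/
theorem lift_Q (h : E1 z Q) {r : G} (hr : r * r = 1) (e1 : g * r * g⁻¹ * r⁻¹ ∈ Q) :
    ∃ j ∈ Q, j ∈ zpowers (g * r * g⁻¹ * r⁻¹) ∧ j * g ∈ 𝒞[r] := by
  obtain ⟨j, hj, e⟩ := exists_cent_lift hr (odd_Q h e1)
  exact ⟨j, zpowers_le.2 e1 hj, hj, e⟩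

end

variable [Finite G] {z : G} {Q : Subgroup G}

theorem xb_gen {W : Subgroup G} {a b ρ x : G} (h : HP z Q W a b)
    (hW : ∀ w ∈ W, ∀ w' ∈ W, vec z a b w = vec z a b w' → w * w'⁻¹ ∈ zpowers z)
    (hρ : ρ ∈ 𝒞[z]) (ρa : ρ * a * ρ⁻¹ = a⁻¹) (ρb : ρ * b * ρ⁻¹ = b⁻¹) (hx : x ∈ 𝒞[z] ⊓ 𝒩(W))
    (xρ : x ∈ 𝒞[ρ]) (xa : x ∈ 𝒞[a]) (h1 : mat z a b x ≠ 1) :
    b * x * b⁻¹ = x * a⁻¹ * z ∨ b * x * b⁻¹ = x * a * z⁻¹ := by
  have f := h.f0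
  have e0 : (mat z a b x).ap (1, 0) = (1, 0) := by
    rw [← h.vec_a, ← h.vec_conj hx h.aW, mem_cent1.1 xa, mul_inv_cancel_right]
  have hw := conj_mem_of_norm le_rfl (inv_mem hx.2) h.bW
  have hv : vec z a b (x⁻¹ * b * x⁻¹⁻¹ * b⁻¹) = (mat z a b x)⁻¹.ap (0, 1) + -(0, 1) := by
    rw [vec_mul f h.aQ h.bQ (h.WQ hw) (inv_mem h.bQ), vec_inv f h.aQ h.bQ h.bQ,
      h.vec_conj (inv_mem hx) h.bW, h.ph.inv hx, h.vec_b]
  have key : ∀ a' ∈ Q, ρ * a' * ρ⁻¹ = a'⁻¹ → ∀ d ∈ zpowers z, b * a'⁻¹ * b⁻¹ = a'⁻¹ * d →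
      x⁻¹ * b * x⁻¹⁻¹ * b⁻¹ * a'⁻¹ ∈ zpowers z → b * x * b⁻¹ = x * a' * d := by
    intro a' ha' e1 d hd e2 hc
    generalize hcd : x⁻¹ * b * x⁻¹⁻¹ * b⁻¹ * a'⁻¹ = c at hc
    have e3 : b * x * b⁻¹ = x * (c * a') := by rw [← hcd]; group
    have e4 : b⁻¹ * x * b = x * (c * a'⁻¹) := by
      have := congrArg (fun y => ρ * y * ρ⁻¹) e3
      rw [show ρ * (b * x * b⁻¹) * ρ⁻¹ = (ρ * b * ρ⁻¹) * (ρ * x * ρ⁻¹) * (ρ * b * ρ⁻¹)⁻¹ by group,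
        show ρ * (x * (c * a')) * ρ⁻¹ = (ρ * x * ρ⁻¹) * ((ρ * c * ρ⁻¹) * (ρ * a' * ρ⁻¹)) by group,
        ρb, e1, Z_conj hρ hc, ← mem_cent1.1 xρ, mul_inv_cancel_right, inv_inv] at this
      exact this
    have e5 : c * c * d = 1 := by
      have : x = x * (c * c * d) := by
        calc x = b * (b⁻¹ * x * b) * b⁻¹ := by group
          _ = (b * x * b⁻¹) * (b * c * b⁻¹) * (b * a'⁻¹ * b⁻¹) := by rw [e4]; group
          _ = x * (c * (a' * c * a'⁻¹) * d) := by rw [e3, e2, Z_conj (f.Qc h.bQ) hc]; group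
          _ = _ := by rw [Z_conj (f.Qc ha') hc]
      exact (left_eq_mul.1 this)
    have e6 : c = d := by
      have := f.exp c (ZQ f hc)
      rw [pow_succ, pow_two, ← e5] at this
      exact mul_left_cancel this
    rw [e3, e6, Z_comm (f.Qc ha') hd, mul_assoc]
  have hba := conj_eq_of_bt f h.aQ h.bQ h.ba
  rcases S2.unip _ h1 e0 with e | e
  · left
    refine key a⁻¹ (inv_mem h.aQ) (by rw [← conj_inv (b := ρ), ρa]) z (mem_zpowers z)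
      (by rw [inv_inv, hba]) (hW _ (mul_mem hw (inv_mem h.bW)) _ (inv_mem h.aW) ?_)
    rw [hv, e, vec_inv f h.aQ h.bQ h.aQ, h.vec_a]; decide
  · right
    refine key a h.aQ ρa z⁻¹ (inv_mem (mem_zpowers z)) (by
      rw [← conj_inv (b := b), hba, mul_inv_rev, Z_comm (f.Qc (inv_mem h.aQ))
        (inv_mem (mem_zpowers z))]) (hW _ (mul_mem hw (inv_mem h.bW)) _ h.aW ?_)
    rw [hv, e, h.vec_a]; decide

omit [Finite G] in
theorem sc_inv {g w : G} (h : E1 z Q) (hg : g ∈ 𝒞[z]) (hw : w ∈ Q) (h1 : Sc z Q g w 1) :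
    Sc z Q g⁻¹ w 1 := by
  have := (sc_of_fix (z := z) (Q := Q) (g := 1) (w := w) (by simp))
  intro u hu
  rw [bt_conj' h (inv_mem hg) hu hw, inv_inv, ← one_mul (bt z _ w), ← h1 _ (conjQ h hg hu),
    bt_conj h hg hu hw, one_mul]

omit [Finite G] in
theorem sc_cube {g q : G} (h : E1 z Q) (hg : g ∈ 𝒞[z]) (hq : q ∈ Q)
    (h1 : Sc z Q g (g * q * g⁻¹ * q⁻¹) 1) : Sc z Q (g ^ 3) q 1 := fun u hu => by
  have hy := mul_mem (conjQ h hg hq) (inv_mem hq)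
  have hgg := mul_mem hg hg
  have h2 := sc_mul h hg hg hy h1 h1 u hu
  have e1 : g ^ 3 * q * (g ^ 3)⁻¹ = (g * g * (g * q * g⁻¹ * q⁻¹) * (g * g)⁻¹) *
      ((g * (g * q * g⁻¹ * q⁻¹) * g⁻¹) * ((g * q * g⁻¹ * q⁻¹) * q)) := by
    rw [pow_succ, pow_two]; group
  rw [e1, bt_mul_right h hu (conjQ h hgg hy) (mul_mem (conjQ h hg hy) (mul_mem hy hq)),
    bt_mul_right h hu (conjQ h hg hy) (mul_mem hy hq), bt_mul_right h hu hy hq, h2, h1 u hu]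
  generalize bt z u (g * q * g⁻¹ * q⁻¹) = i
  generalize bt z u q = j
  revert i j; decide

omit [Finite G] in
theorem bt_dis {g q w : G} (h : E1 z Q) (hg : g ∈ 𝒞[z]) (hq : q ∈ Q) (hw : w ∈ Q)
    (h1 : Sc z Q g w 1) : bt z (g * q * g⁻¹ * q⁻¹) w = 0 := by
  have h2 := h1 _ (conjQ h hg hq)
  rw [bt_conj h hg hq hw, one_mul] at h2
  rw [bt_mul_left h (conjQ h hg hq) (inv_mem hq) hw, bt_inv_left h hq hw, h2, add_neg_cancel]

/-- the stabiliser of the class of `w` -/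
def stb (h : E1 z Q) {w : G} (hw : w ∈ Q) : Subgroup G where
  carrier := {g | g ∈ 𝒞[z] ∧ Sc z Q g w 1}
  mul_mem' := fun {a b} ha hb => ⟨mul_mem ha.1 hb.1, by simpa using sc_mul h ha.1 hb.1 hw ha.2 hb.2⟩
  one_mem' := ⟨one_mem _, sc_of_fix (by simp)⟩
  inv_mem' := fun {a} ha => ⟨inv_mem ha.1, sc_inv h ha.1 hw ha.2⟩

end Cfsg.Agent.F3.Fa
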