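import Cfsg.Agent.F3.Bas2
import Cfsg.Agent.H44.Components
import Cfsg.Agent.H49.SylowOf
import Cfsg.Prelude.Def_Transfer
import Cfsg.Prelude.Def_Classical
import Cfsg.Prelude.Def_CaseTheorems

/-! Project F3: from the hypotheses of the recognition theorem to `B0`. -/

set_option autoImplicit false

namespace Cfsg.Agent.F3

open H49

variable {G : Type*} [Group G] [Finite G]

namespace Fr

open Subgroup T3.Fr2 MC3

variable {z : G} {Q P W : Subgroup G} {Qs : Fin 3 → Subgroup G}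

/-- the elements of `C(z)` that are trivial on `W/⟨z⟩` -/
def Tvs (z : G) (W : Subgroup G) : Subgroup G where
  carrier := {g | g ∈ 𝒞[z] ∧ Tv z W g}
  one_mem' := ⟨one_mem _, fun q _ => by simp⟩
  mul_mem' := fun {g k} a b => ⟨mul_mem a.1 b.1, fun q hq => by
    rw [show g * k * q * (g * k)⁻¹ * q⁻¹ = g * (k * q * k⁻¹ * q⁻¹) * g⁻¹ * (g * q * g⁻¹ * q⁻¹) by
      group, Z_conj a.1 (b.2 q hq)]
    exact mul_mem (b.2 q hq) (a.2 q hq)⟩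
  inv_mem' := fun {g} a => ⟨inv_mem a.1, fun q hq => by
    rw [show g⁻¹ * q * g⁻¹⁻¹ * q⁻¹ = g⁻¹ * (g * q * g⁻¹ * q⁻¹)⁻¹ * g⁻¹⁻¹ by group,
      Z_conj (inv_mem a.1) (inv_mem (a.2 q hq))]
    exact inv_mem (a.2 q hq)⟩

/-- the elements of `C(z)` fixed by `g` modulo `⟨z⟩` -/
def Fx (z g : G) : Subgroup G where
  carrier := {q | q ∈ 𝒞[z] ∧ g * q * g⁻¹ * q⁻¹ ∈ zpowers z}
  one_mem' := ⟨one_mem _, by simp⟩
  mul_mem' := fun {p q} a b => ⟨mul_mem a.1 b.1, by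
    rw [show g * (p * q) * g⁻¹ * (p * q)⁻¹ = (g * p * g⁻¹ * p⁻¹) * (p * (g * q * g⁻¹ * q⁻¹) * p⁻¹) by
      group, Z_conj a.1 b.2]
    exact mul_mem a.2 b.2⟩
  inv_mem' := fun {q} a => ⟨inv_mem a.1, by
    rw [show g * q⁻¹ * g⁻¹ * q⁻¹⁻¹ = q⁻¹ * (g * q * g⁻¹ * q⁻¹)⁻¹ * q⁻¹⁻¹ by group,
      Z_conj (inv_mem a.1) (inv_mem a.2)]
    exact inv_mem a.2⟩

omit [Finite G] in
theorem Zcube (h : orderOf z = 3) {c : G} (hc : c ∈ zpowers z) : c ^ 3 = 1 := by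
  obtain ⟨k, rfl⟩ := mem_zpowers_iff.1 hc
  rw [← zpow_natCast, ← zpow_mul, mul_comm, zpow_mul, zpow_natCast, ← h, pow_orderOf_eq_one, one_zpow]

omit [Finite G] in
theorem cube_cent (h : orderOf z = 3) {g : G} (hg : g ∈ Tvs z W) : g ^ 3 ∈ 𝒞(W) := fun q hq => by
  have e := hg.2 q hq
  generalize hc : g * q * g⁻¹ * q⁻¹ = c at e
  have e1 : g * q * g⁻¹ = c * q := by rw [← hc]; group
  have e2 : ∀ n : ℕ, g ^ n * q * (g ^ n)⁻¹ = c ^ n * q := fun n => by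
    induction n with
    | zero => simp
    | succ n ih =>
      calc g ^ (n + 1) * q * (g ^ (n + 1))⁻¹ = g * (g ^ n * q * (g ^ n)⁻¹) * g⁻¹ := by group
        _ = (g * c ^ n * g⁻¹) * (g * q * g⁻¹) := by rw [ih]; group
        _ = _ := by rw [Z_conj hg.1 (pow_mem e n), e1]; group
  have := e2 3
  rw [Zcube h e, one_mul, mul_inv_eq_iff_eq_mul] at this
  exact this.symm

theorem norm_Tvs (hW : 𝒞[z] ≤ 𝒩(W)) : 𝒞[z] ≤ 𝒩(Tvs z W) := fun k hk =>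
  mem_norm_of_cj_le fun x hx => by
    obtain ⟨g, hg, rfl⟩ := mem_cj'.1 hx
    refine ⟨mul_mem (mul_mem hk hg.1) (inv_mem hk), fun q hq => ?_⟩
    have := hg.2 _ (conj_mem_of_norm hW (inv_mem hk) hq)
    rw [← Z_conj hk this] at this
    convert this using 1
    group

omit [Finite G] in
theorem exp_sup {A B : Subgroup G} (h : A ≤ 𝒞(B)) (a : ∀ x ∈ A, x ^ 3 = 1) (b : ∀ x ∈ B, x ^ 3 = 1) :
    ∀ x ∈ A ⊔ B, x ^ 3 = 1 := fun x hx => by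
  obtain ⟨u, hu, v, hv, rfl⟩ := (mem_sup_of_norm_right (norm_of_cent h)).1 hx
  rw [Commute.mul_pow (h hu v hv).symm, a u hu, b v hv, one_mul]

/-- a 3-element normalising `⟨z⟩` centralises `z` -/
theorem cent_of_norm (h : orderOf z = 3) {g : G} {k : ℕ} (h3 : g ^ 3 ^ k = 1)
    (hg : g ∈ 𝒩(zpowers z)) : g ∈ 𝒞[z] := by
  have h1 := conj_mem_of_norm le_rfl hg (mem_zpowers z)
  have h2 := zp_lg h h1
  have z3 : z ^ 3 = 1 := h ▸ pow_orderOf_eq_one z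
  generalize lg z (g * z * g⁻¹) = i at h2
  have : i = 0 ∨ i = 1 ∨ i = 2 := by clear h2; revert i; decide
  rcases this with rfl | rfl | rfl
  · rw [zp_zero, eq_comm, conj_eq_one_iff] at h2
    rw [h2, orderOf_one] at h; omega
  · rw [zp_one, eq_comm, mul_inv_eq_iff_eq_mul] at h2
    exact mem_cent1.2 h2
  · have e : g * z * g⁻¹ = z ^ 2 := h2.symm
    have e2 : g ^ 2 ∈ 𝒞[z] := mem_cent1.2 (mul_inv_eq_iff_eq_mul.1 (by
      calc g ^ 2 * z * (g ^ 2)⁻¹ = g * (g * z * g⁻¹) * g⁻¹ := by rw [pow_two]; group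
        _ = (g * z * g⁻¹) ^ 2 := by rw [conj_pow, ← e]
        _ = z ^ 3 * z := by rw [e]; group
        _ = z := by rw [z3, one_mul]))
    obtain ⟨m, hm⟩ : Odd (3 ^ k) := Odd.pow (by decide)
    have : g = ((g ^ 2) ^ m)⁻¹ := by
      rw [eq_inv_iff_mul_eq_one, ← pow_mul, ← pow_succ', ← hm, h3]
    exact this ▸ inv_mem (pow_mem e2 m)

theorem nwc_of (h : orderOf z = 3) {S : Subgroup G} (hS : IsPGroup 3 S) (hz : z ∈ S) {g : G}
    (h1 : g * z * g⁻¹ ∈ S) (h2 : g * z * g⁻¹ ∉ zpowers z) :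
    ∃ g : G, g * z * g⁻¹ ∈ 𝒞[z] ∧ g * z * g⁻¹ ∉ zpowers z := by
  have : Fact (Nat.Prime 3) := ⟨Nat.prime_three⟩
  have c : S ⊓ 𝒩(zpowers z) ≤ 𝒞[z] := fun x hx =>
    let ⟨_, e⟩ := exists_pow_of_isP hS hx.1
    cent_of_norm h e hx.2
  by_cases hn : S ≤ 𝒩(zpowers z)
  · exact ⟨g, c ⟨h1, hn h1⟩, h2⟩
  have h3 : S ⊓ 𝒩(zpowers z) < S := lt_of_le_of_ne inf_le_left fun e => hn (inf_eq_left.1 e)
  obtain ⟨n, hn1, hn2⟩ := SetLike.exists_of_lt (lt_inf_norm_of_nilpotent hS.isNilpotent h3)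
  refine ⟨n, c (conj_mem_of_norm le_rfl hn1.2 ⟨hz, le_normalizer (mem_zpowers z)⟩), fun e => hn2
    ⟨hn1.1, mem_norm_of_cj_le (by rw [cj_zpowers]; exact zpowers_le.2 e)⟩⟩

/-- the hypotheses inside `G` -/
structure UP (z : G) (Q P : Subgroup G) (Qs : Fin 3 → Subgroup G) : Prop where
  z3 : orderOf z = 3
  Qc : Q ≤ 𝒞[z]
  comm : ∀ a ∈ Q, ∀ b ∈ Q, a * b * a⁻¹ * b⁻¹ ∈ zpowers z
  cen : ∀ a ∈ Q, (∀ b ∈ Q, a * b = b * a) → a ∈ zpowers z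
  nQ : 𝒩(zpowers z) ≤ 𝒩(Q)
  faith : Tvs z Q ≤ Q
  card : Nat.card Q = 2187
  zs : ∀ i, z ∈ Qs i
  cards : ∀ i, Nat.card (Qs i) = 27
  sup : Qs 0 ⊔ Qs 1 ⊔ Qs 2 = Q
  QQ : ∀ i j, i ≠ j → Qs i ≤ 𝒞(Qs j)
  QP : Q ≤ P
  Pc : P ≤ 𝒞[z]
  nP : 𝒞[z] ≤ 𝒩(P)
  cardP : Nat.card P = 2187 * 128
  PN : ∀ i, P ≤ 𝒩(Qs i)
  cent : ∀ i, ∃ x ∈ P, (∀ q ∈ Qs i, x * q * x⁻¹ * q ∈ zpowers z) ∧ ∀ j, j ≠ i → Tv z (Qs j) x
  max : ∀ M : Subgroup G, M ≤ 𝒞[z] → 𝒞[z] ≤ 𝒩(M) → (∀ g ∈ M, g ^ 4 ∈ Q) → M ≤ P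

omit [Finite G] in
theorem UP.le (h : UP z Q P Qs) (i : Fin 3) : Qs i ≤ Q := by
  rw [← h.sup]
  fin_cases i
  exacts [le_sup_left.trans le_sup_left, le_sup_right.trans le_sup_left, le_sup_right]

omit [Finite G] in
theorem UP.e1 (h : UP z Q P Qs) : E1 z Q := by
  have e : ∀ i, ∀ q ∈ Qs i, q ^ 3 = 1 := fun i q hq => by
    obtain ⟨x, hx, h1, -⟩ := h.cent i
    have hQ := h.le i hq
    have h3 : q ^ 3 ∈ zpowers z := h.cen _ (pow_mem hQ 3) fun b hb =>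
      (cube_cent h.z3 (W := Q) ⟨h.Qc hQ, h.comm q hQ⟩ b hb).symm
    have e := h1 q hq
    generalize hc : x * q * x⁻¹ * q = c at e
    have e1 : x * q * x⁻¹ = c * q⁻¹ := by rw [← hc]; group
    have e2 := Z_conj (h.Pc hx) h3
    rw [← conj_pow, e1, Commute.mul_pow (Z_comm (inv_mem (h.Qc hQ)) e), Zcube h.z3 e, one_mul] at e2
    have e3 := Zcube h.z3 h3
    rw [pow_succ, pow_two] at e3
    nth_rewrite 1 [← e2] at e3
    simpa using e3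
  refine ⟨h.z3, h.le 0 (h.zs 0), h.Qc, h.comm, h.cen, ?_, h.nQ, fun g hg hc => h.faith ⟨hg, hc⟩⟩
  rw [← h.sup]
  exact exp_sup (sup_le (h.QQ 0 2 (by decide)) (h.QQ 1 2 (by decide)))
    (exp_sup (h.QQ 0 1 (by decide)) (e 0) (e 1)) (e 2)

omit [Finite G] in
theorem UP.ker (h : UP z Q P Qs) {g : G} (hg : g ∈ 𝒞[z]) (tv : ∀ i, Tv z (Qs i) g) : g ∈ Q := by
  have k : ∀ i, Qs i ≤ Fx z g := fun i q hq => ⟨h.Qc (h.le i hq), tv i q hq⟩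
  have : Q ≤ Fx z g := h.sup ▸ sup_le (sup_le (k 0) (k 1)) (k 2)
  exact h.faith ⟨hg, fun q hq => (this hq).2⟩

theorem pow4 : ∀ A B : S2, A ^ 4 = 1 → B ^ 4 = 1 → (A * B) ^ 4 = 1 := by decide +kernel

theorem UP.b1 (h : UP z Q P Qs) : ∃ r R, B1 z Q Qs r R ∧ Q ⊔ R = P := by
  have f := h.e1
  have : Fact (Nat.Prime 2) := ⟨Nat.prime_two⟩
  obtain ⟨R0, hR0⟩ := Sylow.exists_subgroup_card_pow_prime (G := P) 2 (n := 7)
    (by rw [h.cardP]; norm_num)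
  set R := R0.map P.subtype with hR
  have cR : Nat.card R = 128 := by rw [hR, card_map_of_injective P.subtype_injective, hR0]; rfl
  have RP : R ≤ P := map_subtype_le _
  have nQ : R ≤ 𝒩(Q) := (RP.trans h.Pc).trans (Fa.cQ f)
  have QR : Q ⊓ R = ⊥ := disjoint_iff.1 <| disjoint_of_coprime_natCard (by rw [h.card, cR]; norm_num)
  have eP : Q ⊔ R = P := eq_of_le_of_card_eq (sup_le h.QP RP) (by
    rw [card_sup_of_disjoint (.inr nQ) QR, h.card, cR, h.cardP])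
  have key : ∀ i, ∃ ρ ∈ R, ρ * ρ = 1 ∧ (∀ q ∈ Qs i, ρ * q * ρ⁻¹ * q ∈ zpowers z) ∧
      ∀ j, i ≠ j → ρ ∈ 𝒞(Qs j) := fun i => by
    obtain ⟨x, hx, h1, h2⟩ := h.cent i
    have xc := h.Pc hx
    obtain ⟨q, hq, ρ, hρ, e⟩ := (mem_sup_of_norm_left nQ).1 (eP.ge hx)
    have e' : ρ = q⁻¹ * x := by rw [e]; group
    have ρc := h.Pc (RP hρ)
    have s1 : ∀ u ∈ Qs i, Sc z Q ρ u (-1) := fun u hu => by
      have hu' := h.le i hu
      simpa [e'] using Fa.sc_mul f (inv_mem (h.Qc hq)) xc hu' (Fa.sc_Q f (inv_mem hq) hu')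
        ((Fa.sc_neg f xc hu').2 (h1 u hu))
    have s2 : ∀ j, j ≠ i → ρ ∈ Tvs z (Qs j) := fun j hj => e' ▸ mul_mem (inv_mem
      ⟨h.Qc hq, fun u hu => h.comm q hq u (h.le j hu)⟩) ⟨xc, h2 j hj⟩
    have r2 : ρ * ρ = 1 := by
      have : ρ * ρ ∈ Q ⊓ R := ⟨h.ker (mul_mem ρc ρc) fun j => ?_, mul_mem hρ hρ⟩
      · rwa [QR, mem_bot] at this
      by_cases hj : j = i
      · subst hj
        exact fun u hu => (Fa.sc_one f (mul_mem ρc ρc) (h.le j hu)).1 (by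
          simpa using Fa.sc_mul f ρc ρc (h.le j hu) (s1 u hu) (s1 u hu))
      · exact (mul_mem (s2 j hj) (s2 j hj)).2
    exact ⟨ρ, hρ, r2, fun u hu => (Fa.sc_neg f ρc (h.le i hu)).1 (s1 u hu), fun j hj u hu =>
      (mul_inv_eq_iff_eq_mul.1 (Fa.fix_of_invol f ρc r2 ((s2 j hj.symm).2 u hu))).symm⟩
  choose r hr r2 ri rc using key
  exact ⟨r, R, ⟨⟨f, h.card, h.zs, h.cards, h.sup, h.QQ, r2, hr, ri, rc,
    IsPGroup.of_card (n := 7) cR, RP.trans h.Pc, fun i => RP.trans (h.PN i), eP ▸ h.nP⟩, cR⟩, eP⟩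

theorem UP.b0 (h : UP z Q P Qs) : ∃ r R, B0 z Q Qs r R := by
  obtain ⟨r, R, B, eP⟩ := h.b1
  have f := B.toE1
  obtain ⟨a, b, fm⟩ := B.exists_fm
  have ph := fun i => (B.hp (fm i)).ph
  have k : ∀ g ∈ 𝒞[z], Ba Qs g → (g ^ 4 ∈ Q ↔ ∀ i, mat z (a i) (b i) g ^ 4 = 1) := fun g hg bg =>
    ⟨fun e i => by rw [← (ph i).pow ⟨hg, bg i⟩, (B.hp (fm i)).mat_Q e], fun e =>
      B.ker (pow_mem hg 4) fun i => (B.tv_iff (fm i) ⟨pow_mem hg 4, pow_mem (bg i) 4⟩).2 (by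
        rw [(ph i).pow ⟨hg, bg i⟩, e i])⟩
  let M : Subgroup G :=
    { carrier := {g | g ∈ 𝒞[z] ∧ Ba Qs g ∧ g ^ 4 ∈ Q}
      one_mem' := ⟨one_mem _, fun i => one_mem _, by simp⟩
      mul_mem' := fun {g l} hg hl => ⟨mul_mem hg.1 hl.1, fun i => mul_mem (hg.2.1 i) (hl.2.1 i),
        (k _ (mul_mem hg.1 hl.1) fun i => mul_mem (hg.2.1 i) (hl.2.1 i)).2 fun i => by
          rw [(ph i).mul _ ⟨hg.1, hg.2.1 i⟩ _ ⟨hl.1, hl.2.1 i⟩]
          exact pow4 _ _ ((k g hg.1 hg.2.1).1 hg.2.2 i) ((k l hl.1 hl.2.1).1 hl.2.2 i)⟩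
      inv_mem' := fun {g} hg => ⟨inv_mem hg.1, fun i => inv_mem (hg.2.1 i), by
        rw [inv_pow]; exact inv_mem hg.2.2⟩ }
  have hM : M ≤ P := h.max M (fun g hg => hg.1) (fun l hl => mem_norm_of_cj_le fun x hx => by
    obtain ⟨g, hg, rfl⟩ := mem_cj'.1 hx
    obtain ⟨σ, hσ⟩ := B.perm hl
    refine ⟨mul_mem (mul_mem hl hg.1) (inv_mem hl), fun i => ?_, by
      rw [conj_pow]; exact Fa.conjQ f hl hg.2.2⟩
    have := hσ (σ.symm i)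
    rw [Equiv.apply_symm_apply] at this
    rw [← this, ← cj_normalizer]
    exact mem_cj'.2 ⟨g, hg.2.1 _, rfl⟩) fun g hg => hg.2.2
  exact ⟨r, R, B, fun g hg bg e => eP.ge (hM ⟨hg, bg, e⟩)⟩

end Fr

open Subgroup in
open scoped commutatorElement in
theorem fr
    (H : Subgroup G) (Q : Subgroup H) (hQF : Q = Cfsg.generalizedFittingSubgroup H) [hQn : Q.Normal]
    (hQex : Cfsg.IsExtraspecial 3 Q) (hQcard : Nat.card Q = 3 ^ 7)
    (hZZ : (Subgroup.center Q).map Q.subtype = Subgroup.center H)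
    (P : Subgroup H) (hP : P = (Cfsg.pCore 2 (H ⧸ Q)).comap (QuotientGroup.mk' Q))
    (hPcard : Nat.card (Cfsg.pCore 2 (H ⧸ Q)) = 2 ^ 7)
    (Q₁ Q₂ Q₃ : Subgroup H) (hle : Q₁ ≤ Q ∧ Q₂ ≤ Q ∧ Q₃ ≤ Q)
    (hZle : Subgroup.center H ≤ Q₁ ∧ Subgroup.center H ≤ Q₂ ∧ Subgroup.center H ≤ Q₃)
    (hex : Cfsg.IsExtraspecial 3 Q₁ ∧ Cfsg.IsExtraspecial 3 Q₂ ∧ Cfsg.IsExtraspecial 3 Q₃)
    (hcard : Nat.card Q₁ = 27 ∧ Nat.card Q₂ = 27 ∧ Nat.card Q₃ = 27)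
    (hcomm : (∀ a ∈ Q₁, ∀ b ∈ Q₂, a * b = b * a) ∧ (∀ a ∈ Q₁, ∀ b ∈ Q₃, a * b = b * a) ∧ (∀ a ∈ Q₂, ∀ b ∈ Q₃, a * b = b * a))
    (hprod : Q₁ ⊔ Q₂ ⊔ Q₃ = Q)
    (hnorm : ∀ x ∈ P, ∀ Qᵢ ∈ [Q₁, Q₂, Q₃], ∀ q ∈ Qᵢ, x * q * x⁻¹ ∈ Qᵢ)
    (hexp4 : ∀ x ∈ P, ∀ Qᵢ ∈ [Q₁, Q₂, Q₃], ∀ q ∈ Qᵢ, x ^ 4 * q * (x ^ 4)⁻¹ * q⁻¹ ∈ Subgroup.center H)
    (hinv : ∀ x ∈ P, ∀ Qᵢ ∈ [Q₁, Q₂, Q₃], (∀ q ∈ Qᵢ, x ^ 2 * q * (x ^ 2)⁻¹ * q⁻¹ ∈ Subgroup.center H) →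
      (∀ q ∈ Qᵢ, x * q * x⁻¹ * q⁻¹ ∈ Subgroup.center H) ∨ (∀ q ∈ Qᵢ, x * q * x⁻¹ * q ∈ Subgroup.center H))
    (hcent : ∀ Qᵢ ∈ [Q₁, Q₂, Q₃], ∃ x ∈ P, (∀ q ∈ Qᵢ, x * q * x⁻¹ * q ∈ Subgroup.center H) ∧
      ∀ Qⱼ ∈ [Q₁, Q₂, Q₃], Qⱼ ≠ Qᵢ → ∀ q ∈ Qⱼ, x * q * x⁻¹ * q⁻¹ ∈ Subgroup.center H)
    (Z : Subgroup G) (hZ : Z = (Subgroup.center H).map H.subtype) (hHC : H = Subgroup.centralizer (Z : Set G))
    (S : Sylow 3 G) (hZS : Z ≤ S) (hnwc : ¬ Cfsg.IsWeaklyClosed Z S) :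
    ∃ (z : G) (Q' : Subgroup G) (Qs : Fin 3 → Subgroup G) (r : Fin 3 → G) (R : Subgroup G),
      B0 z Q' Qs r R ∧ (∃ g : G, g * z * g⁻¹ ∈ 𝒞[z] ∧ g * z * g⁻¹ ∉ Subgroup.zpowers z) ∧
      (¬ WC z Q' → ¬ Cfsg.IsWeaklyClosed Z ((Cfsg.pCore 3 H).map H.subtype)) := by
  have : Fact (Nat.Prime 3) := ⟨Nat.prime_three⟩
  clear hexp4 hinv
  have inj := H.subtype_injective
  have hZ3 : Nat.card Z = 3 := by
    rw [hZ, card_map_of_injective inj, ← hZZ, card_map_of_injective Q.subtype_injective, hQex.2]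
  have hp : (Nat.card Z).Prime := hZ3 ▸ Nat.prime_three
  obtain ⟨z, hz, hz1⟩ := ne_bot_iff_exists.1 (ne_bot_of_prime_card hp)
  have ez : zpowers z = Z :=
    (eq_bot_or_eq_of_prime_card hp (zpowers_le.2 hz)).resolve_left (by simpa using hz1)
  subst ez
  rw [cent_zpowers] at hHC
  have z3 : orderOf z = 3 := by rw [← Nat.card_zpowers, hZ3]
  have mZ : ∀ x : H, x ∈ center H ↔ (x : G) ∈ zpowers z := fun x => by
    rw [hZ]; exact (mem_map_iff_mem inj).symm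
  have eQ : Q.map H.subtype = H44.FSof H := by rw [hQF]
  set Q' := Q.map H.subtype with hQ'
  have QC : Q' ≤ 𝒞[z] := hHC ▸ map_subtype_le _
  have cen : ∀ a ∈ Q', (∀ b ∈ Q', a * b = b * a) → a ∈ zpowers z := by
    rintro _ ⟨a, ha, rfl⟩ hc
    refine (mZ a).1 (hZZ ▸ ⟨⟨a, ha⟩, mem_center_iff.2 fun c => Subtype.ext (Subtype.ext ?_), rfl⟩)
    exact (hc _ ⟨c, c.2, rfl⟩).symm
  have nQ : 𝒩(zpowers z) ≤ 𝒩(Q') := by
    rw [eQ]
    refine le_trans ?_ (H44.normalizer_le_normalizer_FSof H)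
    rw [hHC, ← cent_zpowers]; exact norm_cent le_rfl
  have cQ : 𝒞[z] ≤ 𝒩(Q') := le_trans (by rw [← cent_zpowers]; exact cent_le_norm _) nQ
  let QH : Fin 3 → Subgroup H := ![Q₁, Q₂, Q₃]
  have mL : ∀ i, QH i ∈ [Q₁, Q₂, Q₃] := fun i => by fin_cases i <;> simp [QH]
  have cH : ∀ i j, i ≠ j → ∀ a ∈ QH i, ∀ b ∈ QH j, a * b = b * a := fun i j hij => by
    fin_cases i <;> fin_cases j
    exacts [(hij rfl).elim, hcomm.1, hcomm.2.1, fun a ha b hb => (hcomm.1 b hb a ha).symm,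
      (hij rfl).elim, hcomm.2.2, fun a ha b hb => (hcomm.2.1 b hb a ha).symm,
      fun a ha b hb => (hcomm.2.2 b hb a ha).symm, (hij rfl).elim]
  have nH : ∀ i j, i ≠ j → QH i ≠ QH j := fun i j hij e => by
    have ex : Cfsg.IsExtraspecial 3 (QH i) := by
      fin_cases i
      exacts [hex.1, hex.2.1, hex.2.2]
    have h1 : commutator (QH i) = ⊥ := by
      rw [commutator_def, commutator_eq_bot_iff_le_centralizer]
      exact fun a _ b _ => Subtype.ext (cH i j hij b b.2 a (e ▸ a.2))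
    have := ex.2
    rw [← ex.1.2.2, h1, card_bot] at this
    omega
  have U : Fr.UP z Q' (P.map H.subtype) fun i => (QH i).map H.subtype :=
    { z3 := z3
      Qc := QC
      comm := by
        rintro _ ⟨a, ha, rfl⟩ _ ⟨b, hb, rfl⟩
        refine (mZ (a * b * a⁻¹ * b⁻¹)).1 (hZZ ▸ ⟨⁅(⟨a, ha⟩ : Q), ⟨b, hb⟩⁆, ?_, rfl⟩)
        rw [← hQex.1.2.2]
        exact commutator_mem_commutator (mem_top _) (mem_top _)
      cen := cen
      nQ := nQ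
      faith := by
        have : IsPGroup 3 (Fr.Tvs z Q') := fun k => ⟨2, Subtype.ext (by
          have h1 := Fr.cube_cent z3 k.2
          have h2 : (k : G) ^ 3 ∈ Q' := eQ.ge (H44.inf_centralizer_FSof_le H
            ⟨hHC.ge (pow_mem k.2.1 3), centralizer_le eQ.ge h1⟩)
          have := Fr.Zcube z3 (cen _ h2 fun b hb => (h1 b hb).symm)
          rwa [← pow_mul] at this)⟩
        rw [eQ] at this ⊢
        exact (H44.le_fittingOf (fun g hg => hHC ▸ hg.1) (hHC.le.trans (Fr.norm_Tvs (eQ ▸ cQ)))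
          this.isNilpotent).trans (H44.Fof_le_FSof _)
      card := by rw [hQ', card_map_of_injective inj, hQcard]; rfl
      zs := fun i => by
        have hz' : z ∈ H := hHC ▸ self_mem_cent1 z
        refine ⟨⟨z, hz'⟩, ?_, rfl⟩
        have := (mZ ⟨z, hz'⟩).2 (mem_zpowers z)
        fin_cases i
        exacts [hZle.1 this, hZle.2.1 this, hZle.2.2 this]
      cards := fun i => by
        rw [card_map_of_injective inj]
        fin_cases i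
        exacts [hcard.1, hcard.2.1, hcard.2.2]
      sup := by rw [hQ', ← hprod, Subgroup.map_sup, Subgroup.map_sup]; rfl
      QQ := by
        rintro i j hij _ ⟨a, ha, rfl⟩ _ ⟨b, hb, rfl⟩
        exact congrArg Subtype.val (cH i j hij a ha b hb).symm
      QP := map_mono fun q hq => by
        rw [hP, mem_comap, QuotientGroup.mk'_apply, (QuotientGroup.eq_one_iff q).2 hq]
        exact one_mem _
      Pc := hHC ▸ map_subtype_le _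
      nP := by
        have : (Cfsg.pCore 2 (H ⧸ Q)).Characteristic := H44.pCore_characteristic
        have : P.Normal := hP ▸ inferInstance
        exact hHC.ge.trans (norm_map_subtype P)
      cardP := by
        rw [card_map_of_injective inj, hP]
        refine (Nat.card_congr (QuotientGroup.preimageMkEquivSubgroupProdSet Q
          (Cfsg.pCore 2 (H ⧸ Q) : Set (H ⧸ Q)))).trans ?_
        rw [Nat.card_prod, hQcard]
        exact congrArg _ hPcard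
      PN := by
        rintro i _ ⟨x, hx, rfl⟩
        refine mem_norm_of_cj_le fun y hy => ?_
        obtain ⟨_, ⟨q, hq, rfl⟩, rfl⟩ := mem_cj'.1 hy
        exact ⟨_, hnorm x hx _ (mL i) q hq, rfl⟩
      cent := fun i => by
        obtain ⟨x, hx, h1, h2⟩ := hcent _ (mL i)
        refine ⟨x, ⟨x, hx, rfl⟩, ?_, fun j hj => ?_⟩
        · rintro _ ⟨q, hq, rfl⟩
          exact (mZ _).1 (h1 q hq)
        · rintro _ ⟨q, hq, rfl⟩
          exact (mZ _).1 (h2 _ (mL j) (nH j i hj) q hq)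
      max := fun M h1 h2 h3 g hg => by
        have hn : (M.subgroupOf H).Normal := normal_subgroupOf (hHC.le.trans h2)
        have h4 : (M.subgroupOf H).map (QuotientGroup.mk' Q) ≤ Cfsg.pCore 2 (H ⧸ Q) :=
          H44.le_pCore (hn.map _ (QuotientGroup.mk'_surjective Q)) (by
            rintro ⟨_, k, hk, rfl⟩
            refine ⟨2, Subtype.ext ?_⟩
            show (QuotientGroup.mk' Q k) ^ 4 = 1
            rw [← map_pow, QuotientGroup.mk'_apply, QuotientGroup.eq_one_iff]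
            exact (mem_map_iff_mem inj).1 (h3 k hk))
        exact ⟨⟨g, hHC.ge (h1 hg)⟩, hP ▸ h4 ⟨_, hg, rfl⟩, rfl⟩ }
  obtain ⟨r, R, B⟩ := U.b0
  refine ⟨z, Q', _, r, R, B, ?_, fun hw hc => hw fun g hg => ?_⟩
  · have : ∃ g : G, g * z * g⁻¹ ∈ (S : Subgroup G) ∧ g * z * g⁻¹ ∉ zpowers z := by
      by_contra hc
      push Not at hc
      refine hnwc ⟨hZS, fun g hg => ?_⟩
      rw [map_conj_eq_cj, cj_zpowers] at hg ⊢
      refine eq_of_le_of_card_eq (zpowers_le.2 (hc g (hg (mem_zpowers _)))) ?_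
      rw [← cj_zpowers, card_cj]
    obtain ⟨g, h1, h2⟩ := this
    exact Fr.nwc_of z3 S.isPGroup' (hZS (mem_zpowers z)) h1 h2
  · have := hc.2 g (by
      rw [map_conj_eq_cj, cj_zpowers]
      exact zpowers_le.2 (map_mono (H44.le_pCore hQn hQex.1.1) hg))
    rw [map_conj_eq_cj, cj_zpowers] at this
    exact this ▸ mem_zpowers _

end Cfsg.Agent.F3
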