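/-
Project F3: outer involutions of `2 . U₆(2) . 2`.
-/
import Cfsg.Agent.F3.RecD
import Cfsg.Agent.U6S.Out

set_option autoImplicit false
set_option linter.unusedSectionVars false
set_option maxRecDepth 100000

namespace Cfsg.Agent.F3

open H22 H22.U6

variable {H G : Type*} [Group H] [Group G] [Finite H] [Group.IsPerfect H] {j : H →* G} {π : H →* L6} {d : H}

namespace RA

open U6S H95 H29 H29.F4 Subgroup

/-- `s` induces the field automorphism -/
structure NF (j : H →* G) (π : H →* L6) (d : H) (s : G) : Prop where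
  e : Emb2 j π d
  dc : DC π d
  c : Commute s (j d)
  n : s ∉ j.range
  act : ∀ y y', s * j y * s⁻¹ = j y' → π y' = sg (π y)

theorem exists_nf (h : Emb2 j π d) (hd : DC π d) : ∃ π' s, NF j π' d s := by
  obtain ⟨s, hs, hn, ss⟩ := h.oi
  choose θ hθ using h.nrm s hs
  let θ' : H →* H := MonoidHom.mk' θ fun a b => h.inj (by rw [map_mul j (θ a), ← hθ, ← hθ, ← hθ, map_mul, conj_mul])
  have θθ : ∀ y, θ (θ y) = y := fun y => h.inj (by
    rw [← hθ, ← hθ]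
    calc _ = s * s * j y * (s * s)⁻¹ := by group
      _ = _ := by rw [ss]; group)
  let α : L6 →* L6 := π.liftOfSurjective hd.surj ⟨π.comp θ', fun y hy => by
    rcases (hd.ker y).1 hy with e | e <;> rw [e]
    · exact map_one _
    · show π (θ d) = 1
      rw [h.inj ((hθ d).symm.trans (by rw [hs.eq, mul_inv_cancel_right])), hd.map_d]⟩
  have hα : ∀ y, α (π y) = π (θ y) := fun y => π.liftOfRightInverse_comp_apply _ _ _ y
  have αα : α.comp α = MonoidHom.id _ := MonoidHom.ext fun x => by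
    obtain ⟨y, rfl⟩ := hd.surj x
    rw [MonoidHom.comp_apply, hα, hα, θθ, MonoidHom.id_apply]
  obtain ⟨β, k, e⟩ := twist (α.toMulEquiv α αα αα) 
    ⟨1, (MulEquiv.ext fun x => (DFunLike.congr_fun αα x :)).trans (map_one _).symm⟩ fun g e => by
      obtain ⟨l, rfl⟩ := hd.surj g
      rcases h.fa ((j l)⁻¹ * s) (((hd.cen l).map j).inv_left.mul_left hs) (fun y => ⟨l⁻¹ * θ y * l, by
        rw [map_mul, map_mul, ← hα, show α (π y) = π l * π y * (π l)⁻¹ from DFunLike.congr_fun e (π y), map_inv]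
        group, by rw [map_mul, map_mul, ← hθ, map_inv]; group⟩) with e | e
      exacts [hn ⟨l, inv_mul_eq_one.1 e⟩, hn ⟨l * d, by rw [map_mul, ← e, mul_inv_cancel_left]⟩]
  obtain ⟨k, rfl⟩ := hd.surj k
  refine ⟨β.symm.toMonoidHom.comp π, j k * s, ⟨h.inj, h.nrm, h.idx, fun c hc hy => h.fa c hc fun y => ?_, s, hs, hn, ss⟩,
    ⟨β.symm.surjective.comp hd.surj, hd.sq, hd.ne, hd.cen, fun y => ?_⟩, ((hd.cen k).map j).mul_left hs,
    fun e => hn ((j.range.mul_mem_cancel_left ⟨k, rfl⟩).1 e), fun y y' e' => ?_⟩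
  · obtain ⟨y', e1, e2⟩ := hy y
    exact ⟨y', β.symm.injective e1, e2⟩
  · exact (map_eq_one_iff _ β.symm.injective).trans (hd.ker y)
  · obtain rfl : y' = k * θ y * k⁻¹ := h.inj (by rw [← e', map_mul, map_mul, ← hθ, map_inv]; group)
    show β.symm (π _) = sg (β.symm (π y))
    rw [MulEquiv.symm_apply_eq, ← e, MulEquiv.apply_symm_apply, map_mul, map_mul, map_inv, ← hα]
    rfl

theorem sg_tp (x : V3) : sg (tp x) = tp (fr ∘ x) := by
  rw [tp, sg_tv (herm_io x x), tp, io_eq, io_eq]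
  refine congrArg tv (funext fun i => ?_)
  fin_cases i <;> rfl

theorem tp_rg (x : V3) : tp x ∈ Tr.range := ⟨_, (tp_eq x).symm⟩

theorem cT (hd : DC π d) {a b : H} (ha : π a ∈ Tr.range) (hb : π b ∈ Tr.range) : a * a = 1 ∧ Commute a b := by
  obtain ⟨K, e⟩ := ha
  obtain ⟨K', e'⟩ := hb
  exact ⟨li hd _ (e ▸ Tr_sq K), (li hd).commute (e ▸ Tr_sq K) (e' ▸ Tr_sq K') (e ▸ e' ▸ (Commute.all _ _).map Tr)⟩

variable {s : G} {E : Set H}

theorem NF.fixE (h : NF j π d s) (hE : Cl1 π E6 E) {a b : H} (ha : a ∈ E) (hb : b ∈ E) (e : π b = sg (π a)) :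
    s * j a * s⁻¹ = j b := by
  choose θ hθ using h.e.nrm s h.c
  refine (h.dc.eq_or' (e.trans (h.act _ _ (hθ a)).symm)).elim (fun k => k ▸ hθ a) fun k => False.elim ?_
  have k1 : ∀ a' ∈ E, ∀ b' ∈ E, π b' = sg (π a') → s * j a' * s⁻¹ = j (d * b') := fun a' ha' b' hb' e' => by
    obtain ⟨g, hg⟩ := exists_cj ((isConj_E6 (hE.map_mem ha)).symm.trans (isConj_E6 (hE.map_mem ha')))
    obtain ⟨g, rfl⟩ := h.dc.surj g
    have e1 : s * j a' * s⁻¹ = j (d * cj (θ g) b) := by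
      rw [← hE.cj_eq ha ha' hg, ← h.dc.cj_d (θ g), ← cj_mul_cj, ← k, map_cj, map_cj, ← hθ, ← hθ, cj_def, cj_def]
      group
    rw [e1, hE.inj (hE.conj _ _ hb) hb' ((h.dc.map_d_mul _).symm.trans ((h.act _ _ e1).trans e'.symm))]
  have k2 : ∀ x y : V3, x ≠ 0 ∧ y ≠ 0 ∧ fr ∘ x = y →
      s * j (hE.lift (tp x)) * s⁻¹ = j (d * hE.lift (tp y)) := fun x y ⟨h1, h2, h3⟩ =>
    k1 _ (hE.lift_mem (tp_mem h1)) _ (hE.lift_mem (tp_mem h2))
      (by rw [hE.map_lift (tp_mem h1), hE.map_lift (tp_mem h2), sg_tp, h3])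
  have k3 : ∀ a b : H, d * a * (d * b) = a * b := fun a b => by rw [← (h.dc.cen a).eq, mul_assoc, h.dc.d_d_mul]
  have m : ∀ x : V3, x ≠ 0 → π (hE.lift (tp x)) = tp x := fun x hx => hE.map_lift (tp_mem hx)
  have c1 : Commute s (j (hE.lift (tp ![1, w, 0]) * hE.lift (tp ![1, v, 0]))) := by
    rw [Commute, SemiconjBy, ← mul_inv_eq_iff_eq_mul, map_mul, ← conj_mul, k2 _ ![1, v, 0] (by decide +kernel),
      k2 _ ![1, w, 0] (by decide +kernel), ← map_mul, ← map_mul, k3, (cT h.dc (by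
        rw [m _ (by decide +kernel)]; exact tp_rg _) (by rw [m _ (by decide +kernel)]; exact tp_rg _)).2.eq]
  have c2 : Commute s (j (hE.lift (tp e0) * (hE.lift (tp e1) * hE.lift (tp ![1, 1, 0])))) := by
    rcases h.dc.eq_or' (y := hE.lift (tp ![1, w, 0]) * hE.lift (tp ![1, v, 0]))
      (y' := hE.lift (tp e0) * (hE.lift (tp e1) * hE.lift (tp ![1, 1, 0]))) (by
        rw [map_mul, map_mul, map_mul, m _ (by decide +kernel), m _ (by decide +kernel), m _ (by decide +kernel),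
          m _ (by decide +kernel), m _ (by decide +kernel)]
        simp only [tp_eq, ← map_mul]
        exact congrArg Tr (hx_inj (by decide +kernel))) with e | e <;> rw [e]
    · exact c1
    · rw [map_mul]; exact h.c.mul_right c1
  have c3 := mul_inv_eq_iff_eq_mul.2 c2.eq
  rw [map_mul, map_mul, ← conj_mul, ← conj_mul, k2 _ e0 (by decide +kernel), k2 _ e1 (by decide +kernel),
    k2 _ ![1, 1, 0] (by decide +kernel), ← map_mul, ← map_mul, ← map_mul, ← map_mul, k3, mul_assoc] at c3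
  exact h.dc.d_mul_ne _ (h.e.inj c3)

theorem NF.fixp (h : NF j π d s) (hE : Cl1 π E6 E) {x : V3} (hx : x ≠ 0) :
    fr ∘ x ≠ 0 ∧ s * j (hE.lift (tp x)) * s⁻¹ = j (hE.lift (tp (fr ∘ x))) := by
  have h1 : fr ∘ x ≠ 0 := fun e => hx (funext fun i => (map_eq_zero_iff fr fr.injective).1 (congrFun e i))
  exact ⟨h1, h.fixE hE (hE.lift_mem (tp_mem hx)) (hE.lift_mem (tp_mem h1))
    (by rw [hE.map_lift (tp_mem hx), hE.map_lift (tp_mem h1), sg_tp])⟩

theorem NF.nf (h : NF j π d s) {y : G} (hy : Commute y (j d)) (hn : y ∉ j.range) (y2 : y * y = 1 ∨ y * y = j d) :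
    ∃ m p, y = j m * (j p * s) * (j m)⁻¹ ∧ Commute s (j p) ∧ π p ∈ Tr.range := by
  obtain ⟨E, hE⟩ := exists_cl1 h.dc
  choose θ hθ using h.e.nrm s h.c
  have k : ∀ c : G, c = 1 ∨ c = j d → ∃ z, π z = 1 ∧ c = j z := by
    rintro _ (rfl | rfl)
    exacts [⟨1, map_one π, (map_one j).symm⟩, ⟨d, h.dc.map_d, rfl⟩]
  obtain ⟨z, z1, z2⟩ := k _ y2
  obtain ⟨z', z3, z4⟩ := k _ (h.e.fa (s * s) (h.c.mul_left h.c) fun y => ⟨θ (θ y), by
    rw [h.act _ _ (hθ _), h.act _ _ (hθ _), sg_sg], by rw [← hθ, ← hθ]; group⟩)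
  obtain ⟨l, hl⟩ := h.e.idx y s⁻¹ hy h.c.inv_left hn fun e => h.n (inv_mem_iff.1 e)
  have h1 : l * θ l * z' = z := h.e.inj (by rw [map_mul, map_mul, ← hθ, ← z2, ← z4, hl]; group)
  obtain ⟨m, l0, h2, h3⟩ := outer (k := π l) (by
    rw [← h.act _ _ (hθ l), ← z1, ← h1, map_mul, map_mul, z3, mul_one])
  obtain ⟨m, rfl⟩ := h.dc.surj m
  have h4 : MON.Cox.wp E62.FT.av l0 ∈ ((centralizer {s}).comap j).map π ⊓ Tr.range := MON.Cox.wp_mem _ fun i hi => by
    obtain ⟨x, x1, x2, x3⟩ : ∃ x : V3, x ≠ 0 ∧ fr ∘ x = x ∧ E62.FT.av i = tp x := by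
      rcases (by decide +kernel : ∀ l ∈ OL.map Prod.fst, ∀ i ∈ l, i = 0 ∨ i = 2 ∨ i = 4) _ h2 i hi with rfl | rfl | rfl
      · exact ⟨e0, by decide +kernel, by decide +kernel, congrArg tv (by decide +kernel)⟩
      · exact ⟨e1, by decide +kernel, by decide +kernel, congrArg tv (by decide +kernel)⟩
      · exact ⟨e2, by decide +kernel, by decide +kernel, congrArg tv (by decide +kernel)⟩
    have := (h.fixp hE x1).2
    rw [x2] at this
    exact x3 ▸ ⟨⟨_, mem_centralizer_singleton_iff.2 (mul_inv_eq_iff_eq_mul.1 this).symm, hE.map_lift (tp_mem x1)⟩,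
      tp_rg x⟩
  have h5 : π (m⁻¹ * l * θ m) = MON.Cox.wp E62.FT.av l0 := by
    rw [map_mul, map_mul, map_inv, h.act _ _ (hθ m), h3]
  obtain ⟨⟨p, p1, p2⟩, h6⟩ := h4
  have p3 : Commute s (j p) := (mem_centralizer_singleton_iff.1 p1).symm
  refine ⟨m, m⁻¹ * l * θ m, by rw [map_mul, map_mul, map_inv, ← hθ, hl]; group, ?_, h5 ▸ h6⟩
  rcases h.dc.eq_or (p2.trans h5.symm) with e | e <;> rw [e]
  · exact p3
  · rw [map_mul]; exact p3.mul_right h.c

theorem NF.sq_eq (h : NF j π d s) {y : G} (hy : Commute y (j d)) (hn : y ∉ j.range)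
    (y2 : y * y = 1 ∨ y * y = j d) : y * y = 1 ↔ s * s = 1 := by
  obtain ⟨m, p, rfl, h1, h2⟩ := h.nf hy hn y2
  rw [conj_mul, conj_eq_one_iff, h1.mul_mul_mul_comm, ← map_mul, (cT h.dc h2 h2).1, map_one, one_mul]

/-- products of three elements -/
def pw3 {K : Type*} [Group K] (a : Fin 3 → K) (u : Fin 3 → ZMod 2) : K :=
  a 0 ^ (u 0).val * a 1 ^ (u 1).val * a 2 ^ (u 2).val

theorem map_pw3 {K K' : Type*} [Group K] [Group K'] (φ : K →* K') (a : Fin 3 → K) (u : Fin 3 → ZMod 2) :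
    φ (pw3 a u) = pw3 (fun i => φ (a i)) u := by simp only [pw3, map_mul, map_pow]

theorem pw3_add {K : Type*} [Group K] {a : Fin 3 → K} (sq : ∀ i, a i * a i = 1) (cm : ∀ i k, Commute (a i) (a k))
    (u u' : Fin 3 → ZMod 2) : pw3 a (u + u') = pw3 a u * pw3 a u' := by
  have k : ∀ i, a i ^ ((u + u') i).val = a i ^ (u i).val * a i ^ (u' i).val := fun i => by
    rw [Pi.add_apply, ZMod.val_add, ← pow_eq_pow_mod _ ((pow_two _).trans (sq i)), pow_add]
  rw [pw3, pw3, pw3, k, k, k, ((cm 0 1).pow_pow _ _).mul_mul_mul_comm,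
    (((cm 0 2).pow_pow _ _).mul_left ((cm 1 2).pow_pow _ _)).mul_mul_mul_comm]

def xx : Fin 3 → V3 := ![![1, w, 0], ![1, 0, w], ![0, 1, w]]

theorem xx_spec : ∀ u : Fin 3 → ZMod 2, u ≠ 0 → ∃ x : V3, x ≠ 0 ∧ hx (rk x) ≠ hx (rk (fr ∘ x)) ∧
    hx (rk x * rk (fr ∘ x)) = hx (pw3 (fun i => rk (xx i)) u * pw3 (fun i => rk (fr ∘ xx i)) u) := by
  decide +kernel

theorem NF.exW (h : NF j π d s) {p : H} (h1 : Commute s (j p)) (h2 : π p ∈ Tr.range) (ss : s * s = 1) :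
    ∃ W : Subgroup H, Nat.card W = 8 ∧ ∀ w ∈ W, w * w = 1 ∧ IsSquare w ∧ Commute (j p * s) (j w) ∧
      IsConj (j p * s) (j p * s * j w) := by
  obtain ⟨c, -, E, q, hC⟩ := exists_cv h.dc
  have x0 : ∀ i, xx i ≠ 0 := by decide +kernel
  let a := pw3 fun i => hC.cl.lift (tp (xx i))
  let b := pw3 fun i => hC.cl.lift (tp (fr ∘ xx i))
  have m1 : ∀ i, π (hC.cl.lift (tp (xx i))) = Tr (rk (xx i)) := fun i =>
    (hC.cl.map_lift (tp_mem (x0 i))).trans (tp_eq _)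
  have m2 : ∀ i, π (hC.cl.lift (tp (fr ∘ xx i))) = Tr (rk (fr ∘ xx i)) := fun i =>
    (hC.cl.map_lift (tp_mem (h.fixp hC.cl (x0 i)).1)).trans (tp_eq _)
  have a1 : ∀ u, π (a u) = Tr (pw3 (fun i => rk (xx i)) u) := fun u => by simp only [a, map_pw3, m1]
  have b1 : ∀ u, π (b u) = Tr (pw3 (fun i => rk (fr ∘ xx i)) u) := fun u => by simp only [b, map_pw3, m2]
  have ab : ∀ u, s * j (a u) * s⁻¹ = j (b u) := fun u =>
    (map_pw3 ((MulAut.conj s).toMonoidHom.comp j) _ u).trans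
      ((congrArg (pw3 · u) (funext fun i => (h.fixp hC.cl (x0 i)).2)).trans (map_pw3 j _ u).symm)
  let F : Multiplicative (Fin 3 → ZMod 2) →* H := MonoidHom.mk' (fun u => a u.toAdd * b u.toAdd) fun u u' => by
    simp only [toAdd_mul, a, b]
    rw [pw3_add (fun i => (cT h.dc ⟨_, (m1 i).symm⟩ ⟨_, (m1 i).symm⟩).1)
      fun i k => (cT h.dc ⟨_, (m1 i).symm⟩ ⟨_, (m1 k).symm⟩).2,
      pw3_add (fun i => (cT h.dc ⟨_, (m2 i).symm⟩ ⟨_, (m2 i).symm⟩).1)
      fun i k => (cT h.dc ⟨_, (m2 i).symm⟩ ⟨_, (m2 k).symm⟩).2]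
    exact (cT h.dc ⟨_, (a1 _).symm⟩ ⟨_, (b1 _).symm⟩).2.mul_mul_mul_comm _ _
  have k : ∀ u ≠ 0, π (a u * b u) ≠ 1 ∧ IsSquare (a u * b u) := fun u hu => by
    obtain ⟨x, x1, x2, x3⟩ := xx_spec u hu
    have x4 := (h.fixp hC.cl x1).1
    have e : π (hC.cl.lift (tp x) * hC.cl.lift (tp (fr ∘ x))) = π (a u * b u) := by
      rw [map_mul, map_mul, a1, b1, hC.cl.map_lift (tp_mem x1), hC.cl.map_lift (tp_mem x4), tp_eq, tp_eq,
        ← map_mul, ← map_mul, hx_inj x3]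
    have n : hC.cl.lift (tp x) ≠ hC.cl.lift (tp (fr ∘ x)) := fun e => tp_ne x2 (by
      rw [← hC.cl.map_lift (tp_mem x1), e, hC.cl.map_lift (tp_mem x4)])
    have := hC.sq_pair (hC.cl.lift_mem (tp_mem x1)) (hC.cl.lift_mem (tp_mem x4)) n (cT h.dc (by
      rw [hC.cl.map_lift (tp_mem x1)]; exact tp_rg _) (by rw [hC.cl.map_lift (tp_mem x4)]; exact tp_rg _)).2
    refine ⟨fun e' => tp_ne x2 ?_, ?_⟩
    · rw [e', map_mul, hC.cl.map_lift (tp_mem x1), hC.cl.map_lift (tp_mem x4)] at e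
      exact (eq_inv_of_mul_eq_one_left e).trans (inv_eq_of_mul_eq_one_right (tv_sq _))
    · rcases h.dc.eq_or' e with e | e <;> rw [e]
      exacts [this.1, this.2]
  refine ⟨F.range, ?_, ?_⟩
  · rw [← Nat.card_congr (MonoidHom.ofInjective ((injective_iff_map_eq_one F).2 fun u e => by
      by_contra n
      exact (k u.toAdd n).1 ((congrArg π e).trans (map_one π)))).toEquiv]
    simp
  · rintro _ ⟨u, rfl⟩
    have c1 := cT h.dc ⟨_, (a1 u.toAdd).symm⟩ ⟨_, (b1 u.toAdd).symm⟩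
    have c2 := cT h.dc ⟨_, (b1 u.toAdd).symm⟩ h2
    have c3 := cT h.dc ⟨_, (a1 u.toAdd).symm⟩ h2
    have e1 := ab u.toAdd
    have e2 : s * j (b u.toAdd) * s⁻¹ = j (a u.toAdd) := by
      rw [← e1]
      calc _ = s * s * j (a u.toAdd) * (s * s)⁻¹ := by group
        _ = _ := by rw [ss]; group
    refine ⟨?_, ?_, ?_, isConj_iff.2 ⟨j (a u.toAdd), ?_⟩⟩
    · rw [← map_mul, (by decide +kernel : ∀ u : Multiplicative (Fin 3 → ZMod 2), u * u = 1), map_one]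
    · by_cases e : u.toAdd = 0
      · rw [show u = 1 from e, map_one]; exact IsSquare.one
      · exact (k _ e).2
    · refine ((c3.2.mul_left c2.2).map j).symm.mul_left (mul_inv_eq_iff_eq_mul.1 ?_)
      show s * j (a _ * b _) * s⁻¹ = j (a _ * b _)
      rw [map_mul, ← conj_mul, e1, e2, ← map_mul, ← map_mul, c1.2.eq]
    · show _ = j p * s * j (a _ * b _)
      rw [c1.2.eq, map_mul, ← map_inv, inv_eq_of_mul_eq_one_right c1.1, ← mul_assoc, ← mul_assoc, (c3.2.map j).eq,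
        mul_assoc (j p) s, mul_inv_eq_iff_eq_mul.1 e2, mul_assoc (j p) (j _)]

end RA

open RA

/-- outer involutions of the quotient lift to involutions -/
theorem Emb2.out_sq (h : Emb2 j π d) (hd : DC π d) {y : G} (hy : Commute y (j d)) (hn : y ∉ j.range) :
    y * y ≠ j d := fun e => by
  obtain ⟨π', s, k⟩ := exists_nf h hd
  obtain ⟨t, t1, t2, t3⟩ := h.oi
  exact hd.ne (h.inj (e.symm.trans (((k.sq_eq hy hn (Or.inr e)).2 ((k.sq_eq t1 t2 (Or.inl t3)).1 t3)).trans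
    (map_one j).symm)))

/-- an outer involution `t` has an eight-group `W` of squares with `t W` inside its class -/
theorem Emb2.out_W (h : Emb2 j π d) (hd : DC π d) {t : G} (ht : Commute t (j d)) (hn : t ∉ j.range)
    (tt : t * t = 1) : ∃ W : Subgroup H, Nat.card W = 8 ∧
      ∀ w ∈ W, w * w = 1 ∧ IsSquare w ∧ Commute t (j w) ∧ IsConj t (t * j w) := by
  obtain ⟨π', s, k⟩ := exists_nf h hd
  have ss := (k.sq_eq ht hn (Or.inl tt)).1 tt
  obtain ⟨m, p, rfl, h1, h2⟩ := k.nf ht hn (Or.inl tt)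
  obtain ⟨W, c, hW⟩ := k.exW h1 h2 ss
  refine ⟨W.map (MulAut.conj m).toMonoidHom, (Subgroup.card_map_of_injective (MulAut.conj m).injective).trans c, ?_⟩
  rintro _ ⟨w, hw, rfl⟩
  obtain ⟨w1, w2, w3, w4⟩ := hW w hw
  have e : j ((MulAut.conj m).toMonoidHom w) = j m * j w * (j m)⁻¹ := by simp
  refine ⟨by rw [← map_mul, w1, map_one], isSquare_cj m w2, e ▸ w3.conj _, ?_⟩
  rw [e, conj_mul]
  exact ((isConj_cj _ _).symm.trans w4).trans (isConj_cj _ _)

end Cfsg.Agent.F3
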